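import Cfsg.Agent.M24.Trans

/-!
Chains of point orbits inside stabilisers: orders and multiple transitivity.
-/

set_option autoImplicit false

namespace Cfsg.Agent.M24

open scoped Pointwise

/-- Points lying in the same masks of `fx` as the point `i`. -/
def sigList (fx : List ℕ) (i : ℕ) : List ℕ :=
  (List.range 24).filter fun j => fx.all fun m => m.testBit j == m.testBit i

/-- A chain of point orbit certificates. -/
def chainCheck : List ℕ → List (ℕ × Cert) → Bool
  | _, [] => true
  | fx, (i, c) :: rest => decide (i < 24) && c.ok && c.fx == fx && c.x0 == 2 ^ i &&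
      ((sigList fx i).all fun j => c.elems.contains (2 ^ j)) && chainCheck (2 ^ i :: fx) rest

/-- Product of the orbit lengths along a chain. -/
def chainLen : List ℕ → List (ℕ × Cert) → ℕ
  | _, [] => 1
  | fx, (i, _) :: rest => (sigList fx i).length * chainLen (2 ^ i :: fx) rest

theorem testBit_of_fix {fx : List ℕ} {g : Equiv.Perm GolayPt} (hg : g ∈ fixAll fx) {m : ℕ}
    (hm : m ∈ fx) (x : GolayPt) : m.testBit (ix (g x)) = m.testBit (ix x) := by
  have h := hg.2 m hm
  rw [Bool.eq_iff_iff, ← mem_toSet, ← mem_toSet]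
  conv_lhs => rw [← h, ← Equiv.Perm.smul_def, Finset.smul_mem_smul_finset_iff]

theorem mem_sigList_of_fix {fx : List ℕ} {g : Equiv.Perm GolayPt} (hg : g ∈ fixAll fx) {i : ℕ}
    (hi : i < 24) : ix (g (pt i)) ∈ sigList fx i := by
  simp only [sigList, List.mem_filter, List.mem_range, List.all_eq_true, beq_iff_eq]
  exact ⟨ix_lt _, fun m hm => by rw [testBit_of_fix hg hm, ix_pt hi]⟩

theorem card_chain : ∀ (cs : List (ℕ × Cert)) (fx : List ℕ), chainCheck fx cs = true →
    ∃ fx' : List ℕ, fx' = (cs.map fun ic => 2 ^ ic.1).reverse ++ fx ∧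
      Nat.card (fixAll fx) = (chainLen fx cs) * Nat.card (fixAll fx')
  | [], fx, _ => ⟨fx, by simp, by simp [chainLen]⟩
  | (i, c) :: rest, fx, h => by
    simp only [chainCheck, Bool.and_eq_true, decide_eq_true_eq, beq_iff_eq, List.all_eq_true,
      List.contains_iff_mem] at h
    obtain ⟨⟨⟨⟨⟨hi, hok⟩, hfx⟩, hx0⟩, hall⟩, hrest⟩ := h
    obtain ⟨fx', he, hcard⟩ := card_chain rest _ hrest
    have hnd : ((sigList fx i).map fun j => 2 ^ j).Nodup :=
      (List.nodup_range.filter _).map (Nat.pow_right_injective le_rfl)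
    have h1 := card_fixAll hok ((sigList fx i).map fun j => 2 ^ j) hnd
      (fun m hm => by
        obtain ⟨j, hj, rfl⟩ := List.mem_map.1 hm
        exact Nat.pow_lt_pow_right (by norm_num) (List.mem_range.1 (List.mem_filter.1 hj).1))
      (by rw [hx0]; exact Nat.pow_lt_pow_right (by norm_num) hi)
      (fun m hm => by
        obtain ⟨j, hj, rfl⟩ := List.mem_map.1 hm
        exact hall j hj)
      (fun g hg => by
        rw [hfx] at hg
        refine List.mem_map.2 ⟨_, mem_sigList_of_fix hg hi, ?_⟩
        rw [hx0, toSet_two_pow hi, Finset.smul_finset_singleton, Equiv.Perm.smul_def]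
        conv_rhs => rw [← pt_ix (g (pt i)), ← toSet_two_pow (ix_lt _),
          toMask_toSet (Nat.pow_lt_pow_right (by norm_num) (ix_lt _))])
    rw [hfx, hx0, List.length_map, hcard, ← mul_assoc] at h1
    exact ⟨fx', by simp [he], by simpa [chainLen] using h1⟩

theorem chain_map : ∀ (cs : List (ℕ × Cert)) (fx : List ℕ) (ys : List GolayPt),
    chainCheck fx cs = true → ys.length = cs.length → ys.Nodup → (cs.map fun ic => ic.1).Nodup →
    (∀ k (h1 : k < cs.length) (h2 : k < ys.length), ∀ m ∈ fx,
      m.testBit (ix ys[k]) = m.testBit (cs[k]).1) →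
    ∃ g ∈ fixAll fx, ∀ k (h1 : k < cs.length) (h2 : k < ys.length), g (pt (cs[k]).1) = ys[k]
  | [], fx, ys, _, _, _, _, _ => ⟨1, (fixAll fx).one_mem, fun k h1 => absurd h1 (Nat.not_lt_zero k)⟩
  | (i, c) :: rest, fx, [], _, hl, _, _, _ => by simp at hl
  | (i, c) :: rest, fx, y :: ys, h, hl, hnd, hcnd, hsig => by
    simp only [chainCheck, Bool.and_eq_true, decide_eq_true_eq, beq_iff_eq, List.all_eq_true,
      List.contains_iff_mem] at h
    obtain ⟨⟨⟨⟨⟨hi, hok⟩, hfx⟩, hx0⟩, hall⟩, hrest⟩ := h
    have hy : ix y ∈ sigList fx i := by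
      simp only [sigList, List.mem_filter, List.mem_range, List.all_eq_true, beq_iff_eq]
      exact ⟨ix_lt _, fun m hm => hsig 0 (by simp) (by simp) m hm⟩
    obtain ⟨u, hu, hu'⟩ := c.reaches hok (hall _ hy)
    rw [hfx] at hu
    rw [hx0, smul_toSet_two_pow_iff u hi (ix_lt _), pt_ix] at hu'
    simp only [List.map_cons, List.nodup_cons] at hnd hcnd
    have hlt : ∀ (cs : List (ℕ × Cert)) (fx : List ℕ), chainCheck fx cs = true →
        ∀ k (h1 : k < cs.length), (cs[k]).1 < 24 := by
      intro cs
      induction cs with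
      | nil => intro _ _ k h1; simp at h1
      | cons a t ih =>
        intro fx hh k h1
        obtain ⟨j, d⟩ := a
        simp only [chainCheck, Bool.and_eq_true, decide_eq_true_eq] at hh
        cases k with
        | zero => simpa using hh.1.1.1.1.1
        | succ k => exact ih _ hh.2 k _
    obtain ⟨g, hg, hgk⟩ := chain_map rest (2 ^ i :: fx) (ys.map fun z => u⁻¹ z) hrest
      (by simpa using hl) (hnd.2.map (Equiv.injective _)) hcnd.2 (by
        intro k h1 h2 m hm
        have h2' : k < ys.length := by simpa using h2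
        rw [List.getElem_map]
        rcases List.mem_cons.1 hm with rfl | hm
        · have hne : ix (u⁻¹ ys[k]) ≠ i := by
            intro e
            apply hnd.1
            have : y = ys[k] := by rw [← hu', ← e, pt_ix]; simp
            rw [this]; exact List.getElem_mem h2'
          have hne' : (rest[k]).1 ≠ i := fun e => hcnd.1 (List.mem_map.2 ⟨rest[k], List.getElem_mem h1, e⟩)
          rw [Nat.testBit_two_pow, Nat.testBit_two_pow, decide_eq_false (Ne.symm hne),
            decide_eq_false (Ne.symm hne')]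
        · rw [testBit_of_fix ((fixAll fx).inv_mem hu) hm]
          exact hsig (k + 1) (by simpa using h1) (by simpa using h2') m hm)
    refine ⟨u * g, (fixAll fx).mul_mem hu ⟨hg.1, fun m hm => hg.2 m (List.mem_cons_of_mem _ hm)⟩,
      fun k h1 h2 => ?_⟩
    cases k with
    | zero =>
      simp [fixAll_point hg hi List.mem_cons_self, hu']
    | succ k =>
      have := hgk k (by simpa using h1) (by simpa using h2)
      simp [this]

/-- layer data -/
def dodFive0L0P0 : List (List ℕ) := [[0, 1]]

/-- layer data -/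
def dodFive0L1P0 : List (List ℕ) := [[1], [0, 1]]

/-- layer data -/
def dodFive0L2P0 : List (List ℕ) := [[1], [0, 1], [0]]

/-- layer data -/
def dodFive0L3P0 : List (List ℕ) := [[0], [], [1], []]

/-- An orbit certificate. -/
def dodFive0 : Cfsg.Agent.M24.Cert where
  fx := [340831]
  gens := [483601296560667398520903044301987954, 923355988689091409721706073569920204]
  x0 := 1
  sp := [dodFive0L0P0, dodFive0L1P0, dodFive0L2P0, dodFive0L3P0]

/-- layer data -/
def dodFive1L0P0 : List (List ℕ) := [[0, 1]]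

/-- layer data -/
def dodFive1L1P0 : List (List ℕ) := [[0, 1], [1]]

/-- layer data -/
def dodFive1L2P0 : List (List ℕ) := [[0], [0, 1], [1]]

/-- layer data -/
def dodFive1L3P0 : List (List ℕ) := [[0], [], [], []]

/-- An orbit certificate. -/
def dodFive1 : Cfsg.Agent.M24.Cert where
  fx := [1, 340831]
  gens := [853137224486730965590336334042636864, 897790027250060230391123922079823104]
  x0 := 2
  sp := [dodFive1L0P0, dodFive1L1P0, dodFive1L2P0, dodFive1L3P0]

/-- layer data -/
def dodFive2L0P0 : List (List ℕ) := [[0, 1]]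

/-- layer data -/
def dodFive2L1P0 : List (List ℕ) := [[0, 1], [0]]

/-- layer data -/
def dodFive2L2P0 : List (List ℕ) := [[1], [0], []]

/-- layer data -/
def dodFive2L3P0 : List (List ℕ) := [[0, 1], []]

/-- An orbit certificate. -/
def dodFive2 : Cfsg.Agent.M24.Cert where
  fx := [2, 1, 340831]
  gens := [320845750606218533663718373087004704, 891183372743084274819838727840776224]
  x0 := 4
  sp := [dodFive2L0P0, dodFive2L1P0, dodFive2L2P0, dodFive2L3P0]

/-- layer data -/
def dodFive3L0P0 : List (List ℕ) := [[0, 1]]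

/-- layer data -/
def dodFive3L1P0 : List (List ℕ) := [[0, 1], [0]]

/-- layer data -/
def dodFive3L2P0 : List (List ℕ) := [[], [0], [0]]

/-- layer data -/
def dodFive3L3P0 : List (List ℕ) := [[0], []]

/-- An orbit certificate. -/
def dodFive3 : Cfsg.Agent.M24.Cert where
  fx := [4, 2, 1, 340831]
  gens := [984769902586367543974814854303385632, 425260589770023667920228681599158304]
  x0 := 8
  sp := [dodFive3L0P0, dodFive3L1P0, dodFive3L2P0, dodFive3L3P0]

/-- layer data -/
def dodFive4L0P0 : List (List ℕ) := [[0, 1]]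

/-- layer data -/
def dodFive4L1P0 : List (List ℕ) := [[0, 1], [0]]

/-- layer data -/
def dodFive4L2P0 : List (List ℕ) := [[0, 1], [], []]

/-- An orbit certificate. -/
def dodFive4 : Cfsg.Agent.M24.Cert where
  fx := [8, 4, 2, 1, 340831]
  gens := [227578386318009578406903204956702752, 715872302521680643580706198532491296]
  x0 := 16
  sp := [dodFive4L0P0, dodFive4L1P0, dodFive4L2P0]

/-- A chain of point orbits. -/
def dodFive : List (ℕ × Cert) := [(0, dodFive0), (1, dodFive1), (2, dodFive2), (3, dodFive3), (4, dodFive4)]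

/-- layer data -/
def dodPtOut0L0P0 : List (List ℕ) := [[0, 1]]

/-- layer data -/
def dodPtOut0L1P0 : List (List ℕ) := [[0, 1], [0, 1]]

/-- layer data -/
def dodPtOut0L2P0 : List (List ℕ) := [[0], [0], [0, 1], [0]]

/-- An orbit certificate. -/
def dodPtOut0 : Cfsg.Agent.M24.Cert where
  fx := [1, 340831]
  gens := [879751195998581591598133589983924256, 222831996830437377698404198976166272]
  x0 := 32
  sp := [dodPtOut0L0P0, dodPtOut0L1P0, dodPtOut0L2P0]

/-- layer data -/
def dodPtOut1L0P0 : List (List ℕ) := [[0, 1]]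

/-- layer data -/
def dodPtOut1L1P0 : List (List ℕ) := [[0, 1], [0]]

/-- layer data -/
def dodPtOut1L2P0 : List (List ℕ) := [[0], [0], []]

/-- layer data -/
def dodPtOut1L3P0 : List (List ℕ) := [[0], [0, 1]]

/-- An orbit certificate. -/
def dodPtOut1 : Cfsg.Agent.M24.Cert where
  fx := [32, 1, 340831]
  gens := [604440779428086429729981289983940896, 850698184357602323212296630204404224]
  x0 := 128
  sp := [dodPtOut1L0P0, dodPtOut1L1P0, dodPtOut1L2P0, dodPtOut1L3P0]

/-- layer data -/
def dodPtOut2L0P0 : List (List ℕ) := [[0, 1]]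

/-- layer data -/
def dodPtOut2L1P0 : List (List ℕ) := [[0, 1], [0]]

/-- layer data -/
def dodPtOut2L2P0 : List (List ℕ) := [[1], [1], [1]]

/-- layer data -/
def dodPtOut2L3P0 : List (List ℕ) := [[], [], [1]]

/-- An orbit certificate. -/
def dodPtOut2 : Cfsg.Agent.M24.Cert where
  fx := [128, 32, 1, 340831]
  gens := [609636766906207105165638742985410848, 721027384335001400118494989572640160]
  x0 := 1024
  sp := [dodPtOut2L0P0, dodPtOut2L1P0, dodPtOut2L2P0, dodPtOut2L3P0]

/-- A chain of point orbits. -/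
def dodPtOut : List (ℕ × Cert) := [(5, dodPtOut0), (7, dodPtOut1), (10, dodPtOut2)]

/-- layer data -/
def dodThreeOne0L0P0 : List (List ℕ) := [[0, 1, 2, 3]]

/-- layer data -/
def dodThreeOne0L1P0 : List (List ℕ) := [[1, 2, 3], [3], [3], []]

/-- layer data -/
def dodThreeOne0L2P0 : List (List ℕ) := [[3], [3], [], [], []]

/-- An orbit certificate. -/
def dodThreeOne0 : Cfsg.Agent.M24.Cert where
  fx := [4, 2, 1, 340831]
  gens := [899214583888558003150069357295700000, 608405391266436187982588441666881568, 984534996141977609297800625156032544, 808997782816701570676445371466909728]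
  x0 := 32
  sp := [dodThreeOne0L0P0, dodThreeOne0L1P0, dodThreeOne0L2P0]

/-- A chain of point orbits. -/
def dodThreeOne : List (ℕ × Cert) := [(5, dodThreeOne0)]

theorem dodFive_ok : chainCheck [dod0] dodFive = true := by decide +kernel
theorem dodPtOut_ok : chainCheck [1, dod0] dodPtOut = true := by decide +kernel
theorem dodThreeOne_ok : chainCheck [4, 2, 1, dod0] dodThreeOne = true := by decide +kernel

theorem stabilizer_eq_fixAll_dod0 :
    M24 ⊓ MulAction.stabilizer (Equiv.Perm GolayPt) (toSet dod0) = fixAll [dod0] := by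
  ext g; simp [mem_fixAll, MulAction.mem_stabilizer_iff]

theorem card_fixAll_dod0 : Nat.card (fixAll [dod0]) = 95040 := by
  have hok : dodTrans.ok = true := by decide +kernel
  have hx : dodTrans.x0 ∈ dodL := by decide +kernel
  have h := card_fixAll hok dodL (class_nodup 12 _ dodL_eq) (fun m hm => class_lt 12 _ dodL_eq hm)
    (class_lt 12 _ dodL_eq hx)
    (fun y hy => mem_of_idxBits
      (fun m hm => ((mem_class 12 _ dodL_eq (class_lt 12 _ dodL_eq hm)).1 hm).1)
      (by decide +kernel) (by decide +kernel) hy)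
    (fun g hg => by
      obtain ⟨m, hm, e⟩ := mem_dodecads_list.1 ((smul_mem_dodecads hg.1).2
        (mem_dodecads_list.2 ⟨_, hx, rfl⟩))
      rw [← e, toMask_toSet (class_lt 12 _ dodL_eq hm)]; exact hm)
  have e1 : dodTrans.fx = [] := rfl
  have e2 : dodTrans.x0 = dod0 := rfl
  have e3 : dodL.length = 2576 := by decide +kernel
  rw [e1, e2, fixAll_nil, card_M24, e3] at h
  omega

theorem card_fixAll_dodFive :
    Nat.card (fixAll (((dodFive.map fun ic => 2 ^ ic.1).reverse) ++ [dod0])) = 1 := by
  obtain ⟨fx', rfl, h⟩ := card_chain _ _ dodFive_ok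
  have e : chainLen [dod0] dodFive = 95040 := by decide +kernel
  rw [card_fixAll_dod0, e] at h
  omega

theorem card_fixAll_dod_pt : Nat.card (fixAll [1, dod0]) = 7920 := by
  obtain ⟨fx', rfl, h⟩ := card_chain (dodFive.take 1) [dod0] (by decide +kernel)
  have e : chainLen [dod0] (dodFive.take 1) = 12 := by decide +kernel
  rw [card_fixAll_dod0, e] at h
  have e' : ((dodFive.take 1).map fun ic => 2 ^ ic.1).reverse ++ [dod0] = [1, dod0] := by decide +kernel
  rw [e'] at h
  omega

theorem card_fixAll_dod_three : Nat.card (fixAll [4, 2, 1, dod0]) = 72 := by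
  obtain ⟨fx', rfl, h⟩ := card_chain (dodFive.take 3) [dod0] (by decide +kernel)
  have e : chainLen [dod0] (dodFive.take 3) = 1320 := by decide +kernel
  rw [card_fixAll_dod0, e] at h
  have e' : ((dodFive.take 3).map fun ic => 2 ^ ic.1).reverse ++ [dod0] = [4, 2, 1, dod0] := by
    decide +kernel
  rw [e'] at h
  omega

/-- The stabiliser of any dodecad. -/
theorem card_stab_dodecad {d : Finset GolayPt} (hd : d ∈ dodecads) :
    Nat.card ↥(M24 ⊓ MulAction.stabilizer (Equiv.Perm GolayPt) d) = 95040 := by
  obtain ⟨g, hg, rfl⟩ := exists_map_dodecad hd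
  rw [← card_fixAll_dod0]
  refine Nat.card_congr
    { toFun := fun x => ⟨g⁻¹ * x.1 * g, ?_⟩
      invFun := fun x => ⟨g * x.1 * g⁻¹, ?_⟩
      left_inv := fun x => Subtype.ext (by simp [mul_assoc])
      right_inv := fun x => Subtype.ext (by simp [mul_assoc]) }
  · refine ⟨M24.mul_mem (M24.mul_mem (M24.inv_mem hg) x.2.1) hg, fun m hm => ?_⟩
    rw [List.mem_singleton] at hm
    subst hm
    rw [mul_smul, mul_smul, MulAction.mem_stabilizer_iff.1 x.2.2, inv_smul_smul]
  · refine ⟨M24.mul_mem (M24.mul_mem hg x.2.1) (M24.inv_mem hg), ?_⟩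
    exact MulAction.mem_stabilizer_iff.2 (conj_smul (x.2.2 dod0 List.mem_cons_self))

/-- The stabiliser of any dodecad and one of its points. -/
theorem card_stab_dodecad_pt {d : Finset GolayPt} (hd : d ∈ dodecads) {p : GolayPt} (hp : p ∈ d) :
    Nat.card ↥(M24 ⊓ MulAction.stabilizer (Equiv.Perm GolayPt) d ⊓
      MulAction.stabilizer (Equiv.Perm GolayPt) p) = 7920 := by
  obtain ⟨g, hg, rfl, rfl⟩ := exists_map_dodecad_pt_mem hd hp
  rw [← card_fixAll_dod_pt]
  refine Nat.card_congr
    { toFun := fun x => ⟨g⁻¹ * x.1 * g, ?_⟩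
      invFun := fun x => ⟨g * x.1 * g⁻¹, ?_⟩
      left_inv := fun x => Subtype.ext (by simp [mul_assoc])
      right_inv := fun x => Subtype.ext (by simp [mul_assoc]) }
  · refine ⟨M24.mul_mem (M24.mul_mem (M24.inv_mem hg) x.2.1.1) hg, ?_⟩
    intro m hm
    simp only [List.mem_cons, List.not_mem_nil, or_false] at hm
    rcases hm with rfl | rfl
    · rw [show (1 : ℕ) = 2 ^ 0 from rfl, smul_toSet_two_pow_iff _ (by norm_num) (by norm_num)]
      have h := MulAction.mem_stabilizer_iff.1 x.2.2
      rw [Equiv.Perm.smul_def] at h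
      simp [h]
    · rw [mul_smul, mul_smul, MulAction.mem_stabilizer_iff.1 x.2.1.2, inv_smul_smul]
  · refine ⟨⟨M24.mul_mem (M24.mul_mem hg x.2.1) (M24.inv_mem hg), ?_⟩, ?_⟩
    · exact MulAction.mem_stabilizer_iff.2 (conj_smul (x.2.2 dod0 (by simp)))
    · exact MulAction.mem_stabilizer_iff.2 (conj_apply (fixAll_point x.2 (by norm_num) (by simp)))

end Cfsg.Agent.M24
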