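import Cfsg.Agent.M24.Facts

/-!
Orbit certificates for stabilisers in `Cfsg.M24` of lists of masks.
-/

set_option autoImplicit false

namespace Cfsg.Agent.M24

open scoped Pointwise

/-- The elements of `M24` fixing each of the sets with masks in `fx`. -/
def fixAll (fx : List ℕ) : Subgroup (Equiv.Perm GolayPt) where
  carrier := {g | g ∈ M24 ∧ ∀ m ∈ fx, g • toSet m = toSet m}
  one_mem' := ⟨M24.one_mem, fun _ _ => one_smul _ _⟩
  mul_mem' := fun ⟨ha, ha'⟩ ⟨hb, hb'⟩ =>
    ⟨M24.mul_mem ha hb, fun m hm => by rw [mul_smul, hb' m hm, ha' m hm]⟩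
  inv_mem' := fun ⟨ha, ha'⟩ => ⟨M24.inv_mem ha, fun m hm => by
    rw [inv_smul_eq_iff, ha' m hm]⟩

theorem mem_fixAll {fx : List ℕ} {g : Equiv.Perm GolayPt} :
    g ∈ fixAll fx ↔ g ∈ M24 ∧ ∀ m ∈ fx, g • toSet m = toSet m := Iff.rfl

theorem toSet_two_pow {i : ℕ} (hi : i < 24) : toSet (2 ^ i) = {pt i} := by
  revert i; decide +kernel

theorem smul_toSet_two_pow_iff (g : Equiv.Perm GolayPt) {i j : ℕ} (hi : i < 24) (hj : j < 24) :
    g • toSet (2 ^ i) = toSet (2 ^ j) ↔ g (pt i) = pt j := by
  rw [toSet_two_pow hi, toSet_two_pow hj, Finset.smul_finset_singleton, Finset.singleton_inj,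
    Equiv.Perm.smul_def]

/-- All generators preserve the code and fix the masks in `fx`. -/
def gensOk (fx gens : List ℕ) : Bool :=
  gens.all fun p => autB p && fx.all fun m => pimg p m == m

theorem toPerm_mem_fixAll {fx gens : List ℕ} (h : gensOk fx gens = true) {p : ℕ} (hp : p ∈ gens) :
    toPerm p ∈ fixAll fx := by
  simp only [gensOk, List.all_eq_true, Bool.and_eq_true, beq_iff_eq] at h
  obtain ⟨h1, h2⟩ := h p hp
  exact ⟨toPerm_mem h1, fun m hm => by rw [← toSet_pimg (autB_ok h1), h2 m hm]⟩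

/-- Images of a layer: the `i`-th element is moved by the generators numbered in the `i`-th entry. -/
def nextLayer (gens : List ℕ) : List ℕ → List (List ℕ) → List ℕ
  | x :: xs, gs :: gss => gs.map (fun k => pimg (gens.getD k 0) x) ++ nextLayer gens xs gss
  | _, _ => []

/-- Elements of an orbit, layer by layer. -/
def layers (gens : List ℕ) : List ℕ → List (List (List ℕ)) → List ℕ
  | cur, [] => cur
  | cur, sp :: rest => cur ++ layers gens (nextLayer gens cur sp) rest

/-- All generator numbers are in range. -/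
def specOk (gens : List ℕ) (sp : List (List (List ℕ))) : Bool :=
  sp.all fun l => l.all fun gs => gs.all fun k => decide (k < gens.length)

/-- `x` is the image of `x0` under the group. -/
def Reaches (fx : List ℕ) (x0 x : ℕ) : Prop :=
  ∃ g ∈ fixAll fx, g • toSet x0 = toSet x

theorem nextLayer_reaches {fx gens : List ℕ} (hg : gensOk fx gens = true) {x0 : ℕ} :
    ∀ (cur : List ℕ) (sp : List (List ℕ)), (∀ x ∈ cur, Reaches fx x0 x) →
      (∀ gs ∈ sp, ∀ k ∈ gs, k < gens.length) → ∀ y ∈ nextLayer gens cur sp, Reaches fx x0 y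
  | [], _, _, _, y, hy => by simp [nextLayer] at hy
  | _ :: _, [], _, _, y, hy => by simp [nextLayer] at hy
  | x :: xs, gs :: gss, hx, hk, y, hy => by
    simp only [nextLayer, List.mem_append, List.mem_map] at hy
    rcases hy with ⟨k, hk', rfl⟩ | hy
    · obtain ⟨g, hgm, hgx⟩ := hx x List.mem_cons_self
      have hkl := hk gs List.mem_cons_self k hk'
      have hmem : gens.getD k 0 ∈ gens := by
        rw [List.getD_eq_getElem _ _ hkl]; exact List.getElem_mem hkl
      have hp := toPerm_mem_fixAll hg hmem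
      simp only [gensOk, List.all_eq_true, Bool.and_eq_true] at hg
      refine ⟨toPerm (gens.getD k 0) * g, (fixAll fx).mul_mem hp hgm, ?_⟩
      rw [mul_smul, hgx, toSet_pimg (autB_ok (hg _ hmem).1)]
    · exact nextLayer_reaches hg xs gss (fun z hz => hx z (List.mem_cons_of_mem _ hz))
        (fun g' hg' => hk g' (List.mem_cons_of_mem _ hg')) y hy

theorem layers_reaches {fx gens : List ℕ} (hg : gensOk fx gens = true) {x0 : ℕ} :
    ∀ (sp : List (List (List ℕ))) (cur : List ℕ), (∀ x ∈ cur, Reaches fx x0 x) →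
      specOk gens sp = true → ∀ y ∈ layers gens cur sp, Reaches fx x0 y
  | [], cur, hx, _, y, hy => hx y hy
  | l :: rest, cur, hx, hs, y, hy => by
    simp only [specOk, List.all_cons, Bool.and_eq_true] at hs
    simp only [layers, List.mem_append] at hy
    rcases hy with hy | hy
    · exact hx y hy
    · refine layers_reaches hg rest _ (nextLayer_reaches hg cur l hx ?_) hs.2 y hy
      simpa [List.all_eq_true] using hs.1

/-- An orbit certificate: stabilised masks, generators, base element, layers. -/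
structure Cert where
  /-- stabilised masks -/
  fx : List ℕ
  /-- generators -/
  gens : List ℕ
  /-- base element -/
  x0 : ℕ
  /-- layers -/
  sp : List (List (List ℕ))

/-- The elements reached. -/
def Cert.elems (c : Cert) : List ℕ := layers c.gens [c.x0] c.sp

/-- The certificate is well formed. -/
def Cert.ok (c : Cert) : Bool := gensOk c.fx c.gens && specOk c.gens c.sp

theorem Cert.reaches {c : Cert} (h : c.ok = true) {y : ℕ} (hy : y ∈ c.elems) :
    Reaches c.fx c.x0 y := by
  simp only [Cert.ok, Bool.and_eq_true] at h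
  refine layers_reaches h.1 c.sp [c.x0] (fun x hx => ?_) h.2 y hy
  rw [List.mem_singleton] at hx
  subst hx
  exact ⟨1, (fixAll _).one_mem, one_smul _ _⟩

/-- Bits of the code indices of a list. -/
def idxBits : List ℕ → ℕ
  | [] => 0
  | m :: l => 2 ^ (m % 4096) ||| idxBits l

theorem testBit_idxBits (k : ℕ) :
    ∀ l, (idxBits l).testBit k = true ↔ ∃ m ∈ l, m % 4096 = k
  | [] => by simp [idxBits]
  | m :: l => by simp [idxBits, Nat.testBit_or, testBit_idxBits k l, Nat.testBit_two_pow]

theorem mem_of_idxBits {cls el : List ℕ} (hcls : ∀ m ∈ cls, inCode m = true)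
    (hel : el.all inCode = true) (h : idxBits cls = idxBits el) {m : ℕ} (hm : m ∈ cls) : m ∈ el := by
  have := (testBit_idxBits (m % 4096) cls).2 ⟨m, hm, rfl⟩
  rw [h, testBit_idxBits] at this
  obtain ⟨x, hx, hxm⟩ := this
  have h1 := hcls m hm
  have h2 := List.all_eq_true.1 hel x hx
  rw [inCode, beq_iff_eq] at h1 h2
  rwa [← h1, ← hxm, h2]

/-- Two sets of the same class are moved to each other by the group. -/
theorem exists_map_of_reaches {fx : List ℕ} {x0 a b : ℕ} (ha : Reaches fx x0 a) (hb : Reaches fx x0 b) :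
    ∃ g ∈ fixAll fx, g • toSet a = toSet b := by
  obtain ⟨u, hu, rfl'⟩ := ha
  obtain ⟨v, hv, hvb⟩ := hb
  refine ⟨v * u⁻¹, (fixAll fx).mul_mem hv ((fixAll fx).inv_mem hu), ?_⟩
  rw [← rfl', mul_smul, inv_smul_smul, hvb]

/-- The order of a stabiliser from an orbit certificate. -/
theorem card_fixAll {c : Cert} (h : c.ok = true) (L : List ℕ) (hnd : L.Nodup)
    (hlt : ∀ m ∈ L, m < 2 ^ 24) (hx0 : c.x0 < 2 ^ 24) (hL : ∀ y ∈ L, y ∈ c.elems)
    (hinv : ∀ g ∈ fixAll c.fx, toMask (g • toSet c.x0) ∈ L) :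
    Nat.card (fixAll c.fx) = L.length * Nat.card (fixAll (c.x0 :: c.fx)) := by
  classical
  have horb : MulAction.orbit (fixAll c.fx) (toSet c.x0) =
      ((L.map toSet).toFinset : Set (Finset GolayPt)) := by
    ext y
    simp only [MulAction.mem_orbit_iff, List.coe_toFinset, Set.mem_setOf_eq, List.mem_map]
    constructor
    · rintro ⟨g, rfl⟩; exact ⟨_, hinv g g.2, toSet_toMask _⟩
    · rintro ⟨m, hm, rfl⟩
      obtain ⟨g, hg, hgm⟩ := c.reaches h (hL m hm)
      exact ⟨⟨g, hg⟩, hgm⟩
  have h1 := Nat.card_congr (MulAction.orbitProdStabilizerEquivGroup (fixAll c.fx) (toSet c.x0))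
  rw [Nat.card_prod, horb, Nat.card_coe_set_eq, Set.ncard_coe_finset, List.toFinset_card_of_nodup
    (List.Nodup.map_on (fun a ha b hb e => toSet_inj (hlt a ha) (hlt b hb) e) hnd),
    List.length_map, card_stabilizer_subgroup] at h1
  rw [← h1]
  congr 1
  refine Nat.card_congr (Equiv.setCongr ?_)
  ext g
  simp only [SetLike.mem_coe, Subgroup.mem_inf, mem_fixAll, MulAction.mem_stabilizer_iff,
    List.mem_cons, forall_eq_or_imp]
  tauto

theorem fixAll_nil : fixAll [] = M24 := by
  ext g; simp [mem_fixAll]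

end Cfsg.Agent.M24
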