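import Cfsg.Agent.M24.Classes
import Cfsg.Agent.M24.Orbit

/-!
Tools to reduce statements about configurations of octads and dodecads to canonical configurations.
-/

set_option autoImplicit false

namespace Cfsg.Agent.M24

open scoped Pointwise

/-- Every element of `L` is reached by the certificate of its key, all stabilising `fx`. -/
def keyCheck (fx L : List ℕ) (key : ℕ → ℕ) (cs : List (ℕ × Cert)) : Bool :=
  cs.all (fun kc => kc.2.ok && kc.2.fx == fx && kc.2.elems.all inCode &&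
    idxBits (L.filter fun m => key m == kc.1) == idxBits kc.2.elems) &&
  L.all (fun m => inCode m && cs.any fun kc => kc.1 == key m) &&
  decide ((cs.map (fun kc => kc.1)).Nodup)

theorem map_of_keyCheck {fx L : List ℕ} {key : ℕ → ℕ} {cs : List (ℕ × Cert)}
    (h : keyCheck fx L key cs = true) {a b : ℕ} (ha : a ∈ L) (hb : b ∈ L) (hab : key a = key b) :
    ∃ g ∈ fixAll fx, g • toSet a = toSet b := by
  simp only [keyCheck, Bool.and_eq_true, List.all_eq_true, decide_eq_true_eq, List.any_eq_true,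
    beq_iff_eq] at h
  obtain ⟨⟨h1, h2⟩, -⟩ := h
  obtain ⟨⟨k, c⟩, hc, hk⟩ := (h2 a ha).2
  obtain ⟨⟨⟨hok, hfx⟩, hel⟩, hbits⟩ := h1 _ hc
  simp only at hk hok hfx hel hbits
  have key1 : ∀ m ∈ L, key m = k → Reaches fx c.x0 m := by
    intro m hm hmk
    have : m ∈ c.elems := mem_of_idxBits (fun x hx => (h2 x (List.mem_of_mem_filter hx)).1)
      (List.all_eq_true.2 hel) hbits (List.mem_filter.2 ⟨hm, by simp [hmk]⟩)
    exact hfx ▸ c.reaches hok this
  exact exists_map_of_reaches (key1 a ha hk.symm) (key1 b hb (hab.symm.trans hk.symm))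

/-- An orbit certificate on small lists. -/
def listCheck (L : List ℕ) (c : Cert) : Bool :=
  c.ok && L.all fun m => c.elems.contains m

theorem map_of_listCheck {L : List ℕ} {c : Cert} (h : listCheck L c = true) {a b : ℕ}
    (ha : a ∈ L) (hb : b ∈ L) : ∃ g ∈ fixAll c.fx, g • toSet a = toSet b := by
  simp only [listCheck, Bool.and_eq_true, List.all_eq_true, List.contains_iff_mem] at h
  exact exists_map_of_reaches (c.reaches h.1 (h.2 a ha)) (c.reaches h.1 (h.2 b hb))

theorem map_point {L : List ℕ} {c : Cert} (h : listCheck L c = true) {i j : ℕ} (hi : i < 24)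
    (hj : j < 24) (hiL : 2 ^ i ∈ L) (hjL : 2 ^ j ∈ L) : ∃ g ∈ fixAll c.fx, g (pt i) = pt j := by
  obtain ⟨g, hg, e⟩ := map_of_listCheck h hiL hjL
  exact ⟨g, hg, (smul_toSet_two_pow_iff g hi hj).1 e⟩

theorem fixAll_point {fx : List ℕ} {g : Equiv.Perm GolayPt} (hg : g ∈ fixAll fx) {i : ℕ}
    (hi : i < 24) (h : 2 ^ i ∈ fx) : g (pt i) = pt i :=
  (smul_toSet_two_pow_iff g hi hi).1 ((mem_fixAll.1 hg).2 _ h)

theorem card_smul_inter (g : Equiv.Perm GolayPt) (a b : ℕ) :
    (g • toSet a ∩ g • toSet b).card = pc (a &&& b) := by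
  rw [← Finset.smul_finset_inter, Finset.card_smul_finset, ← toSet_and, card_toSet]

theorem mem_smul_toSet (g : Equiv.Perm GolayPt) {i : ℕ} (hi : i < 24) (m : ℕ) :
    g (pt i) ∈ g • toSet m ↔ m.testBit i = true := by
  rw [← Equiv.Perm.smul_def, Finset.smul_mem_smul_finset_iff, mem_toSet, ix_pt hi]

theorem exists_pt (g : Equiv.Perm GolayPt) (x : GolayPt) : ∃ i < 24, g (pt i) = x :=
  ⟨ix (g⁻¹ x), ix_lt _, by rw [pt_ix]; simp⟩

theorem exists_octad {g : Equiv.Perm GolayPt} (hg : g ∈ M24) {o : Finset GolayPt} (ho : o ∈ octads) :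
    ∃ m ∈ octL, g • toSet m = o := by
  obtain ⟨m, hm, h⟩ := mem_octads_list.1 ((smul_mem_octads (M24.inv_mem hg)).2 ho)
  exact ⟨m, hm, by rw [h, smul_inv_smul]⟩

theorem exists_dodecad {g : Equiv.Perm GolayPt} (hg : g ∈ M24) {o : Finset GolayPt}
    (ho : o ∈ dodecads) : ∃ m ∈ dodL, g • toSet m = o := by
  obtain ⟨m, hm, h⟩ := mem_dodecads_list.1 ((smul_mem_dodecads (M24.inv_mem hg)).2 ho)
  exact ⟨m, hm, by rw [h, smul_inv_smul]⟩

theorem ncard_octads_smul {g : Equiv.Perm GolayPt} (hg : g ∈ M24) (P : Finset GolayPt → Prop)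
    (f : ℕ → Bool) (k : ℕ) (h : ∀ m ∈ octL, (P (g • toSet m) ↔ f m = true))
    (hk : octL.countP f = k) : {o | o ∈ octads ∧ P o}.ncard = k := by
  rw [ncard_smul g (S := {o | o ∈ octads ∧ P (g • o)}) fun o => by
    simp only [Set.mem_setOf_eq, smul_mem_octads hg]]
  rw [ncard_octads_filter _ f h, hk]

theorem ncard_dodecads_smul {g : Equiv.Perm GolayPt} (hg : g ∈ M24) (P : Finset GolayPt → Prop)
    (f : ℕ → Bool) (k : ℕ) (h : ∀ m ∈ dodL, (P (g • toSet m) ↔ f m = true))
    (hk : dodL.countP f = k) : {o | o ∈ dodecads ∧ P o}.ncard = k := by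
  rw [ncard_smul g (S := {o | o ∈ dodecads ∧ P (g • o)}) fun o => by
    simp only [Set.mem_setOf_eq, smul_mem_dodecads hg]]
  rw [ncard_dodecads_filter _ f h, hk]

theorem conj_smul {g h : Equiv.Perm GolayPt} {A B : Finset GolayPt} (e : h • A = B) :
    (g * h * g⁻¹) • (g • A) = g • B := by
  rw [mul_smul, mul_smul, inv_smul_smul, e]

theorem conj_apply {g h : Equiv.Perm GolayPt} {a b : GolayPt} (e : h a = b) :
    (g * h * g⁻¹) (g a) = g b := by
  simp [e]

end Cfsg.Agent.M24
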