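import Mathlib
import Cfsg.Prelude.Def_Sporadic_a

/-!
Bitmask model of the length-24 code `Cfsg.golayCode`: a point is a number `< 24` (`none` is 23), a set of
points is a number `< 2 ^ 24`, a permutation is packed five bits per point.
-/

set_option autoImplicit false

namespace Cfsg.Agent.M24

open scoped Pointwise symmDiff

/-- Number of a point. -/
def ix : GolayPt → ℕ
  | none => 23
  | some x => x.val

/-- Point with given number. -/
def pt (n : ℕ) : GolayPt := if n < 23 then some (n : ZMod 23) else none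

theorem ix_lt (i : GolayPt) : ix i < 24 := by revert i; decide +kernel

theorem pt_ix (i : GolayPt) : pt (ix i) = i := by revert i; decide +kernel

theorem ix_pt {n : ℕ} (h : n < 24) : ix (pt n) = n := by revert n; decide +kernel

theorem ix_injective : Function.Injective ix := Function.LeftInverse.injective pt_ix

theorem pt_inj {a b : ℕ} (ha : a < 24) (hb : b < 24) (h : pt a = pt b) : a = b := by
  rw [← ix_pt ha, ← ix_pt hb, h]

/-- The set of points of a mask. -/
def toSet (m : ℕ) : Finset GolayPt := Finset.univ.filter fun i => m.testBit (ix i)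

/-- The mask of a set of points. -/
def toMask (s : Finset GolayPt) : ℕ := Nat.ofBits (n := 24) fun k => decide (pt k ∈ s)

theorem mem_toSet {m : ℕ} {i : GolayPt} : i ∈ toSet m ↔ m.testBit (ix i) := by simp [toSet]

theorem toMask_lt (s : Finset GolayPt) : toMask s < 2 ^ 24 := Nat.ofBits_lt_two_pow _

theorem testBit_toMask (s : Finset GolayPt) {k : ℕ} (hk : k < 24) :
    (toMask s).testBit k = decide (pt k ∈ s) := by
  simp [toMask, Nat.testBit_ofBits_lt _ _ hk]

theorem toSet_toMask (s : Finset GolayPt) : toSet (toMask s) = s := by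
  ext i
  simp [mem_toSet, testBit_toMask s (ix_lt i), pt_ix]

theorem toMask_toSet {m : ℕ} (hm : m < 2 ^ 24) : toMask (toSet m) = m := by
  apply Nat.eq_of_testBit_eq
  intro k
  by_cases hk : k < 24
  · rw [testBit_toMask _ hk, Bool.eq_iff_iff]
    simp [mem_toSet, ix_pt hk]
  · have h2 : (2 : ℕ) ^ 24 ≤ 2 ^ k := Nat.pow_le_pow_right (by norm_num) (by omega)
    rw [Nat.testBit_lt_two_pow ((toMask_lt _).trans_le h2), Nat.testBit_lt_two_pow (hm.trans_le h2)]

theorem toSet_inj {a b : ℕ} (ha : a < 2 ^ 24) (hb : b < 2 ^ 24) (h : toSet a = toSet b) : a = b := by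
  rw [← toMask_toSet ha, ← toMask_toSet hb, h]

theorem toSet_and (a b : ℕ) : toSet (a &&& b) = toSet a ∩ toSet b := by
  ext i; simp [mem_toSet]

theorem toSet_or (a b : ℕ) : toSet (a ||| b) = toSet a ∪ toSet b := by
  ext i; simp [mem_toSet]

theorem toSet_xor (a b : ℕ) : toSet (a ^^^ b) = toSet a ∆ toSet b := by
  ext i; simp only [mem_toSet, Finset.mem_symmDiff, Nat.testBit_xor]
  cases a.testBit (ix i) <;> cases b.testBit (ix i) <;> simp

/-- Number of points of a mask. -/
def pc (m : ℕ) : ℕ := (List.range 24).countP fun k => m.testBit k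

theorem card_toSet (m : ℕ) : (toSet m).card = pc m := by
  have huniv : ((List.range 24).map pt).toFinset = (Finset.univ : Finset GolayPt) := by
    ext i
    simp only [List.mem_toFinset, List.mem_map, List.mem_range, Finset.mem_univ, iff_true]
    exact ⟨ix i, ix_lt i, pt_ix i⟩
  have hnd : ((List.range 24).map pt).Nodup :=
    List.Nodup.map_on (fun a ha b hb h => pt_inj (List.mem_range.1 ha) (List.mem_range.1 hb) h)
      List.nodup_range
  rw [toSet, ← huniv, ← List.toFinset_filter, List.toFinset_card_of_nodup (hnd.filter _),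
    ← List.countP_eq_length_filter, List.countP_map, pc]
  refine List.countP_congr fun k hk => ?_
  simp [ix_pt (List.mem_range.1 hk)]

theorem card_eq (s : Finset GolayPt) : s.card = pc (toMask s) := by
  rw [← card_toSet, toSet_toMask]

/-- The word with given mask. -/
def toWord (m : ℕ) : GolayPt → ZMod 2 := fun i => if m.testBit (ix i) then 1 else 0

theorem support_toWord (m : ℕ) : support₂ (toWord m) = toSet m := by
  ext i
  by_cases h : m.testBit (ix i) <;> simp [support₂, toWord, mem_toSet, h]

theorem toWord_support (w : GolayPt → ZMod 2) : toWord (toMask (support₂ w)) = w := by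
  funext i
  have h2 : ∀ x : ZMod 2, x ≠ 0 → x = 1 := by decide
  by_cases h : w i = 0
  · simp [toWord, testBit_toMask _ (ix_lt i), pt_ix, support₂, h]
  · simp [toWord, testBit_toMask _ (ix_lt i), pt_ix, support₂, h2 _ h]

theorem toWord_xor (a b : ℕ) : toWord (a ^^^ b) = toWord a + toWord b := by
  funext i
  simp only [toWord, Nat.testBit_xor, Pi.add_apply]
  cases a.testBit (ix i) <;> cases b.testBit (ix i) <;> decide

theorem toWord_zero : toWord 0 = 0 := by funext i; simp [toWord]

/-- Linear combination of a list of masks, coefficients the binary digits of `n`. -/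
def comb : List ℕ → ℕ → ℕ
  | [], _ => 0
  | r :: rs, n => if n % 2 = 1 then r ^^^ comb rs (n / 2) else comb rs (n / 2)

theorem comb_xor : ∀ (rs : List ℕ) (a b : ℕ), comb rs (a ^^^ b) = comb rs a ^^^ comb rs b
  | [], _, _ => by simp [comb]
  | r :: rs, a, b => by
    simp only [comb, Nat.xor_mod_two_eq_one, Nat.xor_div_two, comb_xor rs]
    by_cases ha : a % 2 = 1 <;> by_cases hb : b % 2 = 1 <;>
      simp [ha, hb, Nat.xor_assoc, Nat.xor_left_comm]

theorem comb_mem (S : Submodule (ZMod 2) (GolayPt → ZMod 2)) :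
    ∀ (rs : List ℕ), (∀ r ∈ rs, toWord r ∈ S) → ∀ n, toWord (comb rs n) ∈ S
  | [], _, n => by simp [comb, toWord_zero]
  | r :: rs, h, n => by
    have hrec := comb_mem S rs (fun x hx => h x (List.mem_cons_of_mem _ hx)) (n / 2)
    simp only [comb]
    split
    · rw [toWord_xor]
      exact S.add_mem (h r List.mem_cons_self) hrec
    · exact hrec

/-- Systematic basis of the code: row `j` has exactly the bit `j` among the first twelve. -/
def rows : List ℕ := [13062145, 4845570, 13938692, 7221256, 10170384, 11952160, 15515712, 2019456, 4038912, 8077824, 11654144, 14919680]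

/-- The 24 defining words. -/
def genMasks : List ℕ := [340831, 681662, 1363324, 2726648, 5453296, 2517985, 5035970, 1683333, 3366666, 6733332, 5078057, 1767507, 3535014, 7070028, 5751449, 3114291, 6228582, 4068557, 8137114, 7885621, 7382635, 6376663, 4364719, 16777215]

/-- Encoding of twelve bits. -/
def enc (n : ℕ) : ℕ := comb rows n

/-- Membership test for masks `< 2 ^ 24`. -/
def inCode (m : ℕ) : Bool := enc (m % 4096) == m

theorem qr_mask : ∀ t : ZMod 23, ∀ i, qrWord t i = toWord (genMasks.getD t.val 0) i := by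
  decide +kernel

theorem toWord_genMasks_mem : ∀ r ∈ genMasks, toWord r ∈ golayCode := by
  intro r hr
  obtain ⟨k, hk, rfl⟩ := List.getElem_of_mem hr
  have hlen : genMasks.length = 24 := by decide +kernel
  by_cases h23 : k < 23
  · refine Submodule.subset_span (Or.inl ⟨(k : ZMod 23), funext fun i => ?_⟩)
    rw [qr_mask, ZMod.val_natCast, Nat.mod_eq_of_lt h23, List.getD_eq_getElem]
  · refine Submodule.subset_span (Or.inr ?_)
    obtain rfl : k = 23 := by omega
    rw [Set.mem_singleton_iff]
    have h : ∀ i, toWord (genMasks.getD 23 0) i = 1 := by decide +kernel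
    funext i
    rw [List.getElem_eq_getD 0]
    exact h i

theorem rows_eq : rows = ([8390313, 280, 8389785, 1400, 8390330, 8390551, 8390093, 2000, 1347, 101, 8390243, 8390181] : List ℕ).map (comb genMasks) := by decide +kernel

theorem toWord_rows_mem : ∀ r ∈ rows, toWord r ∈ golayCode := by
  intro r hr
  rw [rows_eq] at hr
  obtain ⟨c, _, rfl⟩ := List.mem_map.1 hr
  exact comb_mem _ _ toWord_genMasks_mem c

theorem toWord_enc_mem (n : ℕ) : toWord (enc n) ∈ golayCode := comb_mem _ _ toWord_rows_mem n

theorem enc_xor (a b : ℕ) : enc (a ^^^ b) = enc a ^^^ enc b := comb_xor _ _ _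

theorem forall_lt_4096 {P : ℕ → Prop} (h : ∀ a < 64, ∀ b < 64, P (64 * a + b)) :
    ∀ n < 4096, P n := fun n hn => by
  simpa [Nat.div_add_mod] using h (n / 64) (by omega) (n % 64) (by omega)

theorem enc_facts : ∀ n < 4096, enc n < 2 ^ 24 ∧ enc n % 4096 = n :=
  forall_lt_4096 (by decide +kernel)

theorem enc_lt {n : ℕ} (h : n < 4096) : enc n < 2 ^ 24 := (enc_facts n h).1

theorem enc_mod {n : ℕ} (h : n < 4096) : enc n % 4096 = n := (enc_facts n h).2

theorem genMasks_enc : ∀ t : ZMod 23, enc (genMasks.getD t.val 0 % 4096) = genMasks.getD t.val 0 := by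
  decide +kernel

/-- The subspace of encoded words. -/
def encCode : Submodule (ZMod 2) (GolayPt → ZMod 2) where
  carrier := {w | ∃ n < 4096, w = toWord (enc n)}
  zero_mem' := ⟨0, by norm_num, by simp [show enc 0 = 0 by decide +kernel, toWord_zero]⟩
  add_mem' := by
    rintro v w ⟨a, ha, rfl⟩ ⟨b, hb, rfl⟩
    exact ⟨a ^^^ b, Nat.xor_lt_two_pow (n := 12) ha hb, by rw [enc_xor, toWord_xor]⟩
  smul_mem' := by
    have h2 : ∀ c : ZMod 2, c = 0 ∨ c = 1 := by decide
    rintro c v hv
    rcases h2 c with rfl | rfl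
    · exact ⟨0, by norm_num, by simp [show enc 0 = 0 by decide +kernel, toWord_zero]⟩
    · simpa using hv

theorem golayCode_eq : golayCode = encCode := by
  refine le_antisymm (Submodule.span_le.2 ?_) ?_
  · rintro w (⟨t, rfl⟩ | hw)
    · exact ⟨genMasks.getD t.val 0 % 4096, Nat.mod_lt _ (by norm_num),
        funext fun i => by rw [genMasks_enc, qr_mask]⟩
    · rw [Set.mem_singleton_iff] at hw; subst hw
      exact ⟨4095, by norm_num, funext (by decide +kernel)⟩
  · rintro w ⟨n, _, rfl⟩
    exact toWord_enc_mem n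

theorem mem_golayCode_iff {w : GolayPt → ZMod 2} :
    w ∈ golayCode ↔ inCode (toMask (support₂ w)) = true := by
  rw [inCode, beq_iff_eq]
  refine ⟨fun h => ?_, fun h => ?_⟩
  · rw [golayCode_eq] at h
    obtain ⟨n, hn, rfl⟩ := h
    rw [support_toWord, toMask_toSet (enc_lt hn), enc_mod hn]
  · rw [← toWord_support w, ← h]
    exact toWord_enc_mem _

theorem toWord_mem_iff {m : ℕ} (hm : m < 2 ^ 24) : toWord m ∈ golayCode ↔ inCode m = true := by
  rw [mem_golayCode_iff, support_toWord, toMask_toSet hm]

theorem mem_supports_iff {s : Finset GolayPt} :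
    s ∈ supports (golayCode : Set (GolayPt → ZMod 2)) ↔ inCode (toMask s) = true := by
  constructor
  · rintro ⟨w, hw, rfl⟩
    exact mem_golayCode_iff.1 hw
  · intro h
    exact ⟨toWord (toMask s), (toWord_mem_iff (toMask_lt s)).2 h,
      by rw [support_toWord, toSet_toMask]⟩

theorem hammingNorm_eq (w : GolayPt → ZMod 2) : hammingNorm w = pc (toMask (support₂ w)) := by
  rw [← card_eq]; rfl

theorem mem_octads_iff {s : Finset GolayPt} :
    s ∈ octads ↔ inCode (toMask s) = true ∧ pc (toMask s) = 8 := by
  show s ∈ supports _ ∧ s.card = 8 ↔ _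
  rw [mem_supports_iff, card_eq]

theorem mem_dodecads_iff {s : Finset GolayPt} :
    s ∈ dodecads ↔ inCode (toMask s) = true ∧ pc (toMask s) = 12 := by
  show s ∈ supports _ ∧ s.card = 12 ↔ _
  rw [mem_supports_iff, card_eq]

/-- All code masks. -/
def codeList : List ℕ := (List.range 4096).map enc

theorem mem_codeList {m : ℕ} (hm : m < 2 ^ 24) : m ∈ codeList ↔ inCode m = true := by
  simp only [codeList, List.mem_map, List.mem_range, inCode, beq_iff_eq]
  refine ⟨?_, fun h => ⟨_, Nat.mod_lt _ (by norm_num), h⟩⟩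
  rintro ⟨n, hn, rfl⟩
  rw [enc_mod hn]

theorem inCode_xor {a b : ℕ} (ha : inCode a = true) (hb : inCode b = true) :
    inCode (a ^^^ b) = true := by
  simp only [inCode, beq_iff_eq] at *
  rw [show (4096 : ℕ) = 2 ^ 12 by norm_num, Nat.xor_mod_two_pow, enc_xor]
  exact congrArg₂ _ ha hb

theorem inCode_lt {a : ℕ} (ha : inCode a = true) : a < 2 ^ 24 := by
  simp only [inCode, beq_iff_eq] at ha
  rw [← ha]
  exact enc_lt (Nat.mod_lt _ (by norm_num))

theorem code_weights : ∀ n < 4096, pc (enc n) ∈ [0, 8, 12, 16, 24] :=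
  forall_lt_4096 (by decide +kernel)

theorem pc_mem_of_inCode {a : ℕ} (ha : inCode a = true) : pc a ∈ [0, 8, 12, 16, 24] := by
  have h := code_weights (a % 4096) (Nat.mod_lt _ (by norm_num))
  rw [inCode, beq_iff_eq] at ha
  rwa [ha] at h

theorem octad_eq_of_inter {o o' : Finset GolayPt} (ho : o ∈ octads) (ho' : o' ∈ octads)
    (h : 5 ≤ (o ∩ o').card) : o = o' := by
  obtain ⟨hc, hw⟩ := mem_octads_iff.1 ho
  obtain ⟨hc', hw'⟩ := mem_octads_iff.1 ho'
  have hx := pc_mem_of_inCode (inCode_xor hc hc')
  have hcard : (o ∆ o').card = pc (toMask o ^^^ toMask o') := by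
    rw [← card_toSet, toSet_xor, toSet_toMask, toSet_toMask]
  replace hcard : ((o \ o') ∪ (o' \ o)).card = pc (toMask o ^^^ toMask o') := hcard
  have h1 : (o \ o').card + (o ∩ o').card = o.card := Finset.card_sdiff_add_card_inter o o'
  have h2 : (o' \ o).card + (o' ∩ o).card = o'.card := Finset.card_sdiff_add_card_inter o' o
  rw [Finset.inter_comm o' o] at h2
  rw [card_eq o, hw] at h1
  rw [card_eq o', hw'] at h2
  rw [Finset.card_union_of_disjoint disjoint_sdiff_sdiff] at hcard
  simp only [List.mem_cons, List.not_mem_nil, or_false] at hx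
  have : (o \ o').card = 0 ∧ (o' \ o).card = 0 := by omega
  simp only [Finset.card_eq_zero, Finset.sdiff_eq_empty_iff_subset] at this
  exact Finset.Subset.antisymm this.1 this.2

end Cfsg.Agent.M24
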