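import Cfsg.Agent.M24.Order

/-!
Counts of octads and dodecads, point stabilisers, further members of `Cfsg.M24`.
-/

set_option autoImplicit false

namespace Cfsg.Agent.M24

open scoped Pointwise

theorem card_golayCode : Nat.card golayCode = 4096 := by
  have h : (golayCode : Set (GolayPt → ZMod 2)) = (Finset.range 4096).image (fun n => toWord (enc n)) := by
    ext w
    rw [SetLike.mem_coe, golayCode_eq, Finset.coe_image, Set.mem_image]
    simp only [Finset.coe_range, Set.mem_Iio]
    exact ⟨fun ⟨n, hn, h⟩ => ⟨n, hn, h.symm⟩, fun ⟨n, hn, h⟩ => ⟨n, hn, h.symm⟩⟩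
  rw [← SetLike.coe_sort_coe, Nat.card_coe_set_eq, h, Set.ncard_coe_finset,
    Finset.card_image_of_injOn, Finset.card_range]
  intro a ha b hb hab
  simp only [Finset.coe_range, Set.mem_Iio] at ha hb
  have := congrArg (fun w => toMask (support₂ w)) hab
  simp only [support_toWord, toMask_toSet (enc_lt ha), toMask_toSet (enc_lt hb)] at this
  rw [← enc_mod ha, this, enc_mod hb]

theorem finrank_golayCode : Module.finrank (ZMod 2) golayCode = 12 := by
  have h := Module.natCard_eq_pow_finrank (K := ZMod 2) (V := golayCode)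
  rw [card_golayCode, Nat.card_zmod] at h
  exact Nat.pow_right_injective le_rfl (show (2 : ℕ) ^ Module.finrank (ZMod 2) golayCode = 2 ^ 12 by
    rw [← h])

/-- Code words of weight `n`, as a set of subsets. -/
theorem wordsOfWeight_eq (n : ℕ) : wordsOfWeight (golayCode : Set (GolayPt → ZMod 2)) n =
    ((((List.range 4096).map enc).filter fun m => pc m == n).map toSet).toFinset := by
  ext s
  simp only [wordsOfWeight, Set.mem_setOf_eq, mem_supports_iff, List.coe_toFinset, List.mem_map,
    List.mem_filter, beq_iff_eq]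
  constructor
  · rintro ⟨h, rfl⟩
    refine ⟨toMask s, ⟨?_, (card_eq s).symm⟩, toSet_toMask s⟩
    exact (List.mem_map).1 ((mem_codeList (toMask_lt s)).2 h)
  · rintro ⟨m, ⟨⟨k, hk, rfl⟩, hw⟩, rfl⟩
    rw [List.mem_range] at hk
    refine ⟨?_, by rw [card_toSet, hw]⟩
    rw [toMask_toSet (enc_lt hk), inCode, beq_iff_eq, enc_mod hk]

theorem ncard_wordsOfWeight (n k : ℕ)
    (h : ((List.range 4096).countP fun j => pc (enc j) == n) = k) :
    (wordsOfWeight (golayCode : Set (GolayPt → ZMod 2)) n).ncard = k := by
  rw [wordsOfWeight_eq, Set.ncard_coe_finset, List.toFinset_card_of_nodup, List.length_map,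
    ← List.countP_eq_length_filter, List.countP_map, ← h]
  · rfl
  · refine List.Nodup.map_on ?_ (List.Nodup.filter _ (List.Nodup.map_on ?_ List.nodup_range))
    · intro a ha b hb hab
      simp only [List.mem_filter, List.mem_map, List.mem_range] at ha hb
      obtain ⟨⟨i, hi, rfl⟩, -⟩ := ha
      obtain ⟨⟨j, hj, rfl⟩, -⟩ := hb
      exact toSet_inj (enc_lt hi) (enc_lt hj) hab
    · intro a ha b hb hab
      rw [← enc_mod (List.mem_range.1 ha), hab, enc_mod (List.mem_range.1 hb)]

theorem mem_M24_of_decide {g : Equiv.Perm GolayPt}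
    (h : ∀ r ∈ rows, inCode (toMask (g • toSet r)) = true) : g ∈ M24 :=
  mem_M24_of_rows fun r hr => mem_supports_iff.2 (h r hr)

theorem cubeTwist_mem : cubeTwist ∈ M24 := by
  refine mem_M24_of_decide fun r hr => ?_
  have h : ∀ r ∈ rows, inCode (toMask ((toSet r).image cubeTwistFun)) = true := by decide +kernel
  exact h r hr

theorem card_stabilizer_subgroup {α β : Type*} [Group α] [MulAction α β] (H : Subgroup α) (b : β) :
    Nat.card (MulAction.stabilizer H b) = Nat.card ↥(H ⊓ MulAction.stabilizer α b) := by
  refine Nat.card_congr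
    { toFun := fun g => ⟨g.1.1, g.1.2, g.2⟩
      invFun := fun g => ⟨⟨g.1, g.2.1⟩, g.2.2⟩
      left_inv := fun g => rfl
      right_inv := fun g => rfl }

theorem isPretransitive_M24 : MulAction.IsPretransitive M24 GolayPt := by
  refine ⟨fun p q => ?_⟩
  obtain ⟨g, hg, h⟩ := exists_map_finset (s := {p}) (t := {q}) (by simp) (by simp)
  refine ⟨⟨g, hg⟩, ?_⟩
  simpa [Finset.smul_finset_singleton] using h

theorem index_stabilizer_point (p : GolayPt) : (MulAction.stabilizer M24 p).index = 24 := by
  have := isPretransitive_M24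
  rw [MulAction.index_stabilizer_of_transitive, Nat.card_eq_fintype_card]
  decide +kernel

theorem card_stabilizer_point (p : GolayPt) :
    Nat.card (MulAction.stabilizer M24 p) = 10200960 := by
  have h := (MulAction.stabilizer M24 p).card_mul_index
  rw [index_stabilizer_point, card_M24] at h
  omega

theorem card_stabilizer_two (p q : GolayPt) (hpq : p ≠ q) :
    Nat.card ↥(MulAction.stabilizer M24 p ⊓ MulAction.stabilizer M24 q) = 443520 := by
  classical
  have horb : MulAction.orbit ↥(MulAction.stabilizer M24 p) q =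
      (((Finset.univ : Finset GolayPt).erase p : Finset GolayPt) : Set GolayPt) := by
    ext r
    simp only [MulAction.mem_orbit_iff, Finset.coe_erase, Finset.coe_univ, Set.mem_diff,
      Set.mem_univ, Set.mem_singleton_iff, true_and]
    constructor
    · rintro ⟨g, rfl⟩ hr
      apply hpq
      have h1 : (g : ↥M24) • p = p := g.2
      have h2 : (g : ↥M24) • q = p := hr
      exact MulAction.injective (g : ↥M24) (h1.trans h2.symm)
    · intro hr
      have hcard : Fintype.card GolayPt = 24 := by decide +kernel
      have h5 := isMultiplyPretransitive_five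
      have := MulAction.isMultiplyPretransitive_of_le (G := M24) (α := GolayPt) (n := 5) (m := 2)
        (by norm_num) (by rw [Nat.card_eq_fintype_card, hcard]; norm_num)
      obtain ⟨g, hg⟩ := MulAction.is_two_pretransitive_iff.1 this hpq (Ne.symm hr)
      exact ⟨⟨g, hg.1⟩, hg.2⟩
  have h := Nat.card_congr (MulAction.orbitProdStabilizerEquivGroup (MulAction.stabilizer M24 p) q)
  rw [Nat.card_prod, card_stabilizer_point, horb, Nat.card_coe_set_eq, Set.ncard_coe_finset,
    Finset.card_erase_of_mem (Finset.mem_univ p), Finset.card_univ,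
    show Fintype.card GolayPt = 24 by decide +kernel, card_stabilizer_subgroup] at h
  omega

end Cfsg.Agent.M24

namespace Cfsg.Agent.M24

theorem rows_orth : ∀ r ∈ rows, ∀ s ∈ rows, ∑ i, toWord r i * toWord s i = 0 := by decide +kernel

/-- The orthogonal of a word. -/
def perp (v : GolayPt → ZMod 2) : Submodule (ZMod 2) (GolayPt → ZMod 2) where
  carrier := {w | ∑ i, v i * w i = 0}
  zero_mem' := by simp
  add_mem' := by
    intro x y hx hy
    show ∑ i, v i * (x i + y i) = 0
    simp only [mul_add, Finset.sum_add_distrib]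
    rw [show ∑ i, v i * x i = 0 from hx, show ∑ i, v i * y i = 0 from hy, add_zero]
  smul_mem' := by
    intro c x hx
    show ∑ i, v i * (c * x i) = 0
    simp only [mul_left_comm _ c, ← Finset.mul_sum]
    rw [show ∑ i, v i * x i = 0 from hx, mul_zero]

theorem mem_perp {v w : GolayPt → ZMod 2} : w ∈ perp v ↔ ∑ i, v i * w i = 0 := Iff.rfl

theorem perp_comm {v w : GolayPt → ZMod 2} (h : w ∈ perp v) : v ∈ perp w := by
  rw [mem_perp] at *
  rw [← h]
  exact Finset.sum_congr rfl fun i _ => mul_comm _ _

theorem dot_enc (a b : ℕ) : ∑ i, toWord (enc a) i * toWord (enc b) i = 0 := by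
  have h : ∀ r ∈ rows, toWord (enc b) ∈ perp (toWord r) := fun r hr =>
    comb_mem (perp (toWord r)) rows (fun s hs => rows_orth r hr s hs) b
  exact mem_perp.1 (perp_comm (comb_mem (perp (toWord (enc b))) rows (fun r hr => perp_comm (h r hr)) a))

end Cfsg.Agent.M24
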