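import Cfsg.Agent.M24.Suborbit

/-!
Suborbit data (dpair).
-/

set_option autoImplicit false

namespace Cfsg.Agent.M24.MaxDpair

/-- layer -/
def sub0L0P0 : List (List ℕ) := [[0, 1, 2]]

/-- layer -/
def sub0L1P0 : List (List ℕ) := [[0, 1, 2], [0, 1, 2], [0, 1, 2]]

/-- layer -/
def sub0L2P0 : List (List ℕ) := [[0, 1, 2], [0, 1, 2], [0, 1, 2], [0, 1, 2], [0, 1, 2], [0, 1, 2], [0, 1, 2], [0, 1, 2], [0, 1, 2]]

/-- layer -/
def sub0L3P0 : List (List ℕ) := [[1, 2], [0, 1, 2], [0, 1, 2], [0, 2], [0, 1, 2], [0, 1, 2], [0, 1, 2], [0, 1, 2], [0, 2], [0, 1, 2], [0, 1], [0, 1, 2], [0, 2], [0, 1, 2], [0, 1, 2], [0, 1, 2], [0, 2], [0, 1, 2], [0, 1, 2], [0, 1, 2], [0, 1, 2], [0, 1, 2], [0, 1, 2], [0, 1, 2], [0, 1, 2], [0, 1, 2], [0, 1, 2]]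

/-- layer -/
def sub0L4P0 : List (List ℕ) := [[0, 1, 2], [1], [0, 1, 2], [1], [0, 1], [0, 1, 2], [1], [0, 1], [0, 1], [1, 2], [0, 1, 2], [0, 1, 2], [0, 1, 2], [0, 1, 2], [0], [1, 2], [0, 1], [0, 1, 2], [0, 1, 2], [1, 2], [0, 2], [0, 1, 2], [1, 2], [0, 2], [0, 1, 2], [0], [0, 1], [0, 1, 2], [2], [0, 1], [0, 1, 2], [0, 1, 2], [2], [0, 1], [0, 1, 2], [0, 1, 2], [0, 1, 2], [0, 1], [0, 1], [0, 1], [1, 2], [0, 1, 2], [0, 1], [0, 1, 2], [0, 1, 2], [0, 1, 2], [1], [0, 2], [0, 2], [1, 2], [0, 1, 2], [1], [0, 1], [0, 1], [0, 1, 2], [1, 2], [0, 2], [0, 1], [0, 1, 2], [2], [0, 1, 2], [0, 1, 2], [0, 2], [0, 1], [2], [0, 1, 2], [0, 1], [0, 2], [0, 2], [1, 2], [], [1], [0, 1], [2], [1]]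

/-- layer -/
def sub0L5P0 : List (List ℕ) := [[1], [0, 1], [0, 1, 2], [0, 1], [0], [1, 2], [0, 1], [0], [0, 1], [1], [0], [0, 1, 2], [0, 1], [0, 2], [0, 1, 2], [], [2], [0, 2], [0, 1, 2], [2], [1], [1, 2], [2], [0, 2], [0, 2], [], [0, 2], [0], [], [0], [], [1], [1, 2], [0, 2], [2], [0, 1, 2], [0, 2], [0], [2], [0, 1, 2], [1], [0, 1, 2], [1, 2], [0, 1], [1, 2], [0, 1, 2], [2], [0, 1, 2], [0], [0], [], [0], [0, 2], [0, 1, 2], [0, 1], [], [1], [], [0], [], [], [0, 2], [0], [1], [2], [0, 2], [], [1], [2], [], [0], [2], [], [], [], [1], [0, 1], [0], [], [0, 2], [2], [2], [2], [], [0], [2], [], [], [2], [0], [2], [1], [1], [0], [0], [1], [2], [], [], [0], [0, 1], [2], [0, 2], [2], [0, 1, 2], [2], [1, 2], [], [0, 2], [], [1], [0], [2], [1, 2], [1], [0, 1], [1], [], [0, 1], [], [], [2], [1], [0], [0, 1], [1, 2], [0], [2]]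

/-- layer -/
def sub0L5P1 : List (List ℕ) := [[0], [], [1, 2], [], [], [0], [], [], [1], [1], [2], [], [2], [], [0], [1], [0, 2], [2], [2], [], [0], [], [0, 1], [], [], [2], [0, 1, 2], [2], [], [], [], [], []]

/-- layer -/
def sub0L6P0 : List (List ℕ) := [[0], [1, 2], [1], [2], [], [2], [], [0], [], [], [], [1], [2], [], [], [], [2], [2], [], [], [], [], [1], [], [], [1], [], [], [], [1], [], [], [], [], [0], [], [0, 2], [], [], [], [], [], [], [], [2], [], [1], [], [], [], [0], [], [], [], [], [], [], [0], [], [2], [], [0, 1, 2], [0], [], [], [], [], [0], [0], [], [], [], [2], [], [], [0, 2], [], [], [], [], [], [], [0], [], [], [], [], [], [], [], [], [], [], [1], [], [], [], [2], [], [], [1], [1], [], [], [], [], [], [], [], [], [], [], [], [], [], [], [], [], [], [], [], [0, 2], [], [], [], [], [], []]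

/-- layer -/
def sub0L6P1 : List (List ℕ) := [[], [], [], [1], [], [], [], [], [], [], [], [], [], [], [], [], [], [], [], [], [], [], [], [], [], [], [], [], [], [], [], [], [], [], [], [], [], [], [], [], [], [], [], [], [], [], [], [], [], [], [], []]

/-- layers -/
def sub0 : List (List (List ℕ)) := [sub0L0P0, sub0L1P0, sub0L2P0, sub0L3P0, sub0L4P0, sub0L5P0 ++ sub0L5P1, sub0L6P0 ++ sub0L6P1]

/-- layer -/
def full0L0P0 : List (List ℕ) := [[3]]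

/-- layer -/
def full0L1P0 : List (List ℕ) := [[0, 1, 2, 3]]

/-- layer -/
def full0L2P0 : List (List ℕ) := [[0, 1, 2, 3], [0, 1, 2, 3], [0, 1, 2, 3], [0, 1, 2, 3]]

/-- layer -/
def full0L3P0 : List (List ℕ) := [[0, 1, 2, 3], [0, 1, 2, 3], [0, 1, 2, 3], [0, 1, 2, 3], [0, 1, 2, 3], [0, 1, 2, 3], [0, 1, 2, 3], [0, 1, 2, 3], [0, 1, 2, 3], [0, 1, 2, 3], [0, 1, 2, 3], [0, 1, 2, 3], [0, 1, 2, 3], [0, 1, 2, 3], [0, 1, 2, 3], [0, 1, 3]]

/-- layer -/
def full0L4P0 : List (List ℕ) := [[1, 2, 3], [0, 1, 2, 3], [0, 1, 2, 3], [0, 1, 2, 3], [0, 2, 3], [0, 1, 2, 3], [0, 1, 2, 3], [0, 3], [0, 1, 2, 3], [0, 1, 2, 3], [0, 2, 3], [0, 1, 2, 3], [0, 1, 2, 3], [0, 1, 2, 3], [2], [0, 1, 2, 3], [0, 1, 2, 3], [0, 1, 3], [0, 1, 2, 3], [0, 1, 2, 3], [0, 3], [0, 1, 2, 3], [0, 1, 2, 3], [0, 1, 2], [0, 1, 2, 3], [0, 3], [0, 1, 2, 3], [2, 3], [0, 1, 2, 3], [0, 1, 2], [0, 1, 2, 3], [0, 1, 2, 3], [0, 1, 2], [0, 1, 2, 3], [1,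 2, 3], [0, 1, 2, 3], [0, 1, 2, 3], [0, 1, 2, 3], [0, 1, 2, 3], [0, 1], [0, 1, 2, 3], [0, 1, 2, 3], [0, 2, 3], [0, 1, 2, 3], [0, 2, 3], [0, 1, 2, 3], [0, 1], [0, 1, 2, 3], [0, 1, 2], [0, 1, 2, 3], [0, 1, 2, 3], [0, 1, 3], [0, 1, 2, 3], [0, 1, 2, 3], [0, 3], [1, 2], [0, 1, 2, 3], [0, 1, 2, 3], [0, 1, 2, 3], [0, 1, 2, 3], [0, 1, 3], [0, 3], [0, 1, 2, 3]]

/-- layer -/
def full0L5P0 : List (List ℕ) := [[0, 1], [3], [0, 1, 2], [1, 2, 3], [3], [0, 1, 3], [1, 3], [0, 1, 2, 3], [1, 3], [0, 3], [0, 1, 2, 3], [0, 1, 2, 3], [0, 1, 3], [0, 2, 3], [1, 2, 3], [1, 3], [1, 2, 3], [0, 1, 2, 3], [0, 1, 2, 3], [0, 1, 2], [0, 1, 3], [0, 1, 3], [0, 2, 3], [0, 3], [1, 2, 3], [0, 1, 2, 3], [1], [0, 1, 2, 3], [0, 3], [0, 1, 2, 3], [0, 1, 3], [1, 2, 3], [1, 3], [0, 3], [0, 1, 2, 3], [2, 3], [1, 2], [0, 2, 3], [0, 1, 2], [0, 1, 2, 3], [0, 1, 2, 3], [0], [0, 1, 2, 3], [0, 3], [0, 1, 3], [1, 3], [0, 1, 2], [3], [0, 2, 3],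 [0, 3], [1, 2, 3], [0, 1, 2, 3], [0, 1], [1, 2], [3], [0, 1, 2], [0, 1, 2, 3], [0, 3], [1], [2], [0, 1], [2, 3], [0, 3], [0, 3], [0, 2, 3], [0, 2, 3], [0, 1, 3], [3], [0, 2, 3], [1, 3], [0, 1], [2, 3], [1, 2, 3], [1, 2, 3], [1, 2, 3], [1, 2, 3], [0], [0, 1, 3], [0, 1, 3], [0], [0, 2, 3], [1, 2, 3], [], [0, 1, 2, 3], [1, 3], [1, 3], [0, 1, 3], [0, 1, 2, 3], [1], [0, 1, 3], [0, 1, 2, 3], [1, 3], [0, 2, 3], [0, 3], [0, 1, 2, 3], [0, 1, 2, 3], [0, 1], [0, 1, 2], [0, 1, 2, 3], [0, 1, 2, 3], [1, 2], [0, 1, 3], [0, 1, 2, 3], [0, 1, 2], [2], [1], [1, 2], [3], [2, 3], [3], [1, 2], [0], [2], [2], [1, 3], [3], [1, 3], [0, 1, 2], [1, 2, 3], [0, 2, 3], [1, 2, 3], [1], [0, 1, 3], [0, 1, 3], [0, 1, 2, 3], [0, 1, 3], [1, 2, 3], [2, 3]]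

/-- layer -/
def full0L5P1 : List (List ℕ) := [[2, 3], [0, 1, 3], [2, 3], [0, 2], [0, 1, 3], [0, 1, 3], [2, 3], [0, 1], [2, 3], [3], [], [1, 3], [0, 3], [0, 2, 3], [3], [2], [], [1, 3], [2], [0, 3], [1], [1, 3], [1, 3], [1, 3], [0], [0, 1, 2], [2, 3], [0, 2], [0, 1, 2, 3], [0, 1, 2, 3], [0], [1], [], [], [1], [0], [1, 2], [3], [2, 3], [1, 3], [0, 2], [0, 1, 2], [], [0, 1, 2, 3], [0, 1, 3], [0, 1, 3], [0, 2], [1, 2, 3], [0, 1, 2, 3], [], [2], [], [0, 1, 3], [1, 2], [1, 2, 3], [0, 1], [1], [1, 2], [0, 1, 2, 3], [1, 2, 3], [3], [0, 1, 3], [0, 1], [0, 3], [0, 1, 2], [0, 2, 3], [0, 1, 3], [0, 1, 3], [0, 1, 2, 3], [0, 2, 3], [0, 1, 3], [1, 2], [1, 3], [], [0, 2, 3], [1, 3], [0, 2, 3], [1], [0, 1, 2], [0, 2], [3], [0, 1, 3], [1, 2], [1, 3], [], [1, 3], [3], [1], [0, 2], [1, 2, 3]]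

/-- layer -/
def full0L6P0 : List (List ℕ) := [[1], [], [0, 1, 2, 3], [1, 2, 3], [1, 2, 3], [0, 1, 3], [1, 3], [0], [1, 3], [0, 2, 3], [1, 3], [1], [], [3], [2], [0, 3], [0, 1, 2], [], [0, 1, 2, 3], [3], [1, 2], [2, 3], [0], [3], [0, 3], [1], [1], [0, 3], [0, 1], [1], [0, 1, 3], [0], [0, 3], [2], [3], [0], [3], [2], [], [2], [], [1, 3], [2, 3], [], [0, 1, 2, 3], [1, 2], [1, 3], [0], [0], [3], [3], [2], [0, 2, 3], [], [0, 3], [3], [0, 3], [3], [], [0, 2], [0, 1], [3], [0], [], [0, 3], [1], [2, 3], [0], [2], [0, 1, 2, 3], [1], [1, 3], [1, 2], [3], [1, 2], [1], [0, 1, 2], [0, 3], [0, 1, 3], [], [1, 2], [], [3], [0, 1], [0, 2], [3], [0, 2], [2, 3], [3], [3], [1], [0, 3], [3], [0, 1, 2], [], [1, 2, 3], [0, 3], [], [3], [], [0], [3], [0], [], [], [0, 2], [1, 2], [0], [3], [0, 2], [], [2], [2], [0, 2], [1, 2], [1], [0, 1, 2], [0, 2], [3], [0], [0, 3], [], [3], [], [], [], [3], []]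

/-- layer -/
def full0L6P1 : List (List ℕ) := [[2], [1, 3], [0, 1], [0, 1], [3], [3], [0], [1, 2], [3], [3], [], [], [2, 3], [1, 3], [1], [0], [1], [3], [], [0], [3], [0, 1, 3], [0, 1, 2], [2, 3], [], [], [3], [3], [0, 1, 3], [], [2], [], [2], [], [0, 3], [], [0], [3], [3], [], [2], [], [2, 3], [], [], [], [0, 1, 2], [1, 2], [2, 3], [0], [0, 2], [], [1, 3], [0], [], [], [1], [3], [], [3], [0, 1], [3], [0], [], [], [1], [2], [2], [], [2], [], [3], [], [], [], [1, 3], [], [], [], [], [], [2, 3], [3], [], [], [2], [], [], [], [2], [], [], [3], [0, 1, 2, 3], [], [2], [0], [], [0, 2], [2], [], [], [3], [0], [], [], [2], [], [], [], [], [], [0], [0], [], [], [1], [1, 2], [2], [0], [], [], [0, 1], [0, 2, 3], [2], [1], [], []]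

/-- layer -/
def full0L6P2 : List (List ℕ) := [[], [], [1, 2], [], [3], [1], [1, 2], [], [], [1], [], [0], [0, 1], [], [], [1, 3], [2], [], [2], [3], [0, 1, 2], [1, 2, 3], [0, 1, 2], [], [], [2], [], [3], [], [3], [1, 2], [], [3], [], [], [3], [], [3], [], [0, 1], [], [1], [], [], [], [0], [], [3], [], [0, 1], [], [1, 2], [1], [0], [0, 2], [1, 3], [], [], [1], [], [0], [0], [3], [], [1, 3], [3], [], [1, 2], [0], [], [0, 1, 3], [0], [], [], [], [], [1], [], [], [0, 1], [0], [], [], [1], [], [], [], [], [], [3], [], [], [], [], [], [], [], [], [0], [1], [], [], [2], [], [], [3], [], [], [2], [1, 3], [1], [3], [], [], [], [3], [], [], [1, 2], [2], [], [0, 3], [2], [], [2], [], [], []]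

/-- layer -/
def full0L6P3 : List (List ℕ) := [[], [3], [], [], [], [], [], [3], [], [0, 1], [], [2], [0], [0, 3], [], [], [1], [2], [], [], [2], [0, 1, 3], [], [2], [], [], [1, 2], [1], [1, 2], [1], [], [], [], [0, 2], [], [3], [3], [], [], [3], [0, 2, 3], [0], [], [2], [0, 2], [], [], [0], [], [], [0], [], [], [], [], [], [0], [], [2], [1], [1], [0, 2], [1], [3], [], [], [], [0], [3], [3], [3], [0, 2], [], [], [3], [0], [], [1], [3], [], [], [2, 3], [0], [], [1], [], [0], [], [1], [], [], [], [], [], [], [0, 1, 3], [0], [], [], [1], [0], [3], [], [], [], [2], [], [], [], [], [], [], [], [], [], [], [], [], [1], [3], [1], []]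

/-- layer -/
def full0L7P0 : List (List ℕ) := [[], [], [], [0, 2], [1], [], [], [], [], [1], [], [], [1, 3], [], [], [2], [], [], [], [], [], [2], [], [], [], [], [], [], [], [], [], [], [], [], [1], [], [], [], [], [], [0, 3], [], [], [], [], [], [], [], [], [], [], [1], [], [], [], [], [], [], [3], [1], [], [], [], [], [], [], [], [], [], [], [], [], [], [], [], [], [2, 3], [], [], [], [], [1], [], [], [], [0], [], [], [], [], [], [1], [], [3], [], [], [], [1], [], [], [2], [], [], [], [], [], [], [], [], [], [], [1], [], [], [], [], [1], [], [], [], [], [0], [], [], [3], [], [], []]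

/-- layer -/
def full0L7P1 : List (List ℕ) := [[], [], [0], [], [], [], [], [], [], [], [], [], [], [], [], [], [], [], [], [], [], [], [], [], [], [], [], [], [], [], [], [], [1], [], [], [], [1], [], [], [], [], [], [], [2], [], [], [], [], [], [3], [], [], [], [], [], [], [], [1], [], [], [], [], [], [], [], [], [], [], [], [2], [], [], [], [], [], [], [], [], [], [], [], [], [], [], [], [], [], [], [], [], [], [], [], [], [], [], [], [], [], [0], [], [], [], [], [], [], [], [], [], [], [], [], [], [], [], [], [], [], [], [], [], [], [], [], [], [], [], [0]]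

/-- layer -/
def full0L7P2 : List (List ℕ) := [[], [], [], [], [], [], [], [], [], [], [], [2], [], [], [], [], [3], [0], [], [], [], [], [], [], [], [], [], [], [], [], [], [], [], [], [], [], [], [], [], [], [], [], [], [], [], [], [], [], [], [], [], [], [], [], [], [], [], [], [], [], [], [], [], [], [], [], [], [], [], [], [], [], [], [], [], [], [], [], [], [], [], [], [], [], [], [], [], [], [], [], [], [], [], [2], [], [], [], [], [], [], [], [], [], [], [], [], [], [], [], [], [], [], [], [], [], [], [], [], [], [], [], [], [], [], [], [], [], []]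

/-- layer -/
def full0L7P3 : List (List ℕ) := [[], [], [], [], [], [], [], [], [], [], [], [], [], [], [], [], [], [], [], [], [], [], [], [], [], [], [], [], [], [], [], [], [], [], [], [], [], [], [], [], [], [], [], [], [], [], [], [], [], [], [], [], [], [], [], []]

/-- layers -/
def full0 : List (List (List ℕ)) := [full0L0P0, full0L1P0, full0L2P0, full0L3P0, full0L4P0, full0L5P0 ++ full0L5P1, full0L6P0 ++ full0L6P1 ++ full0L6P2 ++ full0L6P3, full0L7P0 ++ full0L7P1 ++ full0L7P2 ++ full0L7P3]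

/-- layer -/
def sub1L0P0 : List (List ℕ) := [[0, 1, 2]]

/-- layer -/
def sub1L1P0 : List (List ℕ) := [[0, 1, 2], [0, 1, 2], [0, 1, 2]]

/-- layer -/
def sub1L2P0 : List (List ℕ) := [[0, 1, 2], [0, 1, 2], [0, 1, 2], [0, 1, 2], [1, 2], [0, 1, 2], [0, 1, 2], [0, 1, 2], [0, 1, 2]]

/-- layer -/
def sub1L3P0 : List (List ℕ) := [[0, 1, 2], [0, 1], [0, 2], [0, 1, 2], [0, 1, 2], [0, 1, 2], [0, 1, 2], [0, 1, 2], [0, 1, 2], [0, 1, 2], [0, 1, 2], [0, 1, 2], [0, 1, 2], [0, 1, 2], [0, 1, 2], [0, 2], [1, 2], [0, 1], [0, 1, 2], [2], [0, 1, 2], [0, 1, 2], [0, 1], [0, 1, 2], [0, 1, 2], [0, 1, 2]]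

/-- layer -/
def sub1L4P0 : List (List ℕ) := [[0, 1, 2], [1, 2], [0, 1, 2], [0, 1, 2], [0, 1, 2], [0, 1, 2], [], [0, 1, 2], [0, 1, 2], [0, 1, 2], [0, 1, 2], [0, 1, 2], [0, 1, 2], [0, 1, 2], [0, 1, 2], [0, 1, 2], [0, 1, 2], [2], [0, 1, 2], [0, 1, 2], [0, 1], [2], [0, 1, 2], [1, 2], [0, 1, 2], [0, 2], [0, 2], [0, 1], [0, 2], [0, 1, 2], [0, 1, 2], [0, 1, 2], [0, 1], [0, 1, 2], [0, 1], [1, 2], [1, 2], [0, 1, 2], [0, 1, 2], [2], [0, 2], [0, 1, 2], [0, 1, 2], [0, 1, 2], [0, 1, 2], [1], [0, 1, 2], [0], [0, 1, 2], [0, 1], [1, 2], [0, 1, 2], [0, 1, 2], [0, 1, 2], [0], [0, 1], [1, 2], [0, 2], [0, 1, 2], [0, 2], [0], [1, 2], [2], [1, 2], [0, 1, 2], [0, 1, 2], [0, 1, 2], [1, 2], [0, 1, 2], [0, 1, 2]]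

/-- layer -/
def sub1L5P0 : List (List ℕ) := [[0, 1, 2], [0, 1, 2], [0], [1, 2], [1, 2], [0, 1, 2], [1, 2], [0, 2], [0, 1, 2], [0], [0, 1], [0, 1, 2], [0, 1, 2], [1], [0, 1], [0, 2], [0, 1, 2], [0, 2], [1], [0, 1], [0, 1, 2], [0, 1, 2], [0, 1, 2], [1], [0, 1, 2], [0, 1, 2], [1, 2], [1], [1], [0, 1, 2], [0, 2], [0, 1], [0, 1, 2], [0, 2], [0], [1, 2], [0, 1, 2], [0, 1, 2], [0, 2], [2], [1, 2], [1, 2], [0, 1, 2], [0, 2], [1, 2], [2], [], [0, 1], [1], [0, 2], [0, 1, 2], [0, 2], [1, 2], [0, 2], [0], [0, 1, 2], [2], [0, 1], [2], [1], [0, 2], [0, 1, 2], [0, 1, 2], [2], [0], [1], [0, 1], [0, 1], [0, 1, 2], [0], [0, 1, 2], [0, 1, 2], [0, 1, 2], [2], [0, 1, 2], [1, 2], [0, 1], [0, 1, 2], [0, 1, 2], [0, 1], [0, 2], [0, 1], [1], [0, 2], [0, 1, 2], [0, 2], [0], [2], [1], [0, 2], [1, 2], [2], [], [0, 1], [0, 1], [2], [0], [0, 1, 2], [1], [0], [1], [0, 1], [], [0, 1, 2], [1, 2], [1], [1, 2], [0, 1], [0, 1, 2],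 [0, 2], [0, 2], [0], [1, 2], [1], [0, 1, 2], [1, 2], [0, 1, 2], [0], [], [2], [], [0, 1], [1], [1, 2], [1, 2], [0], [0], [1, 2]]

/-- layer -/
def sub1L5P1 : List (List ℕ) := [[0], [1], [0], [0, 2], [1, 2], [0], [2], [0], [0], [0, 2], [1, 2], [], [1], [1, 2], [0, 1, 2], [0, 2], [1, 2], [1, 2], [1], [0], [1], [1], [2], [2], [], [0, 1], [1], [0, 1], [0, 2], [1], [1], [], [0, 2], [0, 1], [1, 2], [0, 2], [1], [], [0, 1, 2], [0], [], [1]]

/-- layer -/
def sub1L6P0 : List (List ℕ) := [[0, 2], [0, 2], [0, 1], [1, 2], [2], [2], [], [0, 2], [], [], [], [0, 2], [1, 2], [0], [2], [0], [2], [0, 2], [2], [], [2], [2], [0], [], [1], [2], [0], [], [], [1], [0], [0, 2], [0], [0, 1, 2], [], [], [], [1, 2], [], [], [], [0, 2], [], [1], [2], [1, 2], [1], [0], [], [2], [1], [0], [0], [0, 1, 2], [1], [1], [], [], [], [0], [1, 2], [0, 1], [0, 1], [0, 1], [0], [1], [], [0], [1], [0], [1], [1, 2], [1], [], [0, 2], [],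 [], [2], [2], [0], [0, 2], [], [0, 1], [], [0, 2], [0], [0], [0], [2], [], [], [0, 1, 2], [], [1], [0, 1, 2], [0, 1], [0, 1, 2], [], [], [], [0, 2], [1], [], [], [2], [1], [], [1], [2], [1], [0, 1], [], [1], [0], [], [1], [], [0], [0, 2], [1, 2], [2], [1], [2], [0], [2], [2], [1], [0, 2]]

/-- layer -/
def sub1L6P1 : List (List ℕ) := [[], [], [1], [1, 2], [1], [0, 2], [1], [], [], [], [2], [], [], [1], [2], [2], [0], [0, 1], [1, 2], [0], [], [], [1], [1, 2], [1], [], [1], [0], [0], [], [], [2], [1], [0], [0], [2], [], [], [], [], [], [0], [], [], [], [0], [1, 2], [], [], [1], [0], [], [], [], [], [], [], [], [0], [], [2], [0], [], [0, 2], [0], [], [2], [2], [], [], [2], [], [1], [], [], [], [], [], [], [1], [0], [1], [], [], [], [], [1], [], [], [0, 2], [], [], [], [], [], [], [], [], [], [2], [], [2], [], [], [], [], [], [], [], [], [2], [], [], [], [], [0, 1], [1], [1], [2], [2], [], [0], [],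 [0, 1], [], [2], [], []]

/-- layer -/
def sub1L6P2 : List (List ℕ) := [[], [], [], [], [], [2], [], [], [], [], [], [], [], [], [], [], [1, 2], [1], [], [], [], [], [], [], [], [], [], [], [], [], [], [], [], [], [], [], [], [], [], [], [], []]

/-- layer -/
def sub1L7P0 : List (List ℕ) := [[], [], [], [0], [], [0], [2], [], [], [0], [], [0], [], [], [], [], [], [], [], [], [], [], [], [2], [], [], [], [], [], [], [1], [], [], [0], [1], [], [1], [], [], [], [], [1], [], [], [], [], [1], [2], [], [1], [], [], [], [], [], [], [], [], [], [], [], [], [1], [], [], [], [], [], [], [], [], [], [], [], [], [], [], [], [], [], [], [], [], [], [0], [], [], [], [], [], [], [], [], [], [], [], [], [], [], [], [], [], [], [], [], [0], [], [], [], [2], [], [], [], [], [], [], [], [], [], [], [], [], [], [], [], [], [], []]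

/-- layer -/
def sub1L7P1 : List (List ℕ) := [[1], [], [], [], [], [], [], [], [], [], [], [], [], [], [], [], [], [], [], [], [], [], [], [], [], [], [], [], [], [], [], [], [], [], [], [], [], [], [], [], [], [], [], [], [], [], [], [], [], [], [], [], [], [], [], [], [], [], [], [], [], [], [], [], [], [], [], []]

/-- layers -/
def sub1 : List (List (List ℕ)) := [sub1L0P0, sub1L1P0, sub1L2P0, sub1L3P0, sub1L4P0, sub1L5P0 ++ sub1L5P1, sub1L6P0 ++ sub1L6P1 ++ sub1L6P2, sub1L7P0 ++ sub1L7P1]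

/-- layer -/
def full1L0P0 : List (List ℕ) := [[3]]

/-- layer -/
def full1L1P0 : List (List ℕ) := [[0, 1, 2, 3]]

/-- layer -/
def full1L2P0 : List (List ℕ) := [[0, 1, 2, 3], [0, 1, 2, 3], [0, 1, 2, 3], [0, 1, 2, 3]]

/-- layer -/
def full1L3P0 : List (List ℕ) := [[0, 1, 2, 3], [0, 1, 2, 3], [0, 1, 2, 3], [0, 1, 2, 3], [0, 1, 2, 3], [1, 2, 3], [0, 1, 2, 3], [0, 1, 2, 3], [0, 1, 2], [0, 1, 2, 3], [0, 1, 2, 3], [0, 1, 2, 3], [0, 1, 2, 3], [0, 1, 2, 3], [0, 1, 2, 3], [0, 1, 2, 3]]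

/-- layer -/
def full1L4P0 : List (List ℕ) := [[0, 1, 2, 3], [0, 1, 3], [0, 2, 3], [0, 1, 2, 3], [0, 1, 2, 3], [0, 1, 2, 3], [0, 1, 2, 3], [0, 1, 2, 3], [0, 1, 2, 3], [0, 1, 2, 3], [0, 1, 2, 3], [0, 1, 2, 3], [0, 1], [0, 1, 2, 3], [0, 1, 2, 3], [0, 1, 2, 3], [0, 1, 2, 3], [0, 2, 3], [0, 1, 2, 3], [0, 1, 2, 3], [0, 1, 2, 3], [0, 1, 2, 3], [0, 1, 2], [0, 1, 2, 3], [0, 2], [1, 3], [0, 1, 2, 3], [1, 2, 3], [1, 2, 3], [0, 1, 2, 3], [0, 2, 3], [0, 1, 3], [0, 1, 2, 3], [2, 3], [0, 1, 2, 3], [0, 1, 2, 3], [0, 1, 3], [0, 1, 2], [0, 1, 2, 3], [0, 1, 2, 3], [0, 1, 2, 3], [0, 1, 2, 3], [0, 2, 3], [0, 1, 2, 3], [0, 1, 3], [1, 3], [0, 1, 2, 3], [0, 1, 2, 3], [0, 1, 2, 3], [1, 3], [0, 1, 2, 3], [0, 1, 2, 3], [1, 2], [0, 1, 2, 3], [0, 1, 2, 3], [0, 2, 3], [1, 2, 3], [1, 2], [0, 1, 2], [0, 1, 2, 3], [1, 2, 3], [0, 1, 2, 3]]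

/-- layer -/
def full1L5P0 : List (List ℕ) := [[0, 1, 2, 3], [1, 2, 3], [0, 1, 3], [0, 1, 2, 3], [0, 1, 2, 3], [0, 1, 2], [0, 1, 2, 3], [0, 1], [3], [0, 1, 2, 3], [0, 2, 3], [0, 2, 3], [0, 1, 2, 3], [0, 1, 2, 3], [0, 1, 2, 3], [0, 1, 2], [0, 2, 3], [0, 1, 2, 3], [0, 1, 2, 3], [0, 2, 3], [1, 2, 3], [0, 1, 2, 3], [0, 1, 2, 3], [0, 1, 2, 3], [0, 1, 2, 3], [0, 1, 2, 3], [0, 2], [1, 3], [1, 2, 3], [0, 1], [0, 1, 2], [2, 3], [0, 1, 2, 3], [1, 2, 3], [0, 1, 2], [0, 1, 3], [3], [0, 1, 2, 3], [0, 1], [1, 2, 3], [2, 3], [1, 2, 3], [0, 1, 2], [0, 1, 2], [0, 1, 3], [0, 1, 2, 3], [1, 2, 3], [0, 1, 2, 3], [0, 1, 3], [0, 2], [1, 3], [0, 1], [0, 1, 3], [1, 2, 3], [0, 1, 2, 3], [1, 2, 3], [2, 3], [0, 1, 2], [0, 1, 3], [0, 1, 2, 3], [0, 2, 3], [0, 3], [0, 1, 3], [1, 3], [2], [0, 1, 2, 3], [0, 1], [0, 1, 2, 3], [0, 1, 3], [0, 2, 3], [0, 1, 2, 3], [0, 1, 2, 3], [1, 2, 3], [0, 3], [0, 1, 3], [], [1, 2, 3], [1, 2, 3],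 [0, 1, 2, 3], [0, 1, 2, 3], [0, 1, 2, 3], [2, 3], [0, 2, 3], [0, 2], [0, 1, 3], [1], [2, 3], [0, 1, 2, 3], [0, 1], [0, 1, 3], [0, 1, 3], [0, 1, 3], [3], [0, 2], [1, 2, 3], [0, 2, 3], [2], [1, 2, 3], [0, 3], [0, 1, 3], [2], [0, 1, 2, 3], [0, 1, 2, 3], [0, 1], [0, 1, 2, 3], [1, 3], [0, 2, 3], [0, 1], [2, 3], [1, 2], [0, 1, 3], [0], [0, 1, 2, 3], [0, 1, 2], [1, 3], [1], [0, 2], [0, 3], [1, 2], [0, 1, 2], [1, 2], [0], [0, 1, 3], [0, 1, 2, 3], [1, 2], [0, 2, 3], [0, 1, 2, 3], [3]]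

/-- layer -/
def full1L5P1 : List (List ℕ) := [[0, 2], [0], [1, 2, 3], [0], [0, 1], [0, 1, 2, 3], [1], [3], [1], [0, 2, 3], [0, 1, 2, 3], [0, 1, 2, 3], [0, 2], [1, 2], [2, 3], [0], [0, 1, 3], [0, 1, 2], [0, 1, 2, 3], [0, 1, 3], [0, 3], [0, 1, 2], [0, 1, 2, 3], [2], [0, 1, 2, 3], [0, 1, 2], [1, 2], [0, 1, 2, 3], [1, 3], [1, 3], [0, 2], [2, 3], [0], [0, 1, 3], [0, 1, 3], [0, 2, 3], [0], [1], [0, 3], [1, 2, 3], [0, 1, 2, 3], [0, 1, 2, 3], [1, 3], [1], [1, 2], [0, 1, 3], [1], [2], [], [3], [1, 2], [0, 1, 3], [0, 2], [0, 2], [], [1, 2, 3], [0, 2], [1, 2, 3], [2, 3], [0, 3], [], [0], [0, 3], [2], [1], [0, 3], [1, 2, 3], [0], [0, 2, 3], [0, 1], [0, 2, 3], [3], [2, 3], [2, 3], [1, 3], [0, 3], [2, 3], [3], [1], [0, 1, 2, 3], [0, 3], [0], [0, 1, 2], [3], [3], [0], [0], [0, 1, 2, 3]]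

/-- layer -/
def full1L6P0 : List (List ℕ) := [[0, 1, 2], [0, 1, 2, 3], [0], [1], [1], [2, 3], [0, 1], [0, 3], [], [1, 3], [3], [3], [1, 3], [], [0, 2], [], [0, 3], [0, 1, 3], [1, 2], [3], [1, 3], [1, 2], [0, 1, 2, 3], [2], [1], [0, 1], [0, 2], [0, 2, 3], [0], [2, 3], [0, 3], [1], [0, 2], [], [0], [2], [1], [1, 2], [1, 3], [1, 3], [0, 2], [0, 1, 2, 3], [], [1, 3], [0, 2, 3], [1, 2, 3], [2], [3], [0, 1], [0], [0], [], [0], [3], [0, 1, 2], [0, 1, 2], [0], [1], [1, 3], [1], [1, 2], [1], [1], [1], [1, 2], [], [], [2], [], [0], [2, 3], [3], [], [2, 3], [1], [], [2], [1], [3], [3], [3], [2], [1, 2], [0, 2, 3], [2], [0, 1], [2], [0, 1, 3], [], [], [2], [0, 1, 2], [0, 1, 2], [1, 2, 3], [0, 2], [0, 2], [1], [], [0, 2], [1, 2], [2], [3], [0], [0, 1], [3], [2], [2], [0, 2], [], [0, 2], [3], [], [2], [2], [], [0, 1, 2], [0, 2, 3], [2], [0], [], [0], [], [3], [2], [0, 3], [], [0, 1, 2], []]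

/-- layer -/
def full1L6P1 : List (List ℕ) := [[0, 2, 3], [0, 3], [1, 3], [], [2], [3], [], [], [0, 3], [3], [1, 2], [], [3], [0], [], [], [2, 3], [0, 1, 2], [0, 2], [3], [0], [0, 1, 2], [2], [0, 2], [0, 2, 3], [], [1], [0, 1], [2], [3], [0], [0], [1], [1], [], [0], [0, 1], [1], [], [0, 2], [0, 3], [0], [1, 3], [], [1, 2], [], [2], [], [], [], [0, 1, 3], [1], [], [], [1], [1, 2], [2], [1], [1, 3], [1], [1], [3], [1], [], [3], [2, 3], [3], [1], [2], [], [1, 2], [0, 2], [0], [3], [], [], [2, 3], [0], [1], [3], [], [], [0], [0, 3], [], [], [1, 3], [2], [3], [1], [0], [0], [3], [1, 2], [], [1, 3], [3], [], [3], [0], [], [], [2, 3], [3], [], [], [1], [2], [0], [0], [0, 1], [0], [0], [], [1], [0, 3], [1], [], [0], [0], [], [], [], [], [], [], [], [3]]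

/-- layer -/
def full1L6P2 : List (List ℕ) := [[1], [3], [0, 3], [3], [], [], [], [], [], [1], [0], [], [], [2, 3], [2], [0, 1], [], [1, 2], [0], [], [], [], [1], [2], [], [0], [0, 2], [3], [0, 2], [], [], [1], [], [1], [3], [], [2, 3], [], [0], [], [1, 3], [1], [1], [2], [0], [3], [], [], [], [3], [], [3], [0, 1], [], [3], [2], [1], [], [], [0, 2], [], [], [2], [0], [], [], [], [], [], [], [3], [1, 3], [], [], [2], [], [1], [3], [], [], [1, 3], [], [], [], [], [], [], [], [], [0], [0], [], [1], [], [1], [], [], [], [], [1], [], [3], [], [2], [1], [1], [2], [], [], [], [2], [2], [], [3], [2], [], [], [0], [0], [], [], [], [0], [2], [], [1], [], []]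

/-- layer -/
def full1L6P3 : List (List ℕ) := [[], [], [], [], [], [], [], [], [3], [], [], [], [], [], [], [], [], [3], [3], [1], [], [], [], [1], [1], [], [], [], [], [], [], [0], [], [], [], [], [0], [], [], [1], [], [], [2], [2, 3], [], [], [0], [], [], [], [], [], [1, 2], [], [], [2], [0], [0], [0], [], [], [], [], [], [], [], [0], [2], [], [], [], [], [0, 2], [], [], [1], [], [2], [], [], [], [], [3], [], [], [], [], [], [], [3], [2], [], [], [], [], [], [1], [2], [0], [], [2], [], [], [], [], [], [2, 3], [], [], [], [], [], [], [], [], [], [], [], [], [], [], [], [], [], [], [], [1], []]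

/-- layer -/
def full1L6P4 : List (List ℕ) := [[1], [], [], [], [], [], [], [], [], [], [], [], [], [], [], [1], [2], [3], [], [], [], [], [2, 3], [], [], [3], [3], [], [2], [], [], [], [], [], []]

/-- layer -/
def full1L7P0 : List (List ℕ) := [[], [], [], [], [], [], [], [], [0], [2], [], [], [], [], [0], [], [], [], [], [], [], [], [], [], [], [], [], [], [], [], [0], [], [], [], [], [], [], [], [], [], [], [], [], [], [2], [], [], [], [], [], [3], [], [], [], [0], [], [], [], [], [], [], [], [], [], [], [], [], [], [], [], [], [1], [], [], [2], [], [], [], [], [], [], [], [], [], [], [], [], [], [3], [], [], [], [], [], [], [], [], [], [], [], [], [], [], [], [], [], [], [], [], [], [], [], [], [], [], [], [], [], [], [], [], [], [], [], [0], [1], [], []]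

/-- layer -/
def full1L7P1 : List (List ℕ) := [[], [], [], [], [], [], [], [], [], [], [], [], [3], [], [], [], [], [], [], [], [], [], [], [], [], [], [], [], [], [], [3], [], [], [], [], [], [], [], [], [], [], [], [], [], [], [], [], [], [], [], [], [], [], [], [], [], [], [], [], [], [], [], [], [], [], [], [], [], [], [], [], [], [], [], [], [], [3], [], [], [], [], [], [], [], [], [], [], [], [], [], [], [], [], [], [], [], [], [], [], [], [0], [], [], [], [], [], [], [], [], [], [], [], [], [], [], [], [], [], [], [], [], [], [], [], [], [], [], []]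

/-- layer -/
def full1L7P2 : List (List ℕ) := [[], [], [], [], [], [], [], [], [], [], [], [], [], [], [], [], [], [], [], [], [], [], [], [], [], [], [], [], [], [], [], [], [], [], [], [], [], [], [], [], [], [], [], [], [], [], [], [], [], [], [], [], [], [], [], [], [], [], [], [], [], [], [], [], [], [], [], [], [], [], [], [], [], [], [], [], [], [], [], [], [], [], [], [], [], [], [], [], [], [], [], [], [], [], [], [], [], [], [], [], [], [], [], [], [], [], [], [], [], [], [], [], [], [], [], [], [], [], [], [], [], [], [], [], [], [], [], []]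

/-- layer -/
def full1L7P3 : List (List ℕ) := [[], [], [], [], [], [], [], [], [], [], [], [], [], [], [], [], [], [], [], [], [], [], [], [], [], [], [], [], [], [], [], [], [], [], [], [], [], [], [], [], []]

/-- layers -/
def full1 : List (List (List ℕ)) := [full1L0P0, full1L1P0, full1L2P0, full1L3P0, full1L4P0, full1L5P0 ++ full1L5P1, full1L6P0 ++ full1L6P1 ++ full1L6P2 ++ full1L6P3 ++ full1L6P4, full1L7P0 ++ full1L7P1 ++ full1L7P2 ++ full1L7P3]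

/-- generators of the stabiliser -/
def gens : List ℕ := [479829129717610270604595045454775683, 902633426608317728321264605946200102, 91039601456671502934347025333594677]

/-- suborbits -/
def certs : List SubCert := [{ y := 28637, r := 419856041149619678184980024060002927, sp := sub0, full := full0 }, { y := 195645, r := 299398360497917294868234482378845728, sp := sub1, full := full1 }]

end Cfsg.Agent.M24.MaxDpair
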