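import Cfsg.Agent.M24.Suborbit

/-!
Suborbit data (duad).
-/

set_option autoImplicit false

namespace Cfsg.Agent.M24.MaxDuad

/-- layer -/
def sub0L0P0 : List (List ℕ) := [[0, 1, 2, 3]]

/-- layer -/
def sub0L1P0 : List (List ℕ) := [[0, 1, 2, 3], [0, 1, 3], [1, 2, 3], [0, 1, 2, 3]]

/-- layer -/
def sub0L2P0 : List (List ℕ) := [[0], [0, 3], [3], [1], [0, 1], [2, 3], [1], [0, 2], [3], [], [0], [], [1, 2], [2]]

/-- layer -/
def sub0L3P0 : List (List ℕ) := [[0], [], [2], [0], [], [], [], [], [], [], [3], [3], [2], [0], [], [3], []]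

/-- layers -/
def sub0 : List (List (List ℕ)) := [sub0L0P0, sub0L1P0, sub0L2P0, sub0L3P0]

/-- layer -/
def full0L0P0 : List (List ℕ) := [[4]]

/-- layer -/
def full0L1P0 : List (List ℕ) := [[0, 1, 2, 3, 4]]

/-- layer -/
def full0L2P0 : List (List ℕ) := [[0, 1, 2, 3, 4], [0, 1, 3, 4], [1, 2, 3], [0, 1, 2, 3, 4], [4]]

/-- layer -/
def full0L3P0 : List (List ℕ) := [[4], [3], [3], [1, 4], [1, 3, 4], [1], [3], [1, 4], [3], [0], [3], [4], [0, 4], [4], [2, 4], [2], [0, 1, 2, 3, 4], [3]]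

/-- layer -/
def full0L4P0 : List (List ℕ) := [[], [4], [0, 4], [4], [0, 1, 2, 3, 4], [], [4], [3], [], [4], [4], [0, 1, 2, 4], [0, 4], [3], [4], [0, 1, 2, 3, 4], [4], [0, 1, 2, 3, 4], [0, 1, 2, 3], [4], [0, 1, 2, 4], [], [0, 1, 2, 3], [0, 1, 3, 4], [1, 3], [0, 1, 2, 3, 4], [2, 3, 4], []]

/-- layer -/
def full0L5P0 : List (List ℕ) := [[0, 1, 2, 3, 4], [4], [0, 1, 2, 3, 4], [0, 2, 3, 4], [1, 2, 3, 4], [0, 1, 2, 3], [0, 2, 3], [0, 1, 2, 3, 4], [0, 1, 2, 3, 4], [2, 3, 4], [4], [0, 1], [3, 4], [1, 2, 3, 4], [0, 2, 3, 4], [0, 1, 2, 3], [0, 1, 2, 3, 4], [4], [1, 2, 3, 4], [], [0, 1], [], [0, 1], [0, 1, 2, 3], [2, 3], [0, 3, 4], [2, 3], [0, 2, 3], [1, 2], [1, 2], [0, 2, 3], [1], [1, 3], [0, 3], [1, 3], [4], [1], [3, 4], [], [1], [0, 2, 3], [4], [0, 2], [4], [0], [3], [4], [0, 1, 4], [3], [0, 3, 4], [], [], [], [3, 4], [], [3], [], [2], [1]]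

/-- layer -/
def full0L6P0 : List (List ℕ) := [[], [3], [1], [3], [4], [1, 4], [2], [1], [1, 2], [2], [4], [1], [1], [3], [3], [], [2, 3, 4], [], [], [], [], [2, 3], [], [], [2], [0, 4], [], [], [1], [4], [], [], [], [], [], [], [], [], [], [1], [4], [], [], [], [0, 1], [], [], [4], [], [], [2], [], [], [], [], [], [], [], [2], [4], [4], [], [], [], [1], [], [], [], [1], [], [], [], [], [], [], [], [], [], [], [3], [], [], [], [], [], [], [], [], [], [], [], [], [], [], [0], [], [], [], [], [], [], [], [], [], [], [], [], [], [], [], [], [], [], [], [], [], [], [], [], [], [], [], [], [], []]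

/-- layers -/
def full0 : List (List (List ℕ)) := [full0L0P0, full0L1P0, full0L2P0, full0L3P0, full0L4P0, full0L5P0, full0L6P0]

/-- layer -/
def sub1L0P0 : List (List ℕ) := [[0, 1, 2, 3]]

/-- layer -/
def sub1L1P0 : List (List ℕ) := [[0, 1, 2, 3], [0, 1, 2, 3], [0, 1, 2, 3], [0, 1, 2, 3]]

/-- layer -/
def sub1L2P0 : List (List ℕ) := [[0, 1, 2, 3], [1, 2, 3], [0, 1, 3], [1, 2, 3], [0, 1, 2, 3], [0, 1, 2, 3], [0, 1, 3], [0, 1, 3], [0, 1, 2, 3], [1, 2, 3], [0, 1, 3], [0, 1, 2], [0, 1, 2, 3], [1, 2, 3], [0, 1, 2, 3], [0, 2, 3]]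

/-- layer -/
def sub1L3P0 : List (List ℕ) := [[1, 2], [0, 1, 2, 3], [0, 2], [], [0, 1, 2, 3], [0, 1, 2, 3], [0, 1, 3], [0, 1, 2, 3], [0, 1, 3], [0, 1, 2, 3], [0, 1, 3], [1, 2, 3], [0, 1, 2, 3], [0, 1, 3], [0, 2], [1], [0, 1, 2, 3], [0, 1], [1, 2, 3], [1, 2, 3], [0, 1, 2, 3], [1, 2], [0, 1, 3], [0], [0, 1], [0, 1, 2], [0, 2, 3], [3], [0, 2], [1, 2], [], [1, 2, 3], [1, 3], [1, 2, 3], [3], [1, 2], [], [1], [1, 3], [0, 2], [0], [1], [0, 1], [1], [], [0], [1, 3], [], [], [1], [1], [1], [], [0]]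

/-- layer -/
def sub1L4P0 : List (List ℕ) := [[], [1, 3], [0], [], [], [0, 1], [0, 1, 3], [], [], [2], [0, 2], [2], [1, 2], [2], [], [], [3], [0, 1, 2], [0, 1], [], [3], [], [1, 3], [], [], [1, 3], [], [3], [2], [1], [], [2], [], [1, 3], [], [1, 3], [1], [0], [], [], [0], [], [2], [], [], [], [], [1, 3], [], [], [], [], [], [0], [], [2, 3], [], [], [], [], [], [], [], [2], [], [], [], [], [], [], [0], [], [], [], [], [], [], [], [], [], [], [], [], [], [], [3], [], [], [], [], [], [], [], [0], [], [], [], [], [], [], [], [], [], [], [], [], [], [], []]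

/-- layers -/
def sub1 : List (List (List ℕ)) := [sub1L0P0, sub1L1P0, sub1L2P0, sub1L3P0, sub1L4P0]

/-- layer -/
def full1L0P0 : List (List ℕ) := [[4]]

/-- layer -/
def full1L1P0 : List (List ℕ) := [[0, 1, 2, 3, 4]]

/-- layer -/
def full1L2P0 : List (List ℕ) := [[0, 1, 2, 3, 4], [0, 1, 2, 3, 4], [0, 1, 2, 3, 4], [0, 1, 2, 3, 4], [0, 1, 2, 3, 4]]

/-- layer -/
def full1L3P0 : List (List ℕ) := [[0, 1, 2, 3, 4], [1, 2, 3, 4], [0, 1, 3, 4], [1, 2, 3, 4], [0, 1, 2, 3], [0, 1, 2, 3, 4], [1, 2, 3, 4], [0, 1, 4], [1, 3, 4], [0, 1, 2, 3, 4], [0, 1, 2, 3], [1, 2, 3], [0, 1, 3, 4], [0, 1, 2, 4], [0, 3, 4], [0, 1, 2, 3], [1, 2, 3, 4], [0, 1, 2, 3, 4], [0, 2, 3, 4], [0, 1, 3], [0, 1, 2, 3], [0, 1, 2, 3], [0, 1, 3, 4], [0, 1, 2], [0, 2, 4]]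

/-- layer -/
def full1L4P0 : List (List ℕ) := [[4], [0, 4], [], [4], [1, 2, 4], [0, 2, 3, 4], [0, 3, 4], [0, 3], [2, 4], [0, 1, 2, 3], [1], [1, 3, 4], [2, 3, 4], [0, 1, 3], [1, 2, 3, 4], [0, 1, 2, 3], [1, 2, 3, 4], [0, 2, 3, 4], [1, 3], [2], [2], [1], [0, 2, 4], [], [0, 1], [0, 4], [], [1, 2, 3], [0, 3], [1, 2, 3, 4], [4], [0, 1, 4], [0, 2, 4], [1], [2, 4], [2, 3, 4], [0, 1, 3], [0, 3, 4], [1, 4], [4], [0], [], [2], [2], [], [1, 3, 4], [1, 3], [1], [], [1], [4], [2], [1], [1], [], [], [0], [1, 4], [0, 1], [], [1], [1], [], [], [0], [4], [], [], [], [1], [], [2], [1], [4], [0], [1, 3], [2], [0], [], [], [], [3], [], [], [0], [4], [], [2], [], [1], [], [4], [2], [], [], [3], []]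

/-- layer -/
def full1L5P0 : List (List ℕ) := [[], [], [2], [2], [1], [4], [], [], [], [2], [], [2], [], [1, 2, 3], [3], [], [], [], [], [], [], [1], [], [], [], [], [], [3], [], [], [], [], [], [], [], [], [], [], [], [], [], [1, 4], [], [], [], [], [], [1], [], [], [], [], [], [], [], [], [], [], [], [], [], [], [], [], [], [2], [], [], [], [], [], [], [], [], [], [], [], [], [], [], [], [], [], [], [], [], [], [], [], [], [], [], [], [], [], [], [], [], [], [], [], [], [], [], [], [], [], [], [], [], [], [], [], [], [], [], [], [], [], [], [], [], [], [], [], [], [], []]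

/-- layer -/
def full1L5P1 : List (List ℕ) := [[], [], []]

/-- layers -/
def full1 : List (List (List ℕ)) := [full1L0P0, full1L1P0, full1L2P0, full1L3P0, full1L4P0, full1L5P0 ++ full1L5P1]

/-- generators of the stabiliser -/
def gens : List ℕ := [958514401455309414755183745067796512, 980134114503591944544269354970370080, 890948208872565418974356920589365280, 152582834553811668301177497898531841]

/-- suborbits -/
def certs : List SubCert := [{ y := 5, r := 679115354616976699707646316286447680, sp := sub0, full := full0 }, { y := 12, r := 548181069218662513108752217415495778, sp := sub1, full := full1 }]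

end Cfsg.Agent.M24.MaxDuad
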