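import Cfsg.Agent.M24.Suborbit

/-!
Suborbit data (oct).
-/

set_option autoImplicit false

namespace Cfsg.Agent.M24.MaxOct

/-- layer -/
def sub0L0P0 : List (List ℕ) := [[0, 1]]

/-- layer -/
def sub0L1P0 : List (List ℕ) := [[0, 1], [0, 1]]

/-- layer -/
def sub0L2P0 : List (List ℕ) := [[0, 1], [0, 1], [0, 1], [0, 1]]

/-- layer -/
def sub0L3P0 : List (List ℕ) := [[0, 1], [0], [0, 1], [0, 1], [0, 1], [0, 1], [0, 1], [0, 1]]

/-- layer -/
def sub0L4P0 : List (List ℕ) := [[0, 1], [0, 1], [0, 1], [0, 1], [0], [0, 1], [0, 1], [0, 1], [0], [0, 1], [0, 1], [0, 1], [0, 1], [0, 1], [0, 1]]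

/-- layer -/
def sub0L5P0 : List (List ℕ) := [[1], [1], [0, 1], [1], [0, 1], [1], [0, 1], [], [1], [0, 1], [0, 1], [0, 1], [0, 1], [0, 1], [0, 1], [1], [], [0, 1], [0], [], [0, 1], [0, 1], [0, 1], [0, 1], [1], [0, 1], [1], []]

/-- layer -/
def sub0L6P0 : List (List ℕ) := [[0, 1], [0, 1], [0, 1], [], [], [0], [0, 1], [], [], [0, 1], [0, 1], [1], [0, 1], [1], [0, 1], [0, 1], [0, 1], [0, 1], [0, 1], [1], [0, 1], [1], [0, 1], [], [0, 1], [0, 1], [1], [0], [0, 1], [1], [0, 1], [0, 1], [0], [0], [0, 1], [0, 1], [], [0], [0, 1]]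

/-- layer -/
def sub0L7P0 : List (List ℕ) := [[1], [0, 1], [0, 1], [1], [], [0, 1], [], [1], [0, 1], [1], [0, 1], [0], [0, 1], [0], [0, 1], [0, 1], [0], [0], [1], [0, 1], [0], [0, 1], [0], [0, 1], [0], [0], [0], [0], [], [1], [0, 1], [1], [0], [0, 1], [], [], [0], [0, 1], [], [0], [0], [1], [0, 1], [0], [0, 1], [], [1], [0, 1], [0, 1], [1], [], [], [], [], [0, 1]]

/-- layer -/
def sub0L8P0 : List (List ℕ) := [[1], [], [0, 1], [1], [1], [1], [1], [0, 1], [1], [], [1], [1], [0], [0], [1], [], [1], [0, 1], [1], [0], [0, 1], [1], [0], [0], [0], [], [0], [0, 1], [], [], [0], [1], [0], [1], [0, 1], [1], [], [], [1], [1], [0, 1], [], [], [1], [], [], [], [1], [1], [], [1], [], [], [], [], [0], [0, 1], [0], [], [1], [0, 1], [], [1]]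

/-- layer -/
def sub0L9P0 : List (List ℕ) := [[], [], [], [], [], [], [], [], [1], [], [], [1], [0], [], [0, 1], [0], [], [], [1], [], [], [], [], [], [], [], [], [], [], [], [], [], [], [], [], [0], [], [], [], [], [], [1], [], [], [0], [], [], [], [], [1], [], []]

/-- layer -/
def sub0L10P0 : List (List ℕ) := [[], [], [0, 1], [], [], [], [], [], [], [], []]

/-- layers -/
def sub0 : List (List (List ℕ)) := [sub0L0P0, sub0L1P0, sub0L2P0, sub0L3P0, sub0L4P0, sub0L5P0, sub0L6P0, sub0L7P0, sub0L8P0, sub0L9P0, sub0L10P0]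

/-- layer -/
def full0L0P0 : List (List ℕ) := [[2]]

/-- layer -/
def full0L1P0 : List (List ℕ) := [[0, 1, 2]]

/-- layer -/
def full0L2P0 : List (List ℕ) := [[0, 1, 2], [0, 1, 2], [0, 1, 2]]

/-- layer -/
def full0L3P0 : List (List ℕ) := [[0, 1, 2], [0, 1, 2], [0, 1, 2], [0, 1, 2], [0, 1, 2], [0, 1, 2], [0, 1, 2], [0, 1, 2], [1, 2]]

/-- layer -/
def full0L4P0 : List (List ℕ) := [[0, 1, 2], [0, 2], [0, 1, 2], [0, 1, 2], [1, 2], [0, 1, 2], [0, 1, 2], [0, 1, 2], [0, 1, 2], [0, 1, 2], [0, 1], [0, 1, 2], [0, 1, 2], [0, 1, 2], [0, 2], [0, 1, 2], [0, 1, 2], [0, 1, 2], [0, 2], [0, 1, 2], [0, 1, 2], [0, 1, 2], [0, 1, 2], [0, 1, 2], [0, 2], [0, 1]]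

/-- layer -/
def full0L5P0 : List (List ℕ) := [[0, 1, 2], [0, 2], [0, 1], [0, 1, 2], [1], [0, 1, 2], [0, 1, 2], [0, 2], [1, 2], [0], [0, 1, 2], [0, 1, 2], [0, 1, 2], [1], [0, 1, 2], [0, 1, 2], [0, 1, 2], [0], [1, 2], [0, 1, 2], [0, 1, 2], [0, 1, 2], [0, 1, 2], [0, 1, 2], [1, 2], [0, 1, 2], [0, 2], [0, 2], [1, 2], [0, 1, 2], [0, 1, 2], [0, 1, 2], [1, 2], [0, 1], [0, 1, 2], [0, 1, 2], [0, 1, 2], [0, 1], [0, 1, 2], [], [0, 1, 2], [0, 1, 2], [0, 1], [0, 1], [0, 1, 2], [0, 1, 2], [1, 2], [0, 1], [0, 1], [0, 1], [0, 2], [0, 1, 2], [2], [0, 1], [0, 1], [0, 1, 2], [0, 1, 2], [2], [], [2], [0, 1, 2], [0, 1, 2], [2], [0, 1, 2], [0, 1], [0, 2], [0, 1, 2], [0], [0, 2], [0, 1], [0, 2]]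

/-- layer -/
def full0L6P0 : List (List ℕ) := [[1], [], [0, 1, 2], [2], [1, 2], [0, 1, 2], [1, 2], [1, 2], [1], [2], [0], [0, 1, 2], [0, 1, 2], [0, 2], [0, 1], [0, 1, 2], [0, 1, 2], [0], [0, 1, 2], [], [0, 1], [1], [2], [0, 1, 2], [1], [0, 1, 2], [0, 2], [0, 2], [0, 1, 2], [0, 1, 2], [0, 1, 2], [1, 2], [1], [0, 2], [2], [0, 1, 2], [0, 1, 2], [0, 1], [0, 2], [0, 2], [], [0], [0, 1, 2], [0, 2], [2], [0, 1], [1], [0], [0], [0, 1], [0, 1, 2], [1, 2], [0], [2], [0, 1, 2], [0, 2], [0, 1, 2], [0], [1], [0, 2], [0, 1], [0, 2], [0, 1], [1], [2], [1], [2], [0, 2], [0, 1], [0, 2], [2], [], [0, 2], [0, 1], [0, 1, 2], [0, 1], [1, 2], [1, 2], [], [0, 1, 2], [], [1], [1, 2], [0, 1, 2], [2], [0, 2], [1], [0], [0], [1], [], [0], [2], [], [1, 2], [0, 1], [0, 1, 2], [0, 2], [1], [2], [2], [0, 1, 2], [0, 1, 2], [1, 2], [0, 2], [], [0, 1, 2], [1], [2], [1], [0, 1, 2], [0, 1, 2], [], [0, 2], [2], [2], [0, 2], [0], [0, 1], [0, 1, 2],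 [1], [0], [0, 1, 2], [0, 1, 2], [0], [1], [0, 1], [1, 2]]

/-- layer -/
def full0L6P1 : List (List ℕ) := [[2], [1, 2], [2], [0, 1], [0, 2], [], [0], [2], [2], [], [0, 1], [1, 2], [], [0, 1, 2], [], [2], [0], [0, 1, 2], [], [0, 2], [0, 1], [0], [1, 2], [1], [1, 2], [0, 2], [1], [2], [], [0], [], [0], [], [], [0]]

/-- layer -/
def full0L7P0 : List (List ℕ) := [[0, 1], [2], [0, 1, 2], [0, 2], [1], [], [0, 2], [0, 1], [1, 2], [1, 2], [2], [1, 2], [2], [1], [], [2], [0], [1, 2], [0], [], [1], [0], [1, 2], [0, 1, 2], [1], [0, 1], [], [], [0, 1, 2], [0, 1], [2], [], [0, 1], [0, 2], [0], [0, 2], [0, 2], [], [], [0, 1], [], [], [2], [2], [0, 1, 2], [2], [], [0, 1, 2], [2], [1], [1], [2], [0, 2], [], [1], [0, 1], [], [1], [], [1, 2], [], [1], [1], [0], [0], [0], [], [2], [2], [0, 1, 2], [0], [0, 2], [1], [0, 2], [0], [], [0], [], [0, 1], [2], [0], [0], [1], [2], [1], [], [0, 2], [1, 2], [], [0], [0], [1], [], [], [1, 2],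 [0, 1, 2], [0, 1], [1], [2], [], [0], [2], [], [], [1], [2], [1, 2], [], [1, 2], [], [], [], [2], [], [], [], [], [0], [], [0, 1, 2], [0, 1, 2], [], [0], [2], [1], [], [1], []]

/-- layer -/
def full0L7P1 : List (List ℕ) := [[0], [], [], [2], [], [0, 2], [2], [], [], [], [], [1], [1], [], [2], [0], [1, 2], [0], [0], [2], [0], [0], [], [1], [], [], [], [], [], [], [0], [2], [1, 2], [], [], [], [], [], [], [], [1], [], [], [0], [], [], [], [], [1], [1], [2], [2], [], [], [], [], [], [], [0], [], [], [2], [2], [1], [2], [0, 2], [], [], [2], [], [], [], [0, 2], [], [], [1], [2], [], [], [], [], [], [], [], [], [1], [], [], [0], [], [2], [1], [2], [1], [0, 2], [0], [], [2], [], [], [2], [], [], [], [0], [0], [], [], [2], [], [], [], [], [], [], [1], [], [], [0, 1], [], [], [], [0, 2], [1], [0], [], [], []]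

/-- layer -/
def full0L7P2 : List (List ℕ) := [[0], [0], [], []]

/-- layer -/
def full0L8P0 : List (List ℕ) := [[1], [], [2], [2], [0], [], [], [], [1], [], [1], [], [], [], [], [2], [], [], [], [1], [1], [1, 2], [], [], [], [], [], [], [], [], [], [], [], [], [0], [], [], [], [], [], [], [2], [], [1], [], [], [], [], [], [1], [2], [2], [], [], [], [], [], [], [], [], [], [], [], [2], [], [], [0], [], [], [], [], [], [0, 2], [], [], [], [], [2], [], [], [], [], [], [2], [], [], [], [0], [], [], [0], [], [], [], [], [], [], [], [], [], [], [], [], [], [], [], [], [], [], [], [], [], [], [], [], [], [], [], [], [], [], [], [], [], [], [], [], []]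

/-- layer -/
def full0L8P1 : List (List ℕ) := [[], [], [], [0], [], [], [], [], [], [], [], [], [], [], [], [], [], [], [], [], [], [], [], [], [], [], [], [], [], [], [], [], [], [], [], [], [], [], [], [], [], [], [], [], [], [], [], [], [], [], [], [], [], [], [], [], [], [], [], [], [], [], [], [], [], [], [], [], [], [], []]

/-- layers -/
def full0 : List (List (List ℕ)) := [full0L0P0, full0L1P0, full0L2P0, full0L3P0, full0L4P0, full0L5P0, full0L6P0 ++ full0L6P1, full0L7P0 ++ full0L7P1 ++ full0L7P2, full0L8P0 ++ full0L8P1]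

/-- layer -/
def sub1L0P0 : List (List ℕ) := [[0, 1]]

/-- layer -/
def sub1L1P0 : List (List ℕ) := [[0, 1], [0, 1]]

/-- layer -/
def sub1L2P0 : List (List ℕ) := [[0, 1], [0, 1], [0, 1], [0, 1]]

/-- layer -/
def sub1L3P0 : List (List ℕ) := [[0, 1], [0], [0, 1], [0, 1], [0, 1], [0, 1], [0, 1], [0, 1]]

/-- layer -/
def sub1L4P0 : List (List ℕ) := [[0, 1], [0, 1], [0, 1], [0, 1], [0, 1], [1], [0, 1], [0, 1], [0, 1], [0, 1], [0, 1], [0, 1], [0, 1], [0, 1], [0, 1]]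

/-- layer -/
def sub1L5P0 : List (List ℕ) := [[1], [0, 1], [1], [1], [0], [0, 1], [0, 1], [0], [0, 1], [0], [0, 1], [0, 1], [0, 1], [0, 1], [0, 1], [0, 1], [0, 1], [0, 1], [0, 1], [0], [0, 1], [0, 1], [0, 1], [0, 1], [0, 1], [0, 1], [0, 1], [0, 1], [0]]

/-- layer -/
def sub1L6P0 : List (List ℕ) := [[0, 1], [0, 1], [0, 1], [0], [0, 1], [0, 1], [0, 1], [0], [0, 1], [0, 1], [0, 1], [0, 1], [0, 1], [1], [1], [0, 1], [0], [0], [0, 1], [0, 1], [1], [0, 1], [1], [0], [], [1], [0, 1], [0, 1], [0, 1], [0, 1], [0, 1], [], [0], [0], [0], [0, 1], [0, 1], [0, 1], [0], [0, 1], [0], [1], [0, 1], [0, 1], [], [0, 1], [], [0, 1], [0, 1], [0, 1]]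

/-- layer -/
def sub1L7P0 : List (List ℕ) := [[], [0, 1], [], [0], [0, 1], [0, 1], [1], [], [0], [0, 1], [0, 1], [1], [], [0, 1], [], [1], [0], [0, 1], [], [0], [1], [1], [1], [1], [0, 1], [0], [], [0, 1], [0, 1], [0], [0, 1], [0, 1], [0], [0, 1], [1], [1], [0], [0], [0], [0, 1], [], [], [], [0, 1], [0, 1], [0, 1], [0, 1], [0], [0, 1], [0, 1], [0, 1], [0], [1], [], [1], [0], [0, 1], [], [0], [0], [1], [0, 1], [0, 1], [0, 1], [0, 1], [], [0], [0, 1], [1], [0, 1], [1], [0, 1], [0, 1], [0], [0], [0]]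

/-- layer -/
def sub1L8P0 : List (List ℕ) := [[0, 1], [0, 1], [1], [], [], [0], [0, 1], [0, 1], [1], [], [1], [1], [1], [0], [0, 1], [0, 1], [1], [0], [0, 1], [0, 1], [1], [0], [1], [], [0, 1], [1], [0, 1], [1], [1], [], [0, 1], [0, 1], [1], [1], [], [1], [0, 1], [], [0], [0], [0, 1], [0, 1], [1], [], [0], [1], [], [], [1], [1], [0, 1], [1], [1], [], [0], [1], [], [0, 1], [0, 1], [1], [], [0, 1], [0], [0], [0, 1], [0], [1], [1], [0, 1], [0, 1], [], [], [0, 1], [], [0, 1], [], [0, 1], [], [], [1], [0, 1], [0], [], [], [0], [0, 1], [0], [1], [1], [0, 1], [1], [1], []]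

/-- layer -/
def sub1L9P0 : List (List ℕ) := [[], [0], [1], [0], [], [], [], [0], [], [], [1], [0], [], [1], [0], [], [], [], [0, 1], [0, 1], [], [], [], [], [0], [1], [], [0, 1], [], [], [], [], [1], [0], [], [], [], [0, 1], [], [1], [0, 1], [0], [], [1], [], [], [], [0], [1], [1], [], [0], [], [], [], [0, 1], [0], [1], [1], [], [0], [], [], [], [], [1], [1], [], [], [], [1], [0], [0, 1], [0, 1], [1], [], [0, 1], [], [], [0], [], [], [], [], [0, 1], [], [0, 1], [1], [], [], [1], [], [0, 1], [], [], [], [], [], []]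

/-- layer -/
def sub1L10P0 : List (List ℕ) := [[0, 1], [0], [], [], [], [], [], [], [1], [], [], [], [], [], [1], [], [], [], [], [], [1], [1], [], [0, 1], [], [], [0, 1], [], [], [1], [0], [], [1], [], [], [], [], [], [], [], [], [], [], [], [], [], [], [], [], [], [], [], [1], [], []]

/-- layer -/
def sub1L11P0 : List (List ℕ) := [[], [1], [], [], [], [], [], [], [], [], [], [], [], [], []]

/-- layers -/
def sub1 : List (List (List ℕ)) := [sub1L0P0, sub1L1P0, sub1L2P0, sub1L3P0, sub1L4P0, sub1L5P0, sub1L6P0, sub1L7P0, sub1L8P0, sub1L9P0, sub1L10P0, sub1L11P0]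

/-- layer -/
def full1L0P0 : List (List ℕ) := [[2]]

/-- layer -/
def full1L1P0 : List (List ℕ) := [[0, 1, 2]]

/-- layer -/
def full1L2P0 : List (List ℕ) := [[0, 1, 2], [0, 1, 2], [0, 1, 2]]

/-- layer -/
def full1L3P0 : List (List ℕ) := [[0, 1, 2], [0, 1, 2], [0, 1, 2], [0, 1, 2], [0, 1, 2], [0, 1, 2], [0, 1, 2], [0, 1, 2], [0, 1, 2]]

/-- layer -/
def full1L4P0 : List (List ℕ) := [[0, 1, 2], [0, 2], [0, 1, 2], [0, 1, 2], [0, 1, 2], [0, 1, 2], [0, 1, 2], [0, 1, 2], [0, 1], [0, 1, 2], [0, 1, 2], [0, 2], [0, 1, 2], [0, 1, 2], [0, 1, 2], [0, 2], [0, 1, 2], [0, 1, 2], [0, 1], [0, 1, 2], [0, 1, 2], [0, 1, 2], [0, 1, 2], [0, 1, 2], [0, 1, 2], [1, 2], [0, 1, 2]]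

/-- layer -/
def full1L5P0 : List (List ℕ) := [[0, 1, 2], [0, 1, 2], [0, 1], [0, 1, 2], [0, 1], [0, 1, 2], [0, 1], [0, 1, 2], [0, 1], [0, 1, 2], [0, 1, 2], [1], [0, 1, 2], [0, 1, 2], [0, 1], [0, 1, 2], [0, 1, 2], [0, 1], [0, 2], [0, 2], [0, 1, 2], [0, 1, 2], [1, 2], [0, 1], [0, 1, 2], [0, 1, 2], [0, 1, 2], [0, 1, 2], [0, 1, 2], [0, 1, 2], [0, 1], [0, 2], [0, 1, 2], [1, 2], [1, 2], [0, 1, 2], [1], [0, 1, 2], [0, 2], [2], [0, 1, 2], [0, 1, 2], [0, 1, 2], [0, 1], [0, 1], [0, 1, 2], [0, 1], [1], [1, 2], [0, 1, 2], [0, 1], [0, 1, 2], [0, 1, 2], [0, 1, 2], [1, 2], [0, 2], [0, 1], [0, 1, 2], [0, 2], [0, 1, 2], [0, 1, 2], [2], [0, 1, 2], [0, 2], [0, 1, 2], [0, 2], [0], [1, 2], [0, 1, 2], [0, 1, 2], [0, 2], [1], [0, 1, 2], [0, 1, 2], [0, 1, 2]]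

/-- layer -/
def full1L6P0 : List (List ℕ) := [[1, 2], [0, 1, 2], [0, 1, 2], [1, 2], [1, 2], [1, 2], [1, 2], [1, 2], [0], [0, 1, 2], [0], [0, 2], [0, 1, 2], [0, 1, 2], [0, 1, 2], [], [0, 1, 2], [2], [2], [0, 2], [0, 1, 2], [0, 1, 2], [0, 2], [0, 1], [0], [0, 2], [0, 2], [0, 2], [0, 1, 2], [0], [2], [0, 1, 2], [2], [0, 2], [0, 1, 2], [0, 2], [2], [0, 1, 2], [1], [1, 2], [0, 1, 2], [2], [0, 2], [0, 2], [0, 1, 2], [2], [0, 1, 2], [0], [2], [0, 1, 2], [1], [2], [0, 1], [0, 1, 2], [0, 2], [0, 1, 2], [1, 2], [0], [1, 2], [0, 1], [0, 1], [0], [], [0, 1], [0, 1, 2], [0], [0, 2], [0], [], [0], [0, 2], [0], [0, 1], [0, 1], [0, 1, 2], [0, 2], [1], [0, 1], [2], [0], [0, 1], [0, 1], [0, 2], [0, 1], [0, 2], [], [0, 1, 2], [1], [], [0, 1], [0, 1], [1], [0, 1, 2], [0, 2], [0], [0, 1, 2], [0, 1], [1], [0], [0], [0], [0, 1], [2], [0], [2], [0, 1, 2], [0, 1, 2], [1, 2], [0, 2], [0, 2], [1, 2], [0, 2], [], [1, 2], [0, 2], [0, 1],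 [], [], [0, 1], [0], [1, 2], [], [1], [1, 2], [], [2], [0], [0, 1, 2]]

/-- layer -/
def full1L6P1 : List (List ℕ) := [[0, 2], [0], [2], [0, 1], [0, 1], [0, 2], [0, 1, 2], [], [0, 1], [0], [0], [0], [2], [0, 1], [0, 1, 2], [0, 1], [1], [1, 2], [1], [], [], [], [0, 2], [0, 1], [0, 2], [2], [], [1], [1], [0, 2], [2], [], [0, 2], [0, 1, 2], [1, 2], [], [], [2], [], [2], [2], [1, 2], [], [0], [0], [], [0, 1], [1, 2], [0, 1], [2], [0], [], [], [], []]

/-- layer -/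
def full1L7P0 : List (List ℕ) := [[2], [1, 2], [], [0, 1, 2], [0, 2], [], [], [1, 2], [2], [0], [], [0, 1], [0], [], [0], [0, 1], [0], [1, 2], [], [0], [], [1], [], [], [], [0], [0, 1, 2], [], [1], [1, 2], [], [1, 2], [], [0], [0, 1, 2], [], [], [2], [1, 2], [0, 1], [], [2], [2], [0, 2], [], [0, 2], [], [0, 1, 2], [1, 2], [1], [1, 2], [2], [1], [0], [0], [], [0, 1], [], [2], [], [1], [], [1, 2], [], [], [1, 2], [0], [], [], [], [1], [1], [1], [], [], [0], [], [], [1], [], [], [0, 1], [2], [], [0, 2], [1], [2], [], [0], [], [], [1], [0], [], [], [], [0, 1], [], [2], [2], [], [2], [], [], [1], [], [0], [], [], [], [1], [], [], [], [], [2], [0, 1], [1, 2], [], [2], [1], [0], [], [], [0, 1], [], [2], []]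

/-- layer -/
def full1L7P1 : List (List ℕ) := [[2], [], [], [], [], [2], [], [], [2], [], [1], [2], [], [], [], [0], [], [2], [1, 2], [], [1], [], [], [], [2], [], [], [], [2], [], [], [], [1], [], [], [], [], [0, 1], [2], [1], [], [], [], [], [], [], [], [0], [2], [], [], [2], [], [], [], [], [0], [], [1], [0], [0, 1], [2], [], [], [], [], [], [], [1], [], [], [], [], [2], [], [2], [], [], [], [1], [1], [], [], [], [], [], [], [], [], [2], [0, 1], [], [1], [1], [2], [], [0], [], [], [], [1, 2], [], [], [], [0], [], [], [], [1], [], [], [], [0], [], [], [2], [], [], [], [], [], [], [0, 2], [], [], [], [1, 2], [2]]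

/-- layer -/
def full1L7P2 : List (List ℕ) := [[], [0], [], [0], [1], [], [], [], [], [], [2], [1], [], [], [], [2], [], [1], [1], [], [], [], [], [], [], [], [], [], [0], [], [2], []]

/-- layer -/
def full1L8P0 : List (List ℕ) := [[], [], [], [], [], [], [], [], [], [], [], [], [], [], [1], [], [], [], [1], [], [], [], [], [], [], [], [1], [], [], [], [], [0], [], [], [], [], [], [0], [], [0], [], [], [], [2], [], [], [], [], [], [], [], [], [2], [], [], [], [], [1], [], [], [], [], [], [], [], [], [], [], [0], [], [], [], [], [], [], [], [], [], [], [0], [], [], [], [], [], [], [], [], [], [], [], [], [], [], [], [], [], [], [], [], [], [], [], [], [], [], [], [], [], [], [], [], [], [], [], [], [], [], [], [], [], [], [], [], [], [], [], []]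

/-- layer -/
def full1L8P1 : List (List ℕ) := [[], [], [], [], [], [], [], [], [], [], [], [], [], [], [], [], [], [], [], [], [], [], [], [], [], [], [], [], [], [], [], [], []]

/-- layers -/
def full1 : List (List (List ℕ)) := [full1L0P0, full1L1P0, full1L2P0, full1L3P0, full1L4P0, full1L5P0, full1L6P0 ++ full1L6P1, full1L7P0 ++ full1L7P1 ++ full1L7P2, full1L8P0 ++ full1L8P1]

/-- layer -/
def sub2L0P0 : List (List ℕ) := [[0, 1]]

/-- layer -/
def sub2L1P0 : List (List ℕ) := [[0, 1], []]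

/-- layer -/
def sub2L2P0 : List (List ℕ) := [[0, 1], [0, 1]]

/-- layer -/
def sub2L3P0 : List (List ℕ) := [[0], [0, 1], [0, 1], [0, 1]]

/-- layer -/
def sub2L4P0 : List (List ℕ) := [[0], [0], [0, 1], [], [], [0, 1], []]

/-- layer -/
def sub2L5P0 : List (List ℕ) := [[1], [1], [1], [], [1], []]

/-- layer -/
def sub2L6P0 : List (List ℕ) := [[0], [0], [0], []]

/-- layer -/
def sub2L7P0 : List (List ℕ) := [[], [], [0]]

/-- layers -/
def sub2 : List (List (List ℕ)) := [sub2L0P0, sub2L1P0, sub2L2P0, sub2L3P0, sub2L4P0, sub2L5P0, sub2L6P0, sub2L7P0]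

/-- layer -/
def full2L0P0 : List (List ℕ) := [[2]]

/-- layer -/
def full2L1P0 : List (List ℕ) := [[0, 1, 2]]

/-- layer -/
def full2L2P0 : List (List ℕ) := [[0, 1, 2], [2], [0, 1, 2]]

/-- layer -/
def full2L3P0 : List (List ℕ) := [[0, 1, 2], [0, 2], [0, 1, 2], [1, 2], [0, 1, 2], [0, 1, 2], [0, 1, 2]]

/-- layer -/
def full2L4P0 : List (List ℕ) := [[0, 2], [0, 1, 2], [0, 1, 2], [0, 1, 2], [1, 2], [0, 1, 2], [0, 1, 2], [0, 1, 2], [0, 1, 2], [0, 1, 2], [0, 1, 2], [0, 1, 2], [0, 1, 2], [0, 1, 2], [0, 1, 2], [1, 2], [0, 1, 2], [0, 1, 2], [0, 1]]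

/-- layer -/
def full2L5P0 : List (List ℕ) := [[0, 2], [0, 1, 2], [0, 2], [0, 1, 2], [0, 1, 2], [1, 2], [2], [0, 1], [2], [2], [0], [2], [0, 1, 2], [0, 1], [0, 1, 2], [0, 1, 2], [0, 1, 2], [0, 1, 2], [0, 1, 2], [0, 1, 2], [0, 1, 2], [0, 1, 2], [2], [2], [0, 1, 2], [0, 1, 2], [0, 1, 2], [0, 1, 2], [1, 2], [0, 1, 2], [1, 2], [0, 1, 2], [1, 2], [0, 2], [1, 2], [0, 1, 2], [0, 1, 2], [2], [0, 1, 2], [0, 1, 2], [0, 2], [0, 1, 2], [1, 2], [0, 1, 2], [0, 1, 2], [0, 1], [0, 1], [0, 1, 2], [1, 2], [0, 1, 2], [0, 2], [0, 2], [1, 2]]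

/-- layer -/
def full2L6P0 : List (List ℕ) := [[1], [2], [1, 2], [0, 1, 2], [0, 1, 2], [2], [0, 2], [2], [2], [0, 1, 2], [0, 1, 2], [0, 1, 2], [0, 2], [2], [1, 2], [0, 1, 2], [0, 1, 2], [0, 1, 2], [0, 1, 2], [1, 2], [2], [1], [0, 1, 2], [0, 1, 2], [0, 1, 2], [0, 1, 2], [0, 1, 2], [0, 1, 2], [0, 2], [2], [0, 1], [2], [0, 2], [1, 2], [0, 1, 2], [0], [0, 1, 2], [0, 2], [0, 1, 2], [0, 1], [0, 2], [0, 1, 2], [1, 2], [0, 1, 2], [0], [0, 1, 2], [0, 1, 2], [1], [0, 1, 2], [0], [0, 1], [1], [0, 1, 2], [0, 1, 2], [2], [0, 1, 2], [0, 1, 2], [0, 1, 2], [1, 2], [1], [0, 1, 2], [0, 2], [0, 1, 2], [0, 2], [1], [0, 2], [0], [0, 2], [0, 1], [0, 1, 2], [0, 2], [1], [0, 1, 2], [0], [0], [0, 2], [0, 1], [0], [0], [1, 2], [0, 1, 2], [0, 1], [1], [0], [0, 1, 2], [0, 1, 2], [0, 2], [0], [0, 1], [0, 1, 2], [0, 2], [0, 1, 2], [0, 1, 2], [1], [0, 1, 2], [0, 2], [], [1], [], [1, 2], [1], [0, 1], [0, 1, 2], [0, 2], [0, 1, 2], [0], [0, 1,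 2], [2], [2], [1, 2], [1, 2], [1], [0, 1, 2], [0, 1], [0, 1], [0, 2], [0], [2], [0], [2], [1], [0, 2], [0, 2], [2], [2]]

/-- layer -/
def full2L7P0 : List (List ℕ) := [[], [1, 2], [2], [0, 1, 2], [], [], [], [1], [0, 2], [0, 2], [1], [0, 1], [], [2], [2], [0], [2], [2], [2], [1], [0, 2], [0], [0, 2], [2], [1, 2], [], [2], [], [0, 2], [0, 1], [], [0, 1, 2], [0], [0], [0, 2], [2], [0, 2], [], [], [], [0, 1, 2], [], [1], [], [], [0, 1], [0], [1, 2], [0, 1], [0, 2], [0], [0, 1], [1, 2], [], [1], [0, 2], [0, 1, 2], [1], [2], [1, 2], [0, 2], [0, 1], [0], [0, 1], [], [], [0], [0, 2], [0, 1], [0, 1], [], [], [1], [0, 1], [2], [1, 2], [0, 2], [0], [0, 2], [1], [0, 2], [1], [0, 1], [1], [2], [0, 2], [0, 2], [2], [], [1], [2], [0, 1], [0, 2], [1], [1], [0, 2], [1], [2], [], [0, 2], [0], [1], [2], [1, 2], [], [0, 1], [2], [0, 1], [0, 1], [0], [1, 2], [], [], [2], [0], [0], [0, 1], [2], [1], [], [1], [1], [], [0], [], [], [0],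 []]

/-- layer -/
def full2L7P1 : List (List ℕ) := [[], [1], [0, 1], [0], [0, 1], [0], [0], [], [0, 1], [1, 2], [0, 2], [2], [], [0, 1], [1, 2], [], [0, 1], [], [2], [2], [2], [0], [2], [2], [], [], [0, 1], [], [], [1], [], [0, 2], [], [2], [], [2], [], [0, 2], [2], [], [1], [0], [0], [1], [], [0, 1], [], [], [], [], [], [], [], [1], [1, 2], [2], [2], [0, 2], [0], [], [0], [], [2], [2], [], [0, 1, 2], [0], [], [1], [0], [1], [0], [0, 2], [2], [1], [], [], [1], [1], [0, 1], [0], [0, 1, 2], [0], [], [], [1], [], [], [0, 1], [0, 1], [1], [0, 1], [1], [1], [1], [0], [], [], [0], [], [2], [], [], [], [0], [0, 1], [2], [0], [], [], [1], [], [0, 1], [], [], [], [], [], [], []]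

/-- layer -/
def full2L8P0 : List (List ℕ) := [[0, 2], [], [1], [2], [], [], [1], [], [], [], [], [], [], [1], [2], [0], [0, 1], [], [], [], [2], [0, 2], [0], [2], [], [2], [], [2], [0], [0], [], [], [], [], [1], [], [1], [], [1], [], [], [], [], [2], [], [], [1], [], [2], [2], [], [], [], [], [], [2], [], [], [], [2], [], [0], [], [], [1, 2], [], [], [], [], [], [], [0], [0], [], [], [0], [], [], [], [0, 1], [], [], [1], [], [], [0], [], [], [0], [], [2], [], [], [], [0, 1], [], [], [], [], [], [], [], [0], [], [], [], [], [], [], [], [1], [], [], [], [], [], [0, 1], [], [], [], [], [], [], [], [], [], [], [2]]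

/-- layer -/
def full2L8P1 : List (List ℕ) := [[], [], [], [], [], [], [1], [], [], [], [], [], [], [], [], [], [], [], [], [], [], [], [1], [], [0], [0], [], [], [], [], [], [], [], [], [], [], [], [], [], [], [1], [], [], [], [], [], [], [], [], [], [], [], [0], [], [], [], [], [], [0], [], [], [0], [], [], [], [], [], [], [], [], [], [], [], [], [], [], [], [], [], [], [], [], [], [], [], [], [], [], [], [], [], [], [], [], [], [], [], [], [], [], [], [], [], [], [], [], [], [], [], [], [], [], [], [], [], [], [], [], []]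

/-- layers -/
def full2 : List (List (List ℕ)) := [full2L0P0, full2L1P0, full2L2P0, full2L3P0, full2L4P0, full2L5P0, full2L6P0, full2L7P0 ++ full2L7P1, full2L8P0 ++ full2L8P1]

/-- generators of the stabiliser -/
def gens : List ℕ := [231998660765417599066628192938822890, 605290078037417501868057044897105280]

/-- suborbits -/
def certs : List SubCert := [{ y := 10558, r := 735291446127224679480306822857200897, sp := sub0, full := full0 }, { y := 31554, r := 933423313047763504173379802508928461, sp := sub1, full := full1 }, { y := 1009728, r := 892711585781217810750810169052338609, sp := sub2, full := full2 }]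

end Cfsg.Agent.M24.MaxOct
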