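import Cfsg.Agent.M24.Suborbit

/-!
Suborbit data (triad).
-/

set_option autoImplicit false

namespace Cfsg.Agent.M24.MaxTriad

/-- layer -/
def sub0L0P0 : List (List ℕ) := [[0, 1, 2, 3, 4]]

/-- layer -/
def sub0L1P0 : List (List ℕ) := [[0, 1, 2, 3, 4], [0, 1, 3, 4], [0, 1, 2, 3, 4], [2, 4], [0, 1, 2, 4]]

/-- layer -/
def sub0L2P0 : List (List ℕ) := [[3, 4], [0, 1, 2], [0, 1, 2, 3], [0, 1, 2, 3], [0, 1, 3], [0, 2, 3], [2], [0, 1, 3], [], [0, 3], [0, 1], [1], [2, 4], [], [2], [1], [], [], [0], []]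

/-- layer -/
def sub0L3P0 : List (List ℕ) := [[], [], [2, 3, 4], [], [], [], [], [4], [], [], [], [], [], [], [], [], [], [], [], [], [], [], [], [], [], [], [], [], [], [], [], [], []]

/-- layers -/
def sub0 : List (List (List ℕ)) := [sub0L0P0, sub0L1P0, sub0L2P0, sub0L3P0]

/-- layer -/
def full0L0P0 : List (List ℕ) := [[5]]

/-- layer -/
def full0L1P0 : List (List ℕ) := [[0, 1, 2, 3, 4, 5]]

/-- layer -/
def full0L2P0 : List (List ℕ) := [[0, 1, 2, 3, 4, 5], [0, 1, 3, 4], [0, 1, 2, 3, 4, 5], [2, 4, 5], [0, 1, 2, 4], [0, 1, 2, 3, 4, 5]]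

/-- layer -/
def full0L3P0 : List (List ℕ) := [[3, 4, 5], [0, 1, 2, 5], [0, 1, 2, 3, 5], [0, 1, 2, 3, 5], [0, 1, 5], [1, 5], [0, 3, 5], [2, 5], [0, 1, 3], [5], [0, 3], [0, 1, 5], [1, 5], [2, 4, 5], [], [0, 1, 2, 3, 4, 5], [2, 5], [1], [0, 1, 2, 3, 4, 5], [5], [5], [0, 5], [5], [0, 1, 2, 3, 4, 5], [0, 1, 2, 3, 4, 5], [0, 1, 2, 3, 4, 5], [0, 1, 2, 3, 4, 5], [0, 1, 2, 3, 4], [0, 1, 2, 3, 4]]

/-- layer -/
def full0L4P0 : List (List ℕ) := [[5], [5], [0, 1, 3, 4, 5], [4], [5], [], [0, 1, 2, 3, 5], [5], [5], [4], [], [0, 1, 2, 3, 5], [], [5], [5], [], [5], [], [], [0, 1, 2, 3, 4, 5], [], [0, 1, 3, 4, 5], [5], [5], [0, 1, 2, 3, 4, 5], [], [0, 1, 2, 3, 4, 5], [5], [5], [], [0, 1, 2, 3, 4, 5], [5], [], [5], [5], [5], [], [0, 1, 3, 4, 5], [5], [], [0, 1, 2, 3, 4, 5], [0, 1, 2, 4, 5], [0, 2, 3, 4, 5], [0, 1, 2, 3, 4, 5], [0, 1, 4, 5], [0, 1, 2, 3, 4], [0, 1, 2, 3, 4, 5], [5], [0, 2,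 3, 4, 5], [5], [0, 1, 2, 3, 4, 5], [0, 1, 2, 3, 4, 5], [0, 1, 2, 3, 4, 5], [0, 1, 4, 5], [1, 2, 3, 4, 5], [0, 1, 2, 3, 4, 5], [0, 2, 3, 5], [0, 1, 2, 3, 5], [], [0, 2, 3, 5], [0, 1, 2, 3, 5], [0, 2, 4, 5], [2, 3, 4, 5], [1, 3, 4, 5], [0, 2, 3, 4, 5], [0, 1, 2, 3, 4], [4, 5], [2, 3], [2], [0, 1, 4, 5], [0, 2, 3], [0, 2, 4], [0, 3, 4, 5], [0, 2, 3, 4], [2, 3, 4, 5], [1, 2, 3, 5], [1, 2, 4, 5], [1, 2, 3, 4, 5], [2, 4, 5], [0, 5], [0, 2, 3, 4], [0, 1, 2, 3, 5], [0, 1, 2, 4, 5], [0], [0, 1, 2, 3, 4, 5], [0, 2, 3, 4, 5], [2, 4, 5], [0, 1, 2, 3], [0, 2, 4, 5], [0, 1, 3, 5], [1, 2, 3, 4, 5], [0, 4, 5], [0, 1, 2, 4, 5], [0, 2, 4, 5], [0, 1, 4, 5]]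

/-- layer -/
def full0L5P0 : List (List ℕ) := [[2, 5], [1, 2, 4], [0, 4, 5], [0, 1, 2, 3, 5], [1], [0, 1, 2], [0, 1, 2, 4], [], [1, 3, 5], [0, 1, 5], [0, 1, 2, 5], [0, 5], [0, 2, 5], [1, 2, 3, 4, 5], [1, 3, 4, 5], [0, 1, 2, 3, 5], [], [1, 2, 3, 5], [0, 4], [2, 4, 5], [0, 4], [], [1, 3], [1], [0, 4, 5], [0, 2, 3, 4, 5], [0, 1, 2, 4, 5], [0, 1, 3], [4, 5], [0, 1, 2], [0, 1, 2, 3, 4, 5], [0, 2, 5], [0, 2, 3, 5], [3, 5], [2], [0, 1, 2, 3, 4, 5], [3, 4, 5], [0, 3, 5], [1, 2, 3, 4], [2, 3, 4, 5], [0, 2, 5], [2, 4], [0, 1, 5], [2, 4, 5], [0, 3], [0, 3, 5], [5], [1, 2, 5], [0, 1, 2], [0, 1, 3], [0, 2, 3], [0, 3, 5], [0, 2], [0, 1, 3], [3, 4], [0, 2, 4, 5], [4], [0, 1, 2, 3, 4], [2, 3, 5], [2, 4], [0, 1], [5], [2, 3, 4], [2, 3], [0, 4, 5], [3, 5], [0, 1, 2, 3, 4, 5], [0, 3, 5], [2, 5], [4], [], [4, 5], [0, 2], [0, 1, 2, 3, 4, 5], [0, 3, 4], [], [1, 2, 5], [3, 4], [5], [0], [0, 5],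 [2, 5], [0], [3, 4], [1, 3], [4], [4, 5], [0, 2], [0, 5], [5], [2], [2, 5], [3], [0, 1, 2, 3, 4], [1, 2, 5], [2, 5], [2], [3, 4], [3, 5], [0, 1, 2, 3, 4, 5], [0, 1, 2, 3, 4, 5], [0, 1, 2, 3, 4, 5], [0, 1, 2, 3, 4, 5], [0, 1, 2, 3, 5], [0, 3], [5], [4], [0, 1], [5], [1, 2, 4], [0, 1, 2, 3, 4], [0, 3], [3], [2, 3], [1, 3, 4, 5], [], [0, 3], [1, 5], [0, 4], [5], [0, 5], [1, 4], [0], [5], [], [4], [3, 4, 5], []]

/-- layer -/
def full0L5P1 : List (List ℕ) := [[4], [4, 5], [3], [2], [], [0, 1, 2, 3, 4, 5], [4, 5], [0, 1, 5], [2], [0], [5], [0, 1, 2, 3, 4, 5], [0, 1, 2, 3, 4, 5], [0, 1, 2, 4, 5], [1, 2, 3, 4], [1, 2, 3, 4, 5], [], [], [4, 5], [5], [], [], [], [5], [0], [4], [2], [5], [], [2, 4], [4], [], [], [5], [0, 1, 2, 3, 4], [3, 5], [5], [5], [0], [], [3], [2, 5], [2, 3], [0, 2], [3, 5], [], [0, 1, 2, 4, 5], [], [0, 5], [1, 2], [2, 4], [4, 5], [1], [0, 4], [5], [1, 3], [3],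 [], [0, 1, 2, 3, 4, 5], [0], [], [], [0], [], [], [0, 1, 2, 3, 4, 5], [5], [5], [], [], [2], [1], [], [4, 5], [], [0, 1, 2, 3, 4, 5], [5], [], [2], [5], [], [], [0, 5], [], [1], [], [5], [0, 1, 2, 3, 5], [0], [1, 3, 5], [], [5], [], [4, 5], [0, 5], [], [5], [], [], [0, 1, 3, 5], [], [5], [], [5], [], [], [2], [], [5], [], [4, 5], [], [], [], [], [], [5], [0, 1, 2, 5], [0, 1, 2, 3, 4, 5], [0, 1, 2, 3, 4, 5], [0, 1, 2, 3, 5], [0, 1, 2, 3, 5], [0, 1, 2, 3, 4], [], [], [5], [2], [0, 1, 2, 3, 4, 5]]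

/-- layer -/
def full0L5P2 : List (List ℕ) := [[1], [], [0, 1, 2, 4, 5], [3], [5], [], [0, 5], [5], [], [5], [], [], [0], [5], [0, 1, 3, 4, 5], [0], [], [5], [], [0, 1, 2, 3, 4, 5], [], [], [0, 1, 3, 4, 5], [0, 5], [5], [], [5], [], [5], [1], [1], [], [], [], [], [1, 2, 3, 4, 5]]

/-- layer -/
def full0L6P0 : List (List ℕ) := [[4], [], [], [5], [4], [5], [4, 5], [], [5], [5], [], [], [], [], [], [], [5], [], [], [], [], [0], [], [0, 1, 3, 4], [5], [5], [], [5], [5], [], [], [], [2, 4, 5], [], [], [5], [4], [], [5], [], [], [], [5], [2], [0, 1, 2, 3, 4], [], [], [], [5], [0, 1, 2, 3, 4], [5], [], [], [], [5], [5], [], [], [0, 1, 3, 4, 5], [], [1], [], [], [], [3], [], [1, 2, 3, 4], [], [5], [], [], [5], [], [], [5], [], [5], [], [], [], [], [0, 1, 2, 3, 4, 5], [], [5], [], [0, 1, 2, 3, 4, 5], [0, 1, 3, 4, 5], [0, 1, 2, 3], [0, 1, 3, 5], [0, 1, 2, 4, 5], [3], [3], [], [5],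 [], [], [], [5], [5], [0, 2, 3, 4, 5], [], [0, 1, 2, 3, 4, 5], [0, 1, 2, 3, 4, 5], [2, 4, 5], [1, 3, 4, 5], [1, 2, 3, 4, 5], [], [5], [], [0, 3, 4], [], [], [], [5], [], [], [5], [], [], [5], [0], [], [], [0, 2, 5], [5], [], [], []]

/-- layer -/
def full0L6P1 : List (List ℕ) := [[], [], [], [], [5], [], [], [], [], [0, 1, 2, 5], [], [5], [5], [], [], [5], [], [], [5], [], [5], [], [], [], [], [], [5], [], [], [], [], [], [], [], [], [0, 1, 2, 3, 4, 5], [5], [0, 1, 2, 3, 4, 5], [2, 4, 5], [0, 2, 3, 5], [1, 4, 5], [0, 1, 3, 4, 5], [5], [], [], [5], [], [], [], [0, 1, 3], [5], [], [], [5], [], [], [], [0, 2, 3, 5], [], [], [0, 1, 2, 3, 4], [0, 1, 2, 3, 5], [0, 1, 2, 4], [0, 1, 3, 5], [0, 1, 2, 3, 5], [], [], [5], [0, 1, 3], [], [5], [], [], [0, 1, 2, 3, 4, 5], [5], [], [1, 2, 3, 4, 5], [0, 1, 4, 5], [0, 1, 2, 4, 5], [0, 1, 3, 4, 5], [0, 1, 2, 3, 4, 5], [], [5], [], [5], [],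 [], [0, 1, 2, 5], [], [], [0, 1, 4, 5], [5], [], [0, 2], [5], [], [], [5], [], [], [], [5], [], [1, 2, 3, 5], [], [5], [], [5], [0, 1, 3], [], [5], [5], [], [0, 1, 3, 4, 5], [0, 1, 3, 4, 5], [1, 2, 4, 5], [0, 2, 5], [0, 2, 3, 4, 5], [], [], [1, 2, 3, 4], [], [0, 1, 2, 4, 5], [], [], [5], [5], [1, 2, 3, 4, 5]]

/-- layer -/
def full0L6P2 : List (List ℕ) := [[0, 3, 4, 5], [0, 3], [0, 1, 4], [0, 1, 2, 3], [0, 3, 4], [1, 3, 5], [0, 2, 3], [0, 1, 3], [1, 3, 4, 5], [0, 2, 3, 4], [0, 2, 3, 4], [0, 1, 4, 5], [0, 1, 3], [2, 5], [1], [2, 4, 5], [0, 1, 2, 5], [2, 3, 4, 5], [0, 4, 5], [0, 1, 2, 4], [1, 3, 4, 5], [0, 2, 3], [0, 1, 2, 4], [1, 5], [0, 2, 3, 4], [2, 4, 5], [1, 3, 5], [2, 4], [5], [5], [], [0, 2, 3], [], [], [], [1, 3, 5], [5], [], [5], [0, 1, 3, 5], [0, 1, 2], [0, 1, 2, 3, 4], [0, 2, 3, 4], [0, 2, 3, 4, 5], [], [], [], [], [], [], [], [], [1, 2, 4], [], [], [], [0, 1, 4,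 5], [5], [5], [], [], [0, 1], [], [], [], [0, 1, 3, 4], [5], [5], [], [0, 1, 2, 3, 5], [], [], [0, 1, 2, 4, 5], [], [5], [0, 1, 3, 4, 5], [0, 1, 3, 4], [0, 2, 3, 5], [0, 2, 4], [0, 1, 5], [0, 1, 3, 4], [], [0, 5], [], [], [], [], [], [], [0, 1, 3, 5], [0, 3, 5], [0, 3, 4], [2, 3, 4, 5], [3, 4], [2, 3, 4, 5], [4], [3, 4], [0, 1, 3, 4, 5], [0, 3], [0, 2, 3], [4, 5], [0, 4, 5], [4, 5], [1, 2], [1, 3, 5], [0, 2, 5], [0, 4, 5], [1], [0, 2, 4], [0, 2], [], [0, 1, 3], [2], [0, 1, 4], [2, 4, 5], [], [1, 5], [5], [4], [], [], [], [1, 3, 4, 5], [], [], [], [0, 1, 4, 5], [1, 2, 3]]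

/-- layer -/
def full0L6P3 : List (List ℕ) := [[0, 1, 3], [1, 2, 5], [0, 1], [1], [5], [0, 3], [], [0, 2, 3], [], [], [], [0, 1, 2, 3], [5], [], [], [], [], [0, 3, 4], [0, 1, 3], [0, 3, 5], [0, 1, 2, 5], [2], [0, 1, 2], [], [1], [], [], [5], [], [], [], [5], [5], [], [0, 1, 5], [], [], [], [], [0, 3, 4], [0, 3], [0, 1, 3], [2, 3], [0, 3], [], [], [3, 4, 5], [0, 1, 4], [2, 3, 4], [2, 4], [4, 5], [0, 2, 4], [], [2], [], [], [], [0, 1, 3, 4], [2], [0], [4], [4, 5], [2, 4, 5], [4], [3, 5], [], [3], [], [3], [], [5], [2, 4], [0, 5], [], [3], [0, 2], [5], [], [5], [0, 3], [0, 1, 5], [], [0, 4], [], [], [1], [2, 4, 5], [], [], [], [2, 4, 5], [1, 5], [], [5], [], [0, 1, 3], [0, 4, 5], [2, 5], [3], [1], [0, 2, 3, 5], [0, 4], [0, 1, 3, 4], [0, 3], [3], [4], [0, 2, 4], [1, 3, 4], [4, 5], [0], [0, 4], [1, 5], [0, 2], [1], [4, 5], [2, 4, 5], [4], [0, 5], [2, 4], [], [0, 1, 5], [], [0],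 [2, 3], [1, 5], [2], [1, 4], [1, 2, 4, 5]]

/-- layer -/
def full0L6P4 : List (List ℕ) := [[], [], [], [0, 5], [0, 3, 4], [0, 4], [2], [2], [], [0, 5], [1, 2], [], [0, 2], [0, 1, 2], [], [1, 2, 3, 5], [], [], [0, 2, 4], [5], [], [2, 3, 5], [], [0, 1, 2, 5], [4, 5], [1, 2, 3], [1], [], [0, 1, 2], [4], [1, 5], [0, 1, 3], [0], [2, 3, 4], [], [2, 3], [0, 2], [0, 1, 5], [5], [0, 3], [], [3], [0, 2, 3], [1], [1, 3], [5], [], [2], [1, 5], [5], [0, 3], [0, 3]]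

/-- layer -/
def full0L7P0 : List (List ℕ) := [[], [], [], [], [], [], [0, 5], [1, 3], [3, 5], [], [], [5], [4], [3], [2, 5], [4], [3, 5], [0, 3], [4], [], [], [5], [], [0, 1], [1], [], [2], [3], [1], [2, 5], [0, 4], [5], [], [1], [], [3], [1, 4], [3], [0], [], [5], [0], [0, 1], [], [0], [], [], [3], [0, 2], [], [], [4], [1], [3], [], [5], [1], [2], [], [5], [0, 2, 4], [1, 3], [0, 5], [2], [3], [0], [], [2], [2], [], [3], [], [], [], [], [5], [2], [], [0, 1, 4], [], [1], [], [5], [], [0, 3, 5], [], [], [], [], [2], [4], [], [0, 3], [0, 1, 4, 5], [0], [0, 2], [4, 5], [], [4], [0, 2], [1], [], [4], [], [], [], [0, 1], [], [], [4], [], [1, 3], [0, 1], [], [4], [4], [3], [2], [5], [], [], [3, 5], [0], [0, 1], [1, 5], [5], [3], []]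

/-- layer -/
def full0L7P1 : List (List ℕ) := [[2], [0], [], [], [0], [], [2], [2], [2], [], [0], [], [], [], [0], [], [3], [2], [5], [], [], [0], [4], [], [1], [], [], [2, 5], [5], [], [], [0, 3], [], [], [], [0], [1], [1, 3, 4], [], [], [2], [5], [], [], [], [5], [], [], [5], [], [1], [0, 1], [], [2], [], [], [], [], [], [], [], [1], [], [], [], [5], [], [1], [], [], [], [], [3], [2, 4], [], [], [], [], [], [5], [], [], [], [], [], [], [], [], [], [], [], [], [0], [], [], [], [0], [4], [3], [], [1, 3], [], [], [2], [], [2, 4], [], [], [3], [2], [3], [], [], [4], [5], [], [3], [], [], [], [], [], [], [], [0], [], [], []]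

/-- layer -/
def full0L7P2 : List (List ℕ) := [[], [5], [], [], [], [], [], [0], [], [], [], [], [0, 3], [], [], [], [], [], [], [], [2], [], [1], [4], [], [], [4], [], [], [3], [], [], [], [0], [5], [], [1, 2], [1], [], [], [], [4], [], [], [], [], [], [], [0], [], [], [], [], [], [], [], [], [3], [3], [2], [], [], [], [], [], [], [1, 4], [], [], [4], [], [], [], [], [], [], [], [], [], [], [], [0], [], [0], [], [], [], [], [3], [], [], [], [], [], [], [], [], [3], [], [], [], [], [], [], [], [], [], [], [], [], [], [1, 2], [], [], [3], [], [], [], [], [], [1], [], [], [], [], [], [], []]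

/-- layer -/
def full0L7P3 : List (List ℕ) := [[], [0], [], [], [4], [], [], [], [], [], [], [], [], [], [], [], [], [], [], [], [], [], [], [], [], [], [], [], [], [], [], [], [], [], [1], [], [5], [], [], [], [2], [], [], [], [], [], [], [], [], [], [], [], [], [], [1], [], [], [], [], [], [], [], [], [], [], [], [], [], [], [], [], [], [], [], [], [], [], [0], [], [], [], [], [], [], [], [], [], [], [], [], [], [], [], [], [4], [], [], [], [], [], [], [], [2], [], [], [], [2], [], [], [], [], [], [], [], [], [], [], [], [], [1], [], [], [], [], [], [], [], []]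

/-- layer -/
def full0L7P4 : List (List ℕ) := [[], [], [], [], [], [], [], [], [], [], [], [], [], [], [], [], [], [], [], [], [], [], [], [], [0], [], [], [], [], [], [], [], [], [], [], [], [], [], [], [], [], [], [], [], [], [], [], [], [], [], [], [], [], [], [], [], [], [], [], [], [], [], [], [], [], [], [], [], [], [], [], [], [], [], [1], [], [], [], [], [], [], [], [], [], [], [], [], [], [], [], [], [], [], [], [], [], [], [], [], [], [], [], [], [], [], [], [], [], [], [], [], [], [], [], [], [], [], [3], [], [], [], [], [], [], [], [], [], []]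

/-- layer -/
def full0L7P5 : List (List ℕ) := [[], [], [], [1], [], [], [], [], [], [], [], [], [], [], [], [], [], [], [], [], [], [], [], [], [], [5], [], [], [], [], [], [], [], [], [], [], [], [], [], [], [], [], [], [], [], [], [], [], [], [], [], [], [], [], [], [], [], [], [], [], [], [], [], [], [], [], [], [], [], [], [], [], [], [], [], [], [], [], [], [], [], [], [], [], [], [], [], [], [], [], [], [], [], [], [], [], [], [], [], [], [], [], [], [], [], [], [], [], [], [], [], [], [], [], [], [], [], [], [], [], [], [], [], [], [], [], [], []]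

/-- layer -/
def full0L7P6 : List (List ℕ) := [[], [], [], [], [], [], [], [], [], [], [], [], [], [], [], [], [], [], [], [], [], [], [], [], [], [], [], [], [], [], [], [], [], [], [], [], [], [], [], [], [], [], [], [], [], [], [], [], [], [], [], [], [], [], []]

/-- layers -/
def full0 : List (List (List ℕ)) := [full0L0P0, full0L1P0, full0L2P0, full0L3P0, full0L4P0, full0L5P0 ++ full0L5P1 ++ full0L5P2, full0L6P0 ++ full0L6P1 ++ full0L6P2 ++ full0L6P3 ++ full0L6P4, full0L7P0 ++ full0L7P1 ++ full0L7P2 ++ full0L7P3 ++ full0L7P4 ++ full0L7P5 ++ full0L7P6]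

/-- layer -/
def sub1L0P0 : List (List ℕ) := [[0, 1, 2, 3, 4]]

/-- layer -/
def sub1L1P0 : List (List ℕ) := [[0, 1, 2, 3, 4], [0, 1, 2, 4], [0, 1, 2, 3, 4], [0, 2, 3, 4], [0, 1, 2, 3, 4]]

/-- layer -/
def sub1L2P0 : List (List ℕ) := [[0, 1, 2, 3, 4], [0, 1, 2, 3, 4], [1, 2, 3, 4], [0, 1, 2, 3, 4], [0, 1, 2, 3, 4], [0, 1, 2, 3], [0, 2, 3], [0, 1, 2, 3], [0, 1, 2, 3, 4], [0, 1, 2, 3, 4], [0, 2, 3, 4], [0, 1, 3], [0, 2, 3, 4], [0, 1, 3, 4], [0, 1, 2, 3, 4], [0, 1, 2, 3, 4], [0, 2, 3, 4], [0, 1, 2, 3, 4], [0, 1, 2, 3, 4], [0, 1, 2, 3, 4], [0, 1, 3], [0, 2, 3, 4], [0, 3]]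

/-- layer -/
def sub1L3P0 : List (List ℕ) := [[0, 1, 2, 3, 4], [0, 1, 2, 3, 4], [0, 1, 3, 4], [0, 1, 2, 4], [0, 1, 2, 4], [0, 2, 3, 4], [0, 2, 3], [1, 2], [0, 2, 4], [0, 2, 3, 4], [0, 1, 2, 3, 4], [1, 2, 3, 4], [0, 2, 3, 4], [0, 2], [0, 1, 2, 3], [0, 2, 4], [0, 1, 2, 4], [0, 2, 4], [0, 1, 2, 3, 4], [2, 3, 4], [0, 1, 2], [0, 1, 2, 3, 4], [0, 2, 3, 4], [0, 2, 3, 4], [0, 1, 2], [3, 4], [0, 1, 3, 4], [2], [0, 1, 2, 3, 4], [0, 1, 4], [0, 2, 4], [0, 1, 2, 3], [0, 1, 2, 3, 4], [0, 1, 3, 4], [0, 1, 3, 4], [0, 1, 2], [0, 2, 3], [0, 1, 2, 3, 4], [1, 2], [0, 1, 2, 3, 4], [0, 1, 2, 3, 4], [0, 4], [1, 2, 3], [0, 1, 4], [1, 2, 3], [1, 2, 4], [0, 1, 2], [0, 2], [0, 1, 3], [0, 2, 3, 4], [0, 2, 3, 4], [2, 3, 4], [0, 1, 2, 4], [4], [0], [0, 1, 2], [1, 3, 4], [0, 2, 3], [], [1, 3], [], [0, 1], [], [1], [4], [0, 4], [0, 2, 4], [0, 2, 4], [4], [2, 3], [1], [0, 4], [0, 2], [0, 4], [0], [0, 3],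 [0, 1, 2], [], [0, 2, 3], [0, 1], [2], [1, 2], [0, 2, 4], [0, 1, 3], [2, 3], [], [3], [0], [0, 1, 3], [3, 4], [2, 3], [0], [2, 3], [0, 2, 3], [0], [0, 1], [0, 3, 4], [2, 4]]

/-- layer -/
def sub1L4P0 : List (List ℕ) := [[], [2, 3, 4], [0, 4], [2, 3], [0, 3, 4], [0, 2, 3, 4], [1, 3, 4], [0, 4], [0, 1, 3, 4], [], [0, 1, 2], [1, 2, 4], [0, 2], [2, 3, 4], [1, 2, 3, 4], [0, 3], [1], [1, 4], [0, 1, 2], [1], [], [1, 3, 4], [3], [1, 4], [1], [2, 4], [0, 1, 3], [3], [2], [0, 2], [0, 3, 4], [], [3], [1], [0, 1, 3], [1], [0, 1, 4], [], [2, 3], [2, 4], [2], [0, 3], [2], [0], [1], [0], [1, 2], [1, 2], [1], [1], [1, 2], [3], [2, 3, 4], [2, 4], [0, 4], [0, 1], [1], [0, 1, 2], [], [3, 4], [2, 4], [1], [4], [3, 4], [2], [], [], [1, 4], [3], [1], [1], [1, 3], [], [], [], [1, 3, 4], [2, 3], [2], [], [0], [], [3], [], [4], [2], [0, 1], [1], [1], [2], [0, 2, 3, 4], [2, 3], [0, 2], [0, 1], [],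 [], [1, 2], [], [1], [], [3, 4], [1, 2], [0], [], [1], [0, 3], [3], [], [], [1], [0, 1], [], [0], [0], [2], [], [4], [], [], [], [], [4], [0, 3], [3], [0, 4], [], [2], [], [0, 1, 3]]

/-- layer -/
def sub1L4P1 : List (List ℕ) := [[], [2], [0], [], [], [], [3], [0], [], [], [], [], [1, 4], [], [], [], [], [0], [2], [], [4], [2], [], [], [0, 1, 2], [2], [4], [3], [], [3], [], [], [], [3], [], [1], [1], [], [], [], [], [1], [3], [], [], [], [], [2, 3], [], [], [], [3], [0], [0, 4], [], [], [], [], [3], [4], [0], [], [1, 3], [], [0, 4], [], [], [3], [], [1, 3], [], [], [2], [0], [], [], [], [], [], [1], [], [0], [], [], [], [1], [], [], [], [], [], [], [], [], [], [1], [2], [], [], [], [], [0], [], [4], [], [], [], [], [], [], [1], [], [], [], [], [], [4], [3], [4], [], [], [], [], [], [], [], [], []]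

/-- layer -/
def sub1L4P2 : List (List ℕ) := [[], [], [], [], [0], [], [], [], [], [], [], [], []]

/-- layer -/
def sub1L5P0 : List (List ℕ) := [[], [], [], [], [], [], [], [], [], [], [], [], [], [], [], [], [], [], [], [], [], [], [], [], [], [], [], [], [], [], [], [], [], [], [], [], [], [], [], [], [], [], [], [], [], [], [4], [], [], [], [], [], [], [], [], [], [], [1], [], [], [], [], [], [], [], [], [0], [], [], [], [], [], [], [], [], [], [], [], [], [], [], [], [], [], [], [], [], [], [], [], [], [], [], [], [], [], [], [], [], [], [], [], [], [], [], [], [], [], [], [0], [], [], [], [], [], [], [], [], [], [], [], [], [], [], [], [], [], []]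

/-- layer -/
def sub1L5P1 : List (List ℕ) := [[], [], [], [], [], [], [], [], [], [], [], [], [], [], [], [], [], [], [], [], [], [], [], [], [], [], [], [], [], [], [], [], [], [], [], [], [], [], [], [], [], [], [], [], [], [], [], [], [], [], [], [], [], [], [], [], [], [], [], [], [], [], [], [], [], [], [], [], [], [], [], [], [], [], [], [], [], [], [], [], [], [], [], [], [], [], [], [], [], [], [], [], [], [], [], [], [], [], [], [], [], []]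

/-- layers -/
def sub1 : List (List (List ℕ)) := [sub1L0P0, sub1L1P0, sub1L2P0, sub1L3P0, sub1L4P0 ++ sub1L4P1 ++ sub1L4P2, sub1L5P0 ++ sub1L5P1]

/-- layer -/
def full1L0P0 : List (List ℕ) := [[5]]

/-- layer -/
def full1L1P0 : List (List ℕ) := [[0, 1, 2, 3, 4, 5]]

/-- layer -/
def full1L2P0 : List (List ℕ) := [[0, 1, 2, 3, 4, 5], [0, 1, 2, 4], [0, 1, 2, 3, 4, 5], [0, 2, 3, 4, 5], [0, 1, 2, 3, 4, 5], [0, 1, 2, 3, 4, 5]]

/-- layer -/
def full1L3P0 : List (List ℕ) := [[0, 1, 2, 3, 4, 5], [0, 1, 2, 3, 4, 5], [1, 2, 3, 4, 5], [0, 1, 2, 3, 4, 5], [0, 1, 2, 3, 4, 5], [0, 1, 3, 4, 5], [0, 1, 2, 3], [0, 2, 3], [0, 1, 2, 3, 5], [0, 1, 2, 3, 4, 5], [0, 1, 2, 3, 4, 5], [0, 2, 3, 4], [0, 1, 3, 5], [0, 2, 3, 4, 5], [0, 1, 3, 4, 5], [0, 1, 2, 3, 4, 5], [0, 1, 2, 3, 4, 5], [0, 1, 2, 3, 4, 5], [0, 2, 3, 4, 5], [0, 1, 2, 3, 4], [0, 1, 2, 3, 4], [0, 1, 2, 3, 4, 5], [0, 1, 2, 3, 4], [0,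 1, 3, 5], [0, 2, 3, 4, 5], [0, 3, 5], [1, 2, 3, 4, 5], [0, 1, 2, 3, 4, 5], [0, 1, 2, 3, 4, 5], [0, 1, 2, 3, 4, 5], [0, 1, 2, 3, 4, 5], [0, 1, 2, 4, 5], [0, 1, 2, 4, 5]]

/-- layer -/
def full1L4P0 : List (List ℕ) := [[0, 1, 2, 3, 4, 5], [0, 1, 2, 3, 4, 5], [0, 1, 3, 4, 5], [0, 1, 2, 4, 5], [0, 1, 2, 4, 5], [0, 1, 2, 3], [0, 2, 3, 4, 5], [0, 2, 3, 5], [1, 2, 5], [0, 2, 4, 5], [0, 2, 3, 4, 5], [0, 1, 2, 3, 4, 5], [0, 1, 2, 3, 4, 5], [1, 2, 3, 4, 5], [0, 2, 3, 4, 5], [0, 2], [0, 1, 2, 3, 4, 5], [0, 1, 2, 3, 5], [0, 2, 4], [0, 1, 2, 4, 5], [0, 2, 4, 5], [0, 1, 2, 3, 4, 5], [0, 1, 2, 3, 5], [2, 3, 4], [0, 1, 2, 5], [0, 1, 2, 3, 4, 5], [0, 2, 3, 4, 5], [2, 3, 4, 5], [0, 1, 3, 4, 5], [0, 1, 4, 5], [0, 1, 2, 3, 4, 5], [1, 2, 3, 4, 5], [0, 1, 3, 4], [0, 1, 2, 3, 4, 5], [0, 1, 2, 5], [3, 4, 5], [0, 1, 3, 4, 5], [2, 5], [0, 1, 2, 3, 4, 5], [1, 4, 5], [0, 2, 4, 5], [0, 1, 2, 3, 5], [0,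 2, 3, 4, 5], [0, 1, 3, 4, 5], [0, 1, 3, 4, 5], [0, 1, 2, 3], [0, 1, 2, 5], [2, 3, 5], [0, 2, 3, 4, 5], [1, 2, 5], [0, 1, 2, 3, 4, 5], [0, 1, 2, 3, 4], [0, 1, 2, 3, 4, 5], [0, 4, 5], [1, 2, 3, 5], [0, 1, 5], [1, 2, 3, 5], [0, 5], [1, 2, 4, 5], [0, 1, 2, 5], [2], [0, 1, 3, 5], [0, 3, 5], [0, 2, 3, 4], [2, 4], [0, 2, 3, 4], [0, 1, 2, 4], [4, 5], [0, 5], [0, 1, 5], [0, 1, 2, 3, 4], [1, 3, 4, 5], [2, 3, 5], [], [1, 3, 5], [0, 1, 2, 3, 5], [0, 1, 2, 4, 5], [0, 1, 2, 4, 5], [0, 1, 2, 5], [0, 1, 2, 3, 4, 5], [0, 1, 2, 3, 5], [0, 1, 2, 3, 4, 5], [5], [1], [5], [1, 5], [4, 5], [0, 1, 2, 4], [0, 4], [0, 2, 4], [0, 2, 4, 5], [4, 5], [2, 3, 5], [0, 1, 2, 4, 5], [1], [0, 4], [0, 2], [4, 5], [0, 2, 3, 4, 5], [0, 5], [0, 3, 5], [1], [], [0, 2, 3, 5], [0, 1, 2, 3, 4, 5], [0, 1, 2, 4, 5], [0, 1], [0, 2, 4], [0, 1, 3, 5], [0, 1, 5], [2, 5], [1, 5], [2, 4, 5], [0, 3, 5], [0, 1, 2, 3, 4, 5], [2,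 3], [5], [3], [5], [0, 3], [3, 5], [2], [5], [0, 1, 2, 3, 4, 5], [2, 3, 5], [2, 3], [], [0, 1, 5]]

/-- layer -/
def full1L4P1 : List (List ℕ) := [[0, 3, 4], [0, 3, 4], [2, 4], [0, 2, 3, 4, 5], [2, 3, 4, 5], [0, 3], [5], [1, 3], [0, 2, 3, 4, 5], [0, 1, 2, 4], [0, 1, 3, 5], [1, 2, 3, 4, 5], [0, 2, 3, 5], [0, 1, 4, 5], [0, 1, 2, 3, 4, 5], [1, 2, 3, 4], [2, 3, 4, 5], [0, 2, 3, 4], [1, 2, 4], [0, 1, 2, 3, 4], [1, 2], [0, 3, 4, 5], [1, 4, 5], [0, 1, 2, 3, 4], [0, 3, 4, 5], [0, 1, 2, 3, 4, 5], [0, 1, 2, 3, 5], [0, 1, 2, 3], [1, 2, 3, 4, 5], [0, 2, 3, 4], [0, 1, 2, 3, 4], [0, 1, 2, 3, 4, 5], [0, 1, 2, 3, 4, 5], [0, 1, 2, 3, 4], [0, 3], [0, 1, 2, 3, 4, 5], [0, 1, 4, 5], [0, 1, 2, 3, 5], [5], [], [3], [2, 3, 5], [0, 1, 2, 4]]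

/-- layer -/
def full1L5P0 : List (List ℕ) := [[5], [2, 3, 4], [0, 4], [3, 5], [0, 3, 4, 5], [0, 1, 2, 3, 4, 5], [0, 2, 3, 4], [1, 3, 4, 5], [0, 4], [0, 1, 4, 5], [5], [0, 1, 2, 3, 4, 5], [0, 1, 5], [1, 2, 4, 5], [0, 2], [2, 3, 4, 5], [1, 4, 5], [2, 4, 5], [0], [1], [1, 4, 5], [0, 1, 2, 5], [1, 5], [1], [5], [3, 4], [0, 1, 2, 3, 4], [0, 1, 3, 4, 5], [0, 1, 5], [0, 1, 2, 3, 5], [0, 2, 3, 5], [3, 5], [1], [1, 5], [2], [0, 1, 2, 3, 5], [0, 3], [3, 5], [2, 5], [0, 1, 2, 5], [2, 5], [3, 4, 5], [1, 5], [5], [], [1, 5], [], [], [1, 5], [1, 4, 5], [], [1, 2, 3, 4, 5], [5], [3, 5], [1, 2, 4, 5], [2, 3, 4, 5], [1], [1, 3, 5], [2], [4], [5], [3, 5], [2], [0, 2, 3, 4], [0], [5], [0], [], [0, 5], [1, 2], [1, 5], [5], [1, 2], [0, 1, 4], [3, 5], [2, 3], [0, 5], [0, 1, 3, 5], [3, 4], [0, 1, 2, 3, 4], [0, 1, 2, 3], [0, 1, 2, 3], [4, 5], [0, 4, 5], [], [1], [1, 2, 5], [0, 1, 2], [5], [4, 5],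 [2, 4], [5], [4], [3, 4], [0, 1, 2, 3, 4, 5], [], [5], [], [0, 1, 2, 3, 5], [1, 4], [3], [5], [1], [5], [0, 1, 2, 3, 4, 5], [1, 2, 4, 5], [0, 1, 2, 4, 5], [0, 1, 2, 4, 5], [0, 1, 2, 3, 4], [2, 3, 4, 5], [], [5], [], [1, 3], [2, 3, 5], [2], [4, 5], [5], [0], [], [3], [], [3, 4, 5], [], [5], [0, 1, 5], [1, 5], [0, 4, 5]]

/-- layer -/
def full1L5P1 : List (List ℕ) := [[], [2, 3, 4], [2, 5], [2, 3], [3, 5], [2, 5], [3], [5], [0, 5], [1, 3, 4, 5], [0, 1, 2, 5], [0, 1, 2], [0, 1, 3, 5], [0, 3], [1, 2, 5], [0, 1, 2, 3, 4], [0], [0, 1, 2, 3, 4, 5], [0, 2, 3], [1, 3, 5], [0, 2, 4, 5], [0, 1, 3, 4, 5], [0, 1, 2, 3, 4], [0, 1, 3, 4, 5], [2, 4, 5], [0, 3, 4, 5], [2, 4, 5], [0, 1, 3, 5], [0, 3, 4, 5], [0, 2, 4], [0, 2, 3, 4, 5], [2, 3], [1, 2, 3], [0, 1, 4, 5], [0, 5], [1, 5], [5], [0, 1, 4, 5], [5], [1], [0, 2], [5], [], [], [4, 5], [5], [1], [2, 5], [], [], [1, 5], [], [3, 5], [4, 5],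 [], [1, 5], [], [0, 5], [], [0, 5], [0, 4], [0], [], [5], [], [0, 1, 3, 5], [], [5], [], [4], [0, 1, 2, 3, 4, 5], [0, 3, 5], [3], [0, 5], [5], [1, 2, 3, 5], [], [], [0, 1, 5], [], [0, 1, 2, 4, 5], [5], [], [], [], [2], [0, 5], [], [], [], [], [], [0], [5], [], [], [1, 5], [], [5], [0, 1, 3], [], [], [], [0, 5], [5], [0, 1], [3, 4], [0, 2], [0, 1, 2, 4, 5], [0, 1, 2, 3, 4], [0, 1, 2, 3, 4], [], [5], [2], [5], [5], [1, 3, 4], [0, 1, 2], [], [0, 2, 4, 5], [4, 5], [3], [], [], [], [5], [4, 5], [5]]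

/-- layer -/
def full1L5P2 : List (List ℕ) := [[5], [], [], [5], [0, 1, 2, 3, 5], [], [1], [], [0, 2, 3, 4], [5], [], [], [0, 1, 3], [5], [5], [], [5], [0, 2, 5], [], [], [1, 3, 4, 5], [], [3], [], [0, 4], [], [], [], [5], [5], [], [5], [3, 5], [], [0, 5], [5], [0, 2, 4, 5], [1, 3], [0, 1], [], [], [0], [1, 2, 3, 4], [0, 2, 4], [0, 1, 2, 5], [0, 2, 5], [0, 1, 2], [], [3], [], [0, 4, 5], [], [], [], [5], [0], [5], [0, 1, 3, 5], [1, 3, 4, 5], [0, 5], [0, 1, 3, 4, 5], [4], [0, 2, 3, 5], [0, 2, 3, 4, 5], [1, 4, 5], [0, 4], [0, 2, 3], [0, 1, 2, 5], [3, 5], [0, 1, 2, 3], [1, 5], [3, 4], [3, 4, 5], [0, 1, 3, 5], [3], [], [2, 3], [2, 3, 4, 5], [0, 1, 4], [4, 5], [0, 1], [1, 3], [0, 1, 4], [2, 3, 5], [0], [0, 4, 5], [0, 3, 5], [0, 1, 2, 5], [0, 1, 3, 5], [2, 4], [0, 2, 4, 5], [1, 2, 4], [], [], [5], [2, 4, 5], [], [1, 5], [5], [2], [0, 1, 2, 5], [0, 1], [0], [0, 1], [], [5], [], [0],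 [], [5], [], [], [2, 3], [], [0, 1, 5], [], [], [0], [], [], [], [5], [], [5], [], [], [], []]

/-- layer -/
def full1L5P3 : List (List ℕ) := [[], [4], [2, 3, 4, 5], [0, 3, 4], [0], [0, 1, 2, 4], [0], [], [4, 5], [], [5], [], [], [5], [], [5], [], [0, 1], [0, 1, 5], [1], [2], [1, 4], [3, 4, 5], [1, 2, 4, 5], [], [0, 1], [5], [1], [2], [], [0, 1, 2, 3, 4], [0, 1], [0, 1, 2, 3, 5], [1, 3], [0], [0, 2], [0], [], [], [5], [5], [1, 3, 5], [], [0, 1, 5], [], [], [0, 2, 3, 5], [], [], [3], [], [0, 1, 2, 3], [0, 1, 3, 5], [0, 1, 2], [0, 2, 3, 4], [4], [], [], [0, 1], [], [2], [5], [], [], [3, 4], [], [0, 2, 4], [1], [], [4, 5], [], [], [0, 4, 5], [], [], [0, 1, 2], [], [], [], [], [1, 2], [], [], [5], [], [], [], [], [], [0, 1, 2], [2, 4], [4], [0, 2], [1, 2, 4], [5], [5], [], [0, 1, 4, 5], [], [5], [3, 5], [5], [], [], [1], [2, 3], [1], [2, 3], [0], [4, 5], [0], [0, 3, 4], [2], [1,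 2], [1, 3, 4, 5], [4], [1], [2], [2, 5], [5], [0, 2, 4], [0, 4], [1, 3], [1, 2, 4], [4], [1], [4], [5]]

/-- layer -/
def full1L5P4 : List (List ℕ) := [[1, 3], [3, 5], [1, 2, 3, 5], [1], [4], [3, 4, 5], [2, 3], [], [0, 3], [0], [3], [0], [0, 4], [0, 1], [], [2, 5], [3], [4], [], [5], [], [0, 1, 3], [1, 3, 5], [], [0, 1, 4], [], [5], [], [], [5], [], [5], [0, 4], [], [0], [3, 5], [4], [0, 2], [0, 4], [0], [0], [3], [1], [4], [0, 4], [0, 1], [], [1, 2, 4, 5], [2], [2], [3, 5], [1, 4, 5], [5], [0], [4], [0, 4], [4, 5], [2, 3], [], [1], [], [], [4], [4, 5], [0, 4], [0, 2], [], [0], [], [4, 5], [2], [], [4], [4], [5], [4], [0, 3], [3, 5], [0], [], [3], [1, 4, 5], [3], [2], [1], [4, 5], [], [4], [3], [5], [], [0], [0], [3], [1], [0], [1, 3], [], [], [], [3, 5], [1], [3], [], [], [], [], [5], [], [], [], [], [0], [5], [], [1, 2], []]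

/-- layer -/
def full1L6P0 : List (List ℕ) := [[4], [], [], [], [], [], [], [], [], [], [], [5], [], [], [3], [], [], [], [], [], [], [], [], [], [], [2], [], [5], [], [], [], [], [], [4], [1, 4], [2], [], [0, 2], [], [], [], [0, 3], [5], [], [], [1, 2], [5], [], [], [], [], [3], [], [], [], [], [], [5], [], [], [], [], [], [], [], [5], [], [], [], [], [0], [], [5], [2], [0], [], [2], [], [], [1, 3], [], [], [0], [], [], [0], [], [], [], [], [], [], [], [], [], [], [], [], [], [3], [], [], [], [3], [5], [], [], [], [], [0, 5], [], [1], [5], [1, 2], [3, 5], [0, 4], [], [0], [], [], [], [], [], [], [], [], [], [1]]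

/-- layer -/
def full1L6P1 : List (List ℕ) := [[], [], [0, 1], [], [2], [], [2], [], [], [], [1], [], [], [], [3, 5], [], [], [], [], [5], [1, 4], [4], [0, 2], [], [5], [0], [], [], [], [], [5], [4], [3], [], [], [], [], [1], [], [], [], [], [], [], [], [], [], [], [], [0, 1, 2], [], [], [], [5], [1], [], [], [], [2], [], [1], [], [], [], [], [], [], [0, 1], [], [], [0], [], [], [], [3, 4], [], [], [], [], [5], [], [1], [], [], [], [], [], [], [5], [], [0], [], [], [], [5], [], [3], [3], [], [4], [4], [4], [], [], [0], [], [], [], [], [], [], [], [4], [], [5], [], [], [0, 3], [1, 2], [], [1, 4], [], [], [], [], [], [], []]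

/-- layer -/
def full1L6P2 : List (List ℕ) := [[], [], [5], [2], [4, 5], [3], [], [0], [], [0], [], [3, 5], [], [], [], [], [], [], [3], [], [], [1], [5], [], [], [], [4], [], [], [], [], [], [], [1, 5], [], [], [], [5], [], [], [], [], [], [], [], [], [], [], [], [], [], [], [], [2], [], [], [], [], [1], [0], [], [], [], [2], [2], [4], [], [], [2], [], [], [], [], [], [], [5], [4], [0], [], [], [0], [], [], [4], [], [], [], [], [], [], [], [], [], [], [], [1], [2], [], [], [0], [], [], [], [3], [], [], [], [3], [], [], [], [], [], [], [1], [2], [], [], [2], [1], [], [], [], [], [], [], [], []]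

/-- layer -/
def full1L6P3 : List (List ℕ) := [[], [], [], [], [], [], [2], [], [], [], [], [], [], [], [], [], [], [], [], [], [], [], [2], [4], [], [3], [], [], [1], [], [], [], [], [], [], [], [], [], [], [], [], [], [], [], [], [], [], [], [], [], [], [], [], [], [], [2], [], [], [], [], [], [], [], [], [], [], [], [], [], [], [], [], [], [], [5], [], [], [], [], [], [3], [], [], [], [], [], [], [], [], [], [], [0, 2], [3], [], [], [], [], [], [], [], [], [], [], [0], [], [], [], [], [], [], [], [], [], [], [], [], [], [], [], [5], [], [], [], [], [], [2], [], []]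

/-- layer -/
def full1L6P4 : List (List ℕ) := [[], [], [], [], [], [], [], [], [], [], [], [], [], [], [], [], [], [], [], [], [2], [], [], [], [], [], [], [], [], [5], [], [], [], [], [], [], [], [], [], [], [], [], [], [], [], [], [], [], [], [], [], [], [], [], [], [5], [], [], [], [], [], [], [], [], [], [], [], [], [], [], [], [], [1], [], [], [], [], [], [], [], [], [], [], [], [], [3], [], [], [], [], [], [], [], [1], [], [], [], [], [], [], [], [], [], [], [1], [], [], [], [], [], [], [], [], [], [1], [], [], [], [], [], [1], [], [], [], [], [], [], []]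

/-- layer -/
def full1L6P5 : List (List ℕ) := [[], [], [], [], [], [], [], [], [], [], [], [], [], [], [], [], [], [], [], [], [], [], [], [], [], [], [], [], [], [], [], [], [], [], [], [], [], [], [], [], [], [], [], [], [], [], [], [], [2, 5], [], [], [], [], [], [], [], [3], [], [], [], [], [], [], [], [], [], [], [], [], [3], [], [], [], [], [], [], [], [], [], [], [], [], [], [], [], [], [], [], [], [], [2], [], [], [], [], [], [], [], [], [], [], [], [], [], [], [], [], [], [], [], [], [], [], [], [2], [], [], [], [], [], [], [], [], [], [], [], [], []]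

/-- layer -/
def full1L6P6 : List (List ℕ) := [[], [], [], [], [], [], [], [], [], [], [], [], [], [], [], [], [], [], [], [], [], [2], [], [], [], [], [], [], [], [], [], [], [2], [2], [], [], [], [], [], [], [], [], [], [], [], [], [], [], [], [], [], [], [], [], [], [], [], [], [], [], [], [], [], [], [], [], [], [], [], [], [], [], [], [], [], [], [], [], [], [], [], [], [], [], [], [], [], [], [], [], [], [], [], [], [], [], [], [], [], [], [], [], [], [], [], [], [], [], [], [], [], [], [], [], [], [], [], [], [], [], [], [], [], [], [], [], [], []]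

/-- layer -/
def full1L6P7 : List (List ℕ) := [[], [], [], [], [], [], [], [], [], [], [], [], [], [], [], [], [], [], [], [], [], [], [], [], [], [], [], [], [], [], [], [], [], [], [], [], [], [], [], [], [], [], [], [], [], [], [], [], [], [], [], [], [], [], [], [], [], [], [], [], [], [], [], [], [], [], [], [], [], [], [], [], [], [], [], [], [], [], [], [], [], [], [], [], [], [], [], [], [], [], [], [], [], [], [], [], [], [], [], [], [], [], [], [], [], [], [], [], [], [], [], [], [], [], [], [], [], [], [], [], [], [], [], []]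

/-- layers -/
def full1 : List (List (List ℕ)) := [full1L0P0, full1L1P0, full1L2P0, full1L3P0, full1L4P0 ++ full1L4P1, full1L5P0 ++ full1L5P1 ++ full1L5P2 ++ full1L5P3 ++ full1L5P4, full1L6P0 ++ full1L6P1 ++ full1L6P2 ++ full1L6P3 ++ full1L6P4 ++ full1L6P5 ++ full1L6P6 ++ full1L6P7]

/-- layer -/
def sub2L0P0 : List (List ℕ) := [[0, 1, 2, 3, 4]]

/-- layer -/
def sub2L1P0 : List (List ℕ) := [[0, 1, 2, 3, 4], [0, 1, 2, 3, 4], [0, 1, 2, 3, 4], [0, 1, 2, 3, 4], [0, 1, 2, 3, 4]]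

/-- layer -/
def sub2L2P0 : List (List ℕ) := [[1, 2, 3, 4], [0, 1, 2, 3, 4], [1, 3, 4], [0, 1, 2, 3, 4], [0, 1, 2, 3, 4], [0, 1, 2, 3], [0, 1, 2, 3], [0, 1, 2, 3, 4], [0, 1, 2, 4], [0, 1, 2, 3, 4], [0, 1, 2, 3, 4], [0, 1, 2, 3, 4], [0, 1, 2, 3, 4], [0, 1, 2, 3, 4], [0, 1, 2, 3], [0, 1, 2, 3, 4], [0, 1, 2, 3, 4], [0, 1, 2, 3, 4], [0, 2, 3, 4], [0, 1, 2, 3, 4], [0, 1, 2, 3, 4], [0, 1, 2, 4], [0, 1, 2, 3, 4], [0, 2, 3, 4], [0, 1, 2, 3, 4]]

/-- layer -/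
def sub2L3P0 : List (List ℕ) := [[0, 1, 2, 3], [0, 1, 2, 3, 4], [1, 4], [0, 1, 2, 3, 4], [0, 1, 2, 3, 4], [0, 1, 2, 3, 4], [0, 1, 2, 3, 4], [0, 1, 2, 3, 4], [0, 1, 2, 4], [0, 1, 2, 4], [0, 1, 3, 4], [0, 1, 2, 3, 4], [0, 1, 2, 3, 4], [0, 1, 2, 3], [0, 1, 2, 4], [0, 1, 2, 3, 4], [0, 1, 2, 3, 4], [1, 3, 4], [0, 1, 2, 3, 4], [0, 1, 2, 3, 4], [1, 3, 4], [2, 4], [0, 1, 3, 4], [0, 1, 2, 3, 4], [2, 3, 4], [2, 3, 4], [0, 1, 2, 3, 4], [0, 2, 3, 4], [0, 1, 3], [0, 4], [0, 1, 2, 4], [0, 2], [0, 3], [0, 1, 3, 4], [0, 1, 2, 3, 4], [0, 1, 2, 3, 4], [0, 2, 3, 4], [0, 3], [0, 1, 3], [0, 1, 2, 3, 4], [1, 3, 4], [0, 1, 4], [0, 1, 2, 3], [0, 3, 4], [1, 2, 3, 4], [2, 3, 4], [0, 1, 3, 4], [0, 1, 2], [0, 1, 2, 3, 4], [3], [0, 1, 2, 3, 4], [0, 2, 3], [0, 1, 2], [0, 1, 2, 4], [0, 1, 2, 3], [0, 2, 4], [0, 1, 4], [1, 2, 3, 4], [0, 1, 3], [0, 1, 3, 4], [0, 1, 4], [0, 2, 3], [0, 2, 3, 4], [0, 1, 2, 3,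 4], [0, 1, 3, 4], [0, 1, 2, 3, 4], [1, 2], [1, 2], [0, 2, 3, 4], [1, 4], [0, 2, 3, 4], [3], [0, 3, 4], [0, 1, 2, 3], [1, 2, 4], [1, 2, 4], [0, 1, 2, 4], [2, 3, 4], [0, 2, 3, 4], [0, 1, 2, 4], [1, 2, 3, 4], [0, 1, 2, 3, 4], [0, 2, 4], [0, 1, 4], [0, 2, 3], [0, 4], [0, 3, 4], [0, 1, 2, 3], [0, 1, 3, 4], [0, 1, 2, 3, 4], [0, 2, 3, 4], [0, 1, 3, 4], [2, 4], [1, 2, 3], [0, 1, 2, 4], [0, 1, 2, 4], [0, 1], [1, 2, 3], [1, 4], [0, 2, 3], [0, 1, 3], [1, 2, 3, 4], [0, 1], [2, 3], [0, 1, 2, 3, 4], [0, 1, 2, 3, 4], [1, 4], [1, 2, 3, 4], [1, 2], [1, 2, 3, 4], [0, 2, 3], [0, 2, 3, 4], [], [1, 2], [1, 4]]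

/-- layer -/
def sub2L4P0 : List (List ℕ) := [[0, 1, 2], [1, 2, 3, 4], [0, 3, 4], [2], [1, 3, 4], [0, 2, 3, 4], [0, 2, 3, 4], [0], [0], [0, 3, 4], [0, 2], [2, 3], [0, 1, 3], [1, 4], [1, 4], [0, 1, 4], [2, 3, 4], [0, 1, 4], [0, 2, 3], [0, 1, 3], [0, 1], [0, 1, 3, 4], [0, 1, 2, 3, 4], [0, 2, 4], [0, 3], [0, 4], [2, 3], [0, 2, 3, 4], [0, 1], [0, 4], [2, 3, 4], [0, 1], [0, 2, 3, 4], [2], [0, 1], [0, 3], [0, 1, 4], [3, 4], [1, 2], [1, 2], [4], [2, 3, 4], [0, 1, 4], [1, 3], [0, 1, 4], [2, 3, 4], [0, 1], [1, 3], [1, 3, 4], [0, 2, 4], [3], [0, 1, 2, 3], [1], [2, 3, 4], [0, 4], [1, 3, 4], [], [1], [0, 1, 2, 4], [1, 4], [3], [3, 4], [0, 1, 3], [0, 1], [0, 1, 3], [0, 1, 3], [2, 4], [2, 4], [1, 3], [2], [1, 3], [0, 1, 3, 4], [3, 4], [1, 3], [], [2, 4], [2], [3], [0, 1], [1, 3], [1, 2, 3], [0, 2], [0, 3], [0, 2, 4], [2, 4], [1, 2], [0, 1, 2], [1, 3], [4], [1, 3, 4], [1, 2], [1, 3], [3],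 [1, 3, 4], [1], [0, 2, 3, 4], [0], [0, 1, 3], [1], [3], [1, 2, 3, 4], [1, 2], [0, 1], [2, 3], [2], [3], [], [1, 4], [1, 3, 4], [], [1, 2], [1, 2, 3, 4], [1], [0], [0], [3], [], [0], [1], [1, 2, 3, 4], [0, 1], [0, 4], [1, 3], [1], [3], [3, 4], [1, 4], [0, 1, 4]]

/-- layer -/
def sub2L4P1 : List (List ℕ) := [[0, 2], [4], [2, 4], [0, 1, 2, 3, 4], [], [0, 2, 4], [3], [], [0, 2, 3], [], [0, 1], [1], [2, 3], [1, 4], [3], [0, 2], [1, 3, 4], [3], [1], [0, 2, 4], [2, 4], [], [3, 4], [1, 3], [0], [4], [3], [2], [0, 1, 3], [2, 3, 4], [0, 1, 2, 3], [1], [0, 3, 4], [], [1, 4], [0, 2, 3], [0], [4], [], [1, 4], [0, 1, 2, 4], [1, 2, 3], [0, 2], [1, 2, 3], [1, 4], [], [0, 2], [], [], [], [0, 3], [], [], [1, 2, 3, 4], [], [2, 3], [1], [3], [4], [1, 3], [1], [0], [0, 2, 4], [3], [1, 3], [], [0, 3], [2, 4], [1, 2], [], [1, 4], [0, 3], [], [2], [2], [], [1, 4], [0, 4], [], [2, 4], [], [3], [3],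 [], [2], [], [0, 1], [0, 3], [], [], [1, 2, 3], [], [], [3], [4], [], [0], [], [2], [4], [], [3], [], [0, 2, 4], [], [4], [2, 3], [], [], [], [0, 1], [1, 3], [], [2], [0, 3], [2, 3, 4], [2, 4], [4], [4], [0], [2, 4], [1], [2], [0], [4], [1], [], []]

/-- layer -/
def sub2L4P2 : List (List ℕ) := [[1, 2], [], [1], [], [0], [0], [], [2], [4], [0], [0, 4], [0], [0], [], [0], [], [], [], [], [], [], [3], [], [0], [], [], [1], [2], [], [0], [], [], [], [], [0], [], [2], [], [3], [], [3], [3], [], [0, 2], [], [0, 4], [], [0], [], [2], [1, 3], [], [0], [1], [0], [], [0], [], [4], [4], [], [0], [], [3], [3], [], [], [3], [4], [], [1, 3], [], [0], [], [2], [], [], [], [0, 2], [3], [1], [4], [], [3], [2], [0], [4], [], [3], [3], [1], [], [2], [], [1, 2, 4], [], [0, 1], [1], [], [], [], [0], [], [], [], [1], [], [], [0], [2], [3], [], [0], [], [], [0, 1], [], [], [], [], [2], [4], [],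 [], [2], [2], [], [1]]

/-- layer -/
def sub2L4P3 : List (List ℕ) := [[], [], [], [2, 3], [], [], [], [3], [], [1], [], [0], [1], [], [3], [3], [], [], [], [], [0, 3], []]

/-- layer -/
def sub2L5P0 : List (List ℕ) := [[], [], [2], [1], [4], [], [], [], [4], [], [], [], [2], [], [], [4], [], [2], [], [], [], [], [], [], [], [], [], [], [], [3], [], [], [], [], [], [], [0], [], [], [], [], [0, 3], [0], [], [], [], [1], [], [], [], [2], [], [], [], [], [], [], [], [], [], [1], [], [], [], [], [3], [1], [], [], [], [], [2], [], [1], [], [], [], [], [], [], [], [], [], [], [2], [], [2], [], [], [], [], [], [3], [], [], [], [], [], [], [], [], [], [0], [], [], [], [], [], [], [], [], [], [], [], [], [], [], [], [0], [], [], [], [], [], [], [], [], []]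

/-- layer -/
def sub2L5P1 : List (List ℕ) := [[], [], [], [], [], [], [], [], [], [], [], [], [], [], [], [], [], [], [], [], [], [], [], [], [], [], [], [], [], [], [4], [], [], [], [], [], [3], [], [], [], [1], [], [], [], [], [], [], [], [], [], [], [], [], [], [], [], [], [3], [], [], [], [1], [], [], [], [], [], [], [], [], [], [], [], [], [], [], [], [], [], [], [], [], [4], [], [], [], [], [0], [], [], [], [], [], [], [], [], [], [], [], [], [0], [], [], [], [], [4], [], [], [], [], [], [], [], [], [], [], [], [], [], [], [0], [], [], [], [], [], [], []]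

/-- layer -/
def sub2L5P2 : List (List ℕ) := [[], [], [], [], [], [], [], [], [], [], [], [], [], [], [], [], [], [], [], [], [], [], [], [], [], [], [], [], [], [], [], [], [], [], [], [], [], [], [], [], [], [], [], [], [], [], [], [], [], [], [], [], [], [], [], [], [], [], [], [], [], [], [], [], [], [], [], [], [], [], [], [], [], [], [], [], [], [], [], [], [], [], [], [], [], [], [], [], [], [], [], [], [], [], [], [], [], [], [], [], [], [], [], [], [], [], [], [], [], [], [], [], [], [], [], [], [], [], [], [], [], [], [], [], [], [], [], []]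

/-- layer -/
def sub2L5P3 : List (List ℕ) := [[], [], [], [], [], [], [], [], [], [], [], [], [], [], [], [], [], [], [], [], [], [], [], [], [], [], [], [], [], [], [], [], [], [], [], [], [], [], [], [], [], [], [], [], [], [], [], [], [], [], [], [], [], [], [], [], [], [], [], [], [], [], [], [], [], [], [], [], [], [], [], [], [], [], [], [], [], [], [], [], [], [], [], [], [], [], [], [], [], [], [], [], [], [], [], [], [], [], [], [], [], [], [], [], [], [], [], [], [], [], [], [], [], [], [], [], [], [], [], [], [], [], [], [], [], [], [], []]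

/-- layer -/
def sub2L5P4 : List (List ℕ) := [[], [], [], [], [], [], [], [], [], [], [], [], [], [], [], [], [], [], [], [], [], []]

/-- layers -/
def sub2 : List (List (List ℕ)) := [sub2L0P0, sub2L1P0, sub2L2P0, sub2L3P0, sub2L4P0 ++ sub2L4P1 ++ sub2L4P2 ++ sub2L4P3, sub2L5P0 ++ sub2L5P1 ++ sub2L5P2 ++ sub2L5P3 ++ sub2L5P4]

/-- layer -/
def full2L0P0 : List (List ℕ) := [[5]]

/-- layer -/
def full2L1P0 : List (List ℕ) := [[0, 1, 2, 3, 4, 5]]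

/-- layer -/
def full2L2P0 : List (List ℕ) := [[0, 1, 2, 3, 4, 5], [0, 1, 2, 3, 4, 5], [0, 1, 2, 3, 4, 5], [0, 1, 2, 3, 4, 5], [0, 1, 2, 3, 4, 5], [0, 1, 2, 3, 4, 5]]

/-- layer -/
def full2L3P0 : List (List ℕ) := [[1, 2, 3, 4, 5], [0, 1, 2, 3, 4, 5], [1, 3, 4, 5], [0, 1, 2, 3, 4, 5], [0, 1, 2, 3, 4, 5], [0, 1, 2, 3, 4, 5], [0, 1, 2, 3, 5], [0, 1, 2, 3, 5], [0, 1, 2, 3, 4, 5], [0, 1, 2, 4, 5], [0, 1, 2, 3, 4, 5], [0, 1, 2, 3, 4, 5], [0, 1, 2, 3, 4, 5], [0, 1, 2, 4, 5], [0, 1, 2, 3, 4, 5], [0, 1, 2, 3, 4, 5], [0, 1, 2, 3], [0, 1, 2, 3, 4, 5], [0, 1, 2, 3, 4], [0, 1, 2, 3, 4, 5], [0, 1, 2, 3, 4, 5], [0, 2, 3, 4, 5], [0, 1, 2, 3, 4, 5], [1, 3, 5], [0, 1, 2, 3, 4, 5], [0, 1, 2, 4, 5], [0, 1, 2, 3, 4, 5], [0, 2, 3, 4, 5], [0, 1, 2, 3, 4, 5], [0, 1, 2, 3, 4, 5], [0, 1, 2, 3, 4, 5], [0, 1, 2, 3, 4, 5], [0, 1, 2, 3, 4, 5], [0, 1, 5], [0, 1, 2, 3, 4, 5], [0, 1, 2, 3, 4, 5]]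

/-- layer -/
def full2L4P0 : List (List ℕ) := [[0, 1, 2, 3, 5], [0, 1, 2, 3, 4], [1, 4], [0, 1, 3, 4, 5], [0, 1, 2, 3, 4, 5], [0, 1, 2, 3, 4, 5], [0, 1, 2, 3, 4, 5], [1, 2, 4, 5], [0, 1, 2, 3, 4, 5], [0, 1, 2, 4, 5], [0, 1, 2, 3, 4, 5], [0, 1, 4, 5], [0, 1, 3, 4, 5], [0, 1, 2, 3, 4, 5], [0, 1, 2, 3, 4, 5], [0, 1, 2, 3, 4, 5], [0, 1, 2, 3, 5], [0, 2, 4, 5], [0, 1, 2, 3, 4, 5], [0, 1, 2, 3, 4], [0, 1, 2, 3, 4, 5], [1, 3, 4, 5], [1, 2, 3, 4, 5], [0, 1, 2, 3, 4, 5], [1, 3, 4, 5], [2, 4, 5], [0, 1, 2, 3, 4, 5], [0, 1, 2, 3, 4, 5], [0, 1, 2, 3, 4], [0, 1, 2, 5], [0, 2, 3, 4], [0, 1, 2, 3, 4, 5], [0, 1, 2, 3, 4, 5], [0, 1, 3, 4, 5], [0, 1, 2, 3, 4, 5], [2, 3, 4, 5], [2, 3, 4, 5], [0, 1, 2, 3, 4, 5], [0, 1, 2, 4, 5], [0, 2, 3], [0, 1, 3, 5], [0, 4, 5], [0, 3, 4], [0, 1, 2, 4, 5], [0, 2, 5], [0, 3, 5], [0, 1, 3, 4, 5], [0, 1, 2, 3, 4, 5], [0, 1, 2, 3, 4, 5], [0, 1, 3, 4, 5], [0, 2,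 3, 4, 5], [0, 3, 5], [0, 1, 3, 5], [0, 1, 2, 3, 4, 5], [1, 2, 3, 4, 5], [1, 3, 4, 5], [0, 1, 4, 5], [1, 2, 3], [3, 4, 5], [0, 2, 4, 5], [0, 1, 2, 3, 4, 5], [0, 1, 2, 3, 4, 5], [0, 1, 2, 3, 4, 5], [0, 1, 2, 3, 4, 5], [0, 1, 2, 3, 5], [0, 1, 2], [1, 2, 3, 4, 5], [2, 3, 4], [0, 1, 3, 4, 5], [0, 1, 2, 5], [0, 1, 2, 3, 4], [2, 3, 4, 5], [3, 5], [0, 1, 2, 3, 4], [2, 3, 5], [0, 5], [1, 2, 3, 5], [0, 1, 3, 5], [0, 2, 4, 5], [0, 1, 4, 5], [2, 3, 4, 5], [0, 1, 3, 5], [0, 1, 2, 3, 5], [0, 1, 5], [1, 4, 5], [2, 3], [0, 2, 3, 5], [0, 1, 2, 4], [0, 1, 2, 3, 4, 5], [1, 3, 4, 5], [0, 1, 2, 3, 4, 5], [1, 5], [1, 2, 5], [0, 1, 2, 3, 4], [1, 2, 3, 4], [0, 1, 3, 4, 5], [0, 1, 2, 4, 5], [0, 1, 2, 3, 5], [1, 2, 3, 5], [0, 2, 3, 4], [1, 5], [0, 2, 3, 4, 5], [3], [0, 3, 4, 5], [0, 1, 2, 3], [1, 2, 4, 5], [1, 2, 4], [0, 1, 2, 4, 5], [2, 3, 4, 5], [0, 1, 5], [0, 2, 5], [1, 2, 4, 5], [2, 3, 4, 5], [0,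 2, 3, 4, 5], [0, 2, 4], [0, 2, 3, 4, 5], [0, 1, 4], [0, 3, 5], [0, 4, 5], [0], [0, 1, 2, 3, 4, 5], [1, 2, 5], [0, 1, 3, 4, 5], [0, 1, 2, 3, 4, 5], [0, 2, 3, 4, 5], [0, 1, 3, 4, 5], [2, 3, 4, 5], [3]]

/-- layer -/
def full2L4P1 : List (List ℕ) := [[1, 2, 5], [1, 3, 4], [2, 4, 5], [1, 2, 3, 5], [1, 2, 4, 5], [0, 1, 2, 4], [0, 1, 5], [3], [1, 2, 3], [1, 4], [0, 2, 3, 5], [0, 1, 3, 5], [1, 2, 4, 5], [1, 2, 3, 4], [0, 1], [2, 3, 5], [0, 2, 3, 4], [0, 1, 2, 3, 4, 5], [0, 1, 2, 3, 4], [1], [1, 2, 3, 4, 5], [1, 2], [1, 2, 3, 4, 5], [0, 1, 3, 5], [0, 2, 5], [0, 2, 3, 4, 5], [], [1, 2, 5], [1, 5], [2], [0, 1, 2], [3, 4, 5], [1, 2, 4, 5], [0, 1, 5], [0, 1, 5], [0, 3, 4], [0, 1, 4, 5], [3, 5], [1, 2, 3, 5], [0, 1, 2, 3, 5], [2, 4, 5], [0, 2, 4], [0, 2], [4, 5], [0, 3, 5], [0, 1, 4, 5], [1, 3, 5], [0, 3, 4, 5], [2, 4, 5], [5], [0, 2, 4, 5], [1, 4, 5], [1, 3, 5], [0, 1, 2, 3, 5], [2, 3],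 [0, 1, 2, 5], [0, 4, 5], [], [0, 1, 2, 3], [4, 5], [1], [0, 3, 5], [1], [0, 1, 2, 5], [0, 1, 2, 4], [1, 2, 3, 4], [0, 1, 2], [0, 1, 3, 4], [0, 2]]

/-- layer -/
def full2L5P0 : List (List ℕ) := [[1, 2], [1, 3], [0, 3, 4], [5], [0, 3], [3, 4], [], [2, 3, 4], [0, 5], [0, 5], [0, 3, 5], [2, 5], [2, 3], [5], [1, 4, 5], [0], [0, 3, 5], [3, 4], [1, 2, 4], [0, 3], [0, 3, 4], [0, 1], [0, 1, 3, 5], [2, 4, 5], [1, 4, 5], [0, 2, 3, 5], [0, 1, 5], [1, 5], [0, 1, 2, 3, 4, 5], [1, 4, 5], [0, 1, 2, 3, 5], [0, 2, 4, 5], [0, 3], [5], [0, 1, 2, 3, 4, 5], [2, 3, 4], [0, 1, 5], [5], [0, 1, 2, 3, 4], [0, 5], [0, 2, 3, 4], [5], [0, 1], [0, 3, 5], [0, 2, 4, 5], [0, 1, 4], [4], [1, 2, 5], [1, 2], [0, 1, 2, 3], [0, 4], [0, 1], [1], [3], [4], [5], [4, 5], [3, 4], [1, 3], [0, 2, 3, 5], [0, 1, 4], [2], [0, 1, 5], [1], [0, 2, 3, 4, 5], [1, 3], [0, 2, 5], [], [0, 1, 2, 5], [], [3], [3], [4], [0, 1, 2,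 3], [0, 2, 4, 5], [0, 1, 3], [0, 1, 3, 4], [2, 5], [4, 5], [1, 3, 4, 5], [5], [1, 5], [5], [0], [4], [], [4, 5], [0, 3, 5], [0, 1], [0, 3], [1, 3, 5], [2, 5], [2], [4], [3], [], [1, 3], [0, 1, 2, 3, 4, 5], [0, 4], [5], [1, 3, 5], [], [4, 5], [], [0, 1], [], [5], [3, 4], [1, 5], [2, 5], [3], [0, 1, 5], [4], [1, 2, 3, 5], [0, 5], [3], [4, 5], [5], [2], [1, 2, 5], [0, 1, 5], [3], [4], [4, 5], [1], [1, 2], [3, 5], [0, 3, 4]]

/-- layer -/
def full2L5P1 : List (List ℕ) := [[3, 5], [4, 5], [3, 5], [0, 3, 4], [0, 1, 5], [0, 2], [0, 1, 2, 4, 5], [1, 3, 4], [2, 4], [0, 1, 5], [0, 1, 2, 3, 4], [0, 2, 5], [2, 3], [1, 3, 5], [3, 4], [1, 2, 3, 4], [2], [1, 3, 4], [0, 4], [0, 1, 2, 3, 4], [0, 2, 3, 4], [0, 1, 2, 3, 4, 5], [0, 1, 2, 3, 4, 5], [1, 4, 5], [1, 4, 5], [2, 3, 4], [1, 2, 4, 5], [0, 2, 4], [1, 2, 3, 4, 5], [0, 1, 2], [2, 3], [], [0, 2, 4], [0, 1, 2, 3, 4, 5], [1, 4], [1, 4, 5],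 [2, 5], [0, 2, 4, 5], [5], [0, 1], [], [3, 5], [0], [0], [0, 2], [1, 5], [3, 5], [1], [1, 5], [], [1, 4], [2, 5], [2, 5], [3], [0, 1, 3], [], [1, 5], [1, 4, 5], [0, 4], [0, 1, 3], [3, 4], [0, 1, 3], [0, 2], [1, 4], [1, 2], [5], [1, 2, 5], [3, 4], [0], [3], [0], [5], [], [], [1, 2, 3, 4, 5], [0], [5], [0, 5], [3], [1, 2, 4, 5], [2, 5], [5], [], [1], [], [3, 4], [], [5], [0, 1, 4, 5], [0, 2], [0, 1, 2, 3], [], [], [0, 1, 2, 3, 4], [0, 1, 3, 4, 5], [], [0, 2], [], [], [5], [0, 3, 5], [], [0, 1], [], [3, 4], [2, 3], [2, 3], [4], [2], [1, 3], [], [2, 3], [], [0, 2, 5], [1, 3, 4], [2], [], [1], [0, 4], [2, 4], [2], [], [4], [0, 1, 2], [1, 3], [], [4, 5], []]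

/-- layer -/
def full2L5P2 : List (List ℕ) := [[2, 5], [1], [0, 1, 2, 3, 4], [4], [0, 1, 3], [5], [2], [0, 1, 3], [2], [0], [2, 4, 5], [], [3], [5], [1, 5], [1], [0, 2, 5], [], [0, 5], [], [1, 4, 5], [4, 5], [], [1], [0, 3], [0, 5], [2], [1], [1], [2], [0, 2, 4], [2, 4], [0, 3, 4, 5], [0, 1, 2, 3, 5], [2, 5], [1, 3, 4], [1], [0, 2, 4], [], [1, 2, 3, 4, 5], [0, 3, 5], [0, 1, 2, 3, 4], [2, 3], [2, 3], [4], [0], [], [2], [2, 5], [], [1, 2, 3, 4], [0, 3, 4, 5], [], [2], [2], [], [0, 4], [4], [], [], [], [1], [], [0, 2], [], [], [], [], [5], [], [], [5], [], [], [2, 3, 5], [], [3], [0, 5], [], [3], [1], [], [2], [5], [0, 4], [0, 5], [], [3], [1], [3], [], [], [2, 4], [2, 5], [4, 5], [3, 5], [2], [5], [], [0, 1, 2, 3], [], [4, 5], [], [2, 4, 5], [], [], [], [], [2], [], [], [], [], [5], [2], [1], [], [], [0, 2, 4], [3], [4, 5], [], [1, 4, 5], [0, 1], [0, 4, 5], [0, 4], [4], []]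

/-- layer -/
def full2L5P3 : List (List ℕ) := [[5], [], [4, 5], [5], [], [1, 4], [], [], [2, 3], [], [], [1], [1], [1, 3], [5], [0], [0, 2, 3], [0, 3, 4], [0, 1, 3], [1], [1, 3, 4], [0, 1, 3, 4], [], [], [4], [], [0, 5], [5], [], [], [0], [1, 3], [4], [1], [], [], [1, 2, 5], [0], [3, 4], [1, 2], [0], [1, 2, 4], [], [4], [2], [0, 2, 3, 4], [0, 2], [], [0, 2, 3], [], [], [1], [], [], [1], [], [3, 4], [1, 2, 4], [], [], [1, 3], [3, 4], [], [], [], [], [], [], [], [0], [], [], [], [5], [], [], [4], [], [], [], [], [0], [], [], [], [], [], [], [], [], [], [], [], [], [], [], [5], [], [], [], [], [1], [], [], [], [], [2], [2], [], [], [0, 3], [3], [3], [5], [], [0], [4, 5], [], [], [], [], [2, 5], [1], [1, 4], [4], [0, 1, 2, 3, 4], [0, 4], [3]]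

/-- layer -/
def full2L5P4 : List (List ℕ) := [[], [], [], [0], [0], [5], [], [4], [0], [], [], [1, 2, 3], [], [3], [5], [], [], [], [1, 3], [], [], [4], [], [], [], [], [0], [5], [], [5], [], [], [], [5], [], [], [1], [], [], [5], [], [], [4, 5], [], [], [], [], [4], [], [], [], [], [], [1], [], [4], [5], [5], [3, 5], [], [], [3], [2], [], [], [], [], [1], [1, 4], [], [5], [5], [], [], [], [], [], [], [4], [], [], [], [], [4, 5], [], [], [1, 4], [], [], [], [], [], [], [], [], [1], [], [], [], [4], [], [], [2], [], [], [], [], [], [], [0, 1], [], [1], [], [5], [], [5], [], [], [], [], [5], [1], [], [], [], [], [4], [0, 2, 4]]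

/-- layer -/
def full2L5P5 : List (List ℕ) := [[0, 5], [1], [], [3], [], [], [], [], [], [], [3, 5], [3], [4], [], [5], [], [], [], [4], [0, 1, 4, 5], [], [], [5], [], [], [], [1], [], [], [], [], [], [], [], [], [4], [], [], [], [], [], [], [0, 4], [], [], [], [], [5], [], [], [], [1], [], [3, 5], [], [], [4], [5], [], [], [1, 2, 3, 4], [], [], [4], [], [], [], [], [], [], [], [], [], [4], [], [], [], [], [], [4], [], [], [5], [], [], [], [], [], [1, 4], [], [5], [5], [], [5], [], [5], [], [], [], [], [], [5], [], [5], [5], [], [], [], [], [2], [], [], [], [2, 4], [], [], [2], [], [0], [], [5], [], [], [], [4], [], [1], []]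

/-- layer -/
def full2L5P6 : List (List ℕ) := [[], [], [], []]

/-- layer -/
def full2L6P0 : List (List ℕ) := [[], [], [], [], [], [4], [], [4], [], [], [2], [5], [], [], [], [], [5], [], [], [], [], [0, 4], [], [], [], [5], [], [], [], [], [], [], [2], [1, 3], [0], [], [], [], [], [], [], [], [], [], [], [], [5], [5], [0], [], [], [], [], [], [], [], [], [], [], [3], [], [], [], [], [0, 2], [], [], [5], [], [], [], [], [], [1], [], [], [], [], [], [5], [], [], [], [], [5], [], [2], [3], [], [1], [3], [2], [], [], [], [], [], [1, 3], [0, 4], [], [], [3, 4], [], [2, 4], [], [1], [], [5], [], [], [4], [], [3], [], [], [], [], [], [], [4], [], [], [], [], [], [], [3], []]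

/-- layer -/
def full2L6P1 : List (List ℕ) := [[], [], [], [0], [], [2], [], [], [], [], [], [], [], [], [2, 4], [], [], [], [], [], [], [], [], [], [], [], [], [], [], [], [], [], [2, 4, 5], [2], [], [], [], [], [5], [], [], [], [], [], [], [], [], [4], [], [2], [], [], [4], [5], [], [1], [], [], [], [], [2], [3], [], [], [], [], [0], [], [], [], [], [1], [], [0], [2], [], [], [], [], [3], [], [], [], [], [], [], [], [], [], [], [2, 3], [], [], [], [], [5], [3], [], [1], [4], [], [], [], [], [4], [], [], [], [], [5], [], [], [], [], [], [], [], [], [5], [], [], [], [5], [], [], [], [], [1]]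

/-- layer -/
def full2L6P2 : List (List ℕ) := [[], [], [], [], [], [], [], [], [], [], [], [], [], [], [], [], [], [], [], [], [], [], [], [], [0, 5], [], [], [], [], [], [], [1], [], [], [], [], [2], [2], [], [], [], [], [], [3], [], [], [], [], [], [], [], [], [], [], [], [], [], [], [], [], [], [], [], [0], [], [2, 3], [], [], [], [], [], [], [], [], [], [], [], [], [], [], [], [], [], [], [3], [], [], [0], [2], [], [3], [], [], [], [], [], [], [], [], [], [], [], [], [], [], [], [], [], [], [], [], [], [], [2], [], [], [4], [], [], [], [], [], [], [], [], [], [], []]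

/-- layer -/
def full2L6P3 : List (List ℕ) := [[2], [], [], [5], [], [], [], [], [], [], [], [], [], [], [], [], [], [], [], [], [], [], [], [], [], [], [0], [], [], [], [], [], [], [], [], [], [], [], [], [], [0], [], [], [], [], [], [], [], [], [], [], [], [], [], [], [], [], [], [], [1], [], [], [], [], [], [], [], [], [], [], [], [], [], [], [], [], [], [4], [], [], [], [], [], [], [], [], [], [], [], [], [], [], [], [], [], [], [], [4], [], [], [], [], [], [], [], [], [], [], [], [], [], [], [], [], [], [], [], [], [], [], [], [], [], [], [], [], [], []]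

/-- layer -/
def full2L6P4 : List (List ℕ) := [[], [], [], [], [], [], [], [], [], [], [], [], [], [], [], [], [], [], [], [], [], [], [], [], [], [], [], [], [], [], [], [], [], [2], [], [], [], [], [], [], [], [], [], [], [], [5], [], [], [], [], [], [], [], [], [], [], [], [], [], [], [], [], [], [], [], [], [], [], [2], [], [], [], [], [], [], [], [], [], [], [], [], [], [], [], [], [], [], [], [], [], [], [], [], [], [], [], [], [], [], [], [], [], [], [], [], [], [], [], [], [], [], [], [], [], [], [], [], [], [], [], [], [], [], [], [], [], [], []]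

/-- layer -/
def full2L6P5 : List (List ℕ) := [[], [], [], [], [], [], [], [], [], [], [], [], [], [], [], [], [], [], [], [], [], [], [], [], [], [], [], [], [], [], [], [], [], [], [], [], [], [], [], [], [], [], [], [], [], [], [], [], [], [], [], [], [], [], [], [], [], [], [], [], [], [], [], [], [], [], [], [], [], [], [], [], [], [], [], [], [], [], [], [], [], [], [], [], [], [], [], [], [], [], [], [], [], [], [], [], [], [], [], [], [], [], [], [], [], [], [], [], [], [], [], [], [], [], [], [], [], [], [], [], [], [], [], [], [], [], [], []]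

/-- layer -/
def full2L6P6 : List (List ℕ) := [[], [], [], [], [], [], [], [], [], [], [], [], [], [], [], [], [], [], [], [], [], [], [], [], [], [], [], [], [], [], [], [], [], [], [], [], [], [], [], [], [], [], [], [], [], [], [], [], [], [], [], [], [], [], [], [], [], [], [], [], [], [], [], [], [], [], [], [], [], [], [], [], [], [], [], [], [], [], [], [], [], [], [], [], [], [], [], [], [], [], [], [], [], [], [], [], [], [], [], [], [], [], [], [], [], [], [], [], [], [], [], [], [], [], [], [], [], [], [], [], [], [], [], [], [], [], [], []]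

/-- layer -/
def full2L6P7 : List (List ℕ) := [[], [], [], [], [], [], [], [], [], [], [], [], [], [], [], [], []]

/-- layers -/
def full2 : List (List (List ℕ)) := [full2L0P0, full2L1P0, full2L2P0, full2L3P0, full2L4P0 ++ full2L4P1, full2L5P0 ++ full2L5P1 ++ full2L5P2 ++ full2L5P3 ++ full2L5P4 ++ full2L5P5 ++ full2L5P6, full2L6P0 ++ full2L6P1 ++ full2L6P2 ++ full2L6P3 ++ full2L6P4 ++ full2L6P5 ++ full2L6P6 ++ full2L6P7]

/-- layer -/
def sub3L0P0 : List (List ℕ) := [[0, 1, 2, 3, 4]]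

/-- layer -/
def sub3L1P0 : List (List ℕ) := [[0, 1, 2, 3, 4], [0, 1, 2, 3, 4], [0, 1, 3], [0, 2, 3, 4], [0, 1]]

/-- layer -/
def sub3L2P0 : List (List ℕ) := [[0, 1, 2, 3], [0, 1, 2, 3, 4], [1, 2, 3, 4], [0, 2, 4], [1, 2, 3], [0, 1, 2, 3, 4], [0, 2, 3], [0, 1, 2, 3, 4], [1], [1, 2, 3, 4], [0, 1, 2, 3, 4], [0, 2, 3], [0, 2, 4], [1, 2, 3, 4], [0, 1, 2], [0, 2, 3], [0, 1, 2, 3], [0, 1, 4], [0, 2, 4]]

/-- layer -/
def sub3L3P0 : List (List ℕ) := [[0, 4], [0, 2], [1, 3, 4], [0, 1, 2, 4], [0, 1, 2, 3, 4], [0, 4], [2, 4], [0, 4], [2], [0, 1, 3, 4], [0, 1, 2, 3], [0, 3, 4], [0, 2, 4], [1], [2, 3, 4], [0, 2, 3], [0, 1, 2], [0, 1, 3], [0, 2, 4], [2], [], [4], [], [1], [2, 3, 4], [0, 1], [0, 4], [1, 2, 4], [2], [0], [0, 2, 3], [1], [], [1, 2], [0, 1], [3], [2, 3, 4], [0, 3], [], [], [4], [], [0, 1], [], [0], [0], [], [], [2], [2], [], [3], [1, 2], [2], [], [2], [], [0, 2, 4], [3],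 [], [4], [], [0, 2], [4], [], [2], [], []]

/-- layer -/
def sub3L4P0 : List (List ℕ) := [[], [2, 3], [4], [], [], [], [], [1, 2], [], [1], [4], [4], [], [], [], [], [0, 1, 2], [], [3], [], [], [], [], [], [], [], [], [], [], [], [], [], [], [], [3], [], [], [], [], [], [], [], [], [], [], [], [], [], [], [], [], [], [], [1], [], [], [], [], [], [], [], [], [], [], [], [], [], [], [], [], [], [], [], [], [], [], [], [], [], [], [], [], [], [], [], [], [], [], [], [], [], [], [], [], [], [], [], [], [], [], [], [], []]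

/-- layers -/
def sub3 : List (List (List ℕ)) := [sub3L0P0, sub3L1P0, sub3L2P0, sub3L3P0, sub3L4P0]

/-- layer -/
def full3L0P0 : List (List ℕ) := [[5]]

/-- layer -/
def full3L1P0 : List (List ℕ) := [[0, 1, 2, 3, 4, 5]]

/-- layer -/
def full3L2P0 : List (List ℕ) := [[0, 1, 2, 3, 4, 5], [0, 1, 2, 3, 4, 5], [0, 1, 3, 5], [0, 2, 3, 4, 5], [0, 1, 5], [0, 1, 2, 3, 4, 5]]

/-- layer -/
def full3L3P0 : List (List ℕ) := [[0, 1, 2, 3, 5], [0, 1, 2, 4, 5], [1, 2, 3, 4, 5], [0, 2, 4, 5], [1, 2, 3, 5], [0, 1, 2, 3, 4, 5], [0, 1, 2, 3, 4, 5], [0, 2, 3, 5], [0, 1, 2, 3, 4, 5], [1, 5], [1, 2, 3, 4, 5], [0, 1, 2, 3, 4, 5], [0, 1, 2, 3, 4], [0, 2, 3], [0, 2, 4], [0, 1, 4, 5], [1, 2, 3, 4, 5], [0, 1, 2, 5], [0, 2, 3, 5], [0, 2, 3, 5], [0, 1, 2, 3, 4, 5], [0, 1, 4, 5], [0, 2, 4, 5], [0, 1, 2, 3, 5], [0, 1, 2, 3, 4, 5], [0, 1, 2, 3, 4, 5], [0, 1, 2, 3, 4, 5], [0, 1, 2, 3, 4, 5], [0, 1, 2,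 3, 4, 5], [0, 4]]

/-- layer -/
def full3L4P0 : List (List ℕ) := [[0, 4, 5], [0, 2, 5], [1, 3, 4], [0, 1, 2, 4, 5], [0, 1, 2, 3, 4, 5], [0, 1, 2, 3, 4, 5], [0, 4, 5], [2, 4, 5], [2, 5], [1, 4, 5], [0, 1, 3, 4, 5], [0, 2, 5], [0, 3, 4, 5], [0, 2, 4], [0, 1, 2, 3, 4, 5], [1, 5], [2, 3, 4], [0, 3, 5], [5], [0, 2, 5], [0, 5], [0, 2, 4, 5], [1, 5], [0, 1, 2, 3, 4, 5], [1, 2, 3, 4, 5], [0, 1, 2], [2, 3, 5], [0, 1, 3, 5], [0, 1, 2, 3, 4, 5], [2, 5], [5], [4, 5], [5], [1, 5], [0, 1, 2, 3, 4, 5], [2, 3, 4], [0], [4, 5], [1, 2, 3, 4, 5], [1, 2, 4, 5], [2, 5], [0, 5], [2, 3, 5], [1, 5], [1, 2, 3, 4, 5], [5], [0, 1, 2, 3, 4, 5], [1, 2, 5], [0], [3, 5], [2, 3, 4, 5], [0, 1, 2, 3, 4, 5], [0, 1, 2, 3, 4, 5], [0, 1, 2, 3, 4, 5], [0, 1, 2, 3, 4, 5], [0, 1, 2, 3, 4, 5], [0, 1, 2, 3, 4, 5], [0, 2, 3, 4, 5], [0, 5], [5], [5], [4, 5], [5], [0, 1, 5], [5], [0], [0, 5], [5], [5], [2, 3, 5], [2,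 5], [5], [1, 2, 3, 4, 5], [2, 5], [], [5], [3, 5], [0, 1, 2, 3, 4, 5], [1, 2, 5], [], [5], [0, 1, 2, 4, 5], [2, 5], [5], [0, 2, 4], [0, 1, 2, 3, 4, 5], [5], [4], [5], [0, 1, 2, 3, 4, 5], [0, 1, 2, 3, 4], [0, 1, 3, 4, 5], [0, 1, 2, 3, 4, 5], [0, 1, 2, 3, 4], [0, 1, 2, 3, 4, 5], [0, 1, 2, 3, 4, 5], [2, 5], [4], [], [0, 3, 5], [2, 5], [5], [5], [5], [5], [5], [], [5], [0, 1, 2, 3, 4], [2, 3, 4, 5], [1, 3, 4, 5], [0, 1, 2, 3, 4], [0, 1, 2, 3, 4, 5], [0, 2, 4, 5], [1, 2, 3, 4, 5], [0, 1, 3, 5], [0, 1, 2, 3], [0, 1, 2, 3, 4, 5], [0, 1, 2, 4, 5], [0, 2, 3, 4, 5], [0, 1, 2, 3, 4], [0, 2, 3, 4, 5], [0, 1, 3, 4, 5], [0, 1, 2, 3, 4], [1, 2, 3, 5], [1, 2, 3, 4], [0, 1, 3, 5], [0, 1, 2, 3, 4, 5]]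

/-- layer -/
def full3L4P1 : List (List ℕ) := [[0, 1, 2, 3, 4], [0, 1, 2, 4, 5], [1, 2, 3, 4, 5], [0, 1, 2, 5], [0, 1, 2, 3, 4, 5], [0, 1, 3, 4, 5], [0, 2, 4], [0, 2, 3, 5], [0, 1, 2, 3, 4, 5], [0, 1, 4, 5], [0, 1, 2, 3, 4, 5], [0, 5], [3, 5]]

/-- layer -/
def full3L5P0 : List (List ℕ) := [[5], [2, 3, 5], [0, 1, 2, 3, 4], [5], [], [0, 1, 2, 3, 4, 5], [5], [5], [5], [1], [], [5], [4], [1, 2, 3, 4], [0, 1, 3, 5], [0, 1, 4, 5], [0, 1, 4, 5], [0, 1, 2, 3], [0, 1, 2, 4, 5], [0, 1, 2, 3, 4, 5], [], [5], [5], [5], [5], [0, 1, 2, 3, 4, 5], [1, 5], [5], [0, 5], [3, 5], [], [2, 3, 4, 5], [5], [0, 1, 4], [5], [], [0, 1, 2, 3, 4, 5], [5], [5], [5], [], [0, 2, 3, 4, 5], [], [5], [0, 1, 2, 3, 4], [5], [5], [5], [5], [], [5], [5], [0, 1, 2, 3, 5], [0, 1, 2, 3, 4, 5], [0, 4, 5], [1, 2, 3, 4], [0, 2, 3, 4], [0, 2, 3], [5], [0, 1, 2, 3], [5], [5], [], [], [], [0, 1, 2, 3, 4], [0, 1, 2, 4],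 [5], [5], [0, 1, 2, 3], [5], [0, 1, 2, 3, 4, 5], [5], [5], [5], [0, 1, 2, 3, 5], [5], [0, 2, 3, 4, 5], [2, 5], [2, 4, 5], [2, 3, 4, 5], [0, 4], [2, 3, 4], [1, 2, 4, 5], [1, 5], [3, 5], [3], [0, 5], [0, 1, 2, 4, 5], [0, 2, 5], [], [], [0, 4, 5], [3], [1, 2, 3, 4, 5], [0], [2], [0, 3, 5], [0, 1, 2, 3, 5], [0, 5], [0, 3], [1, 2, 3, 4], [3, 5], [1, 2, 3, 5], [0, 1, 2, 3], [1, 5], [1, 2, 4, 5], [0, 1, 2, 3, 4], [5], [], [0, 1, 2, 3, 4, 5], [], [0, 1, 5], [0, 1, 4, 5], [0, 1, 3, 4, 5], [1, 3, 5], [0, 1, 4], [0, 1, 2, 4, 5], [0, 2, 4], [5], [5], [], [5], [5], [0, 3, 4], [2, 5], [0, 1, 3, 4, 5], [0, 3]]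

/-- layer -/
def full3L5P1 : List (List ℕ) := [[1, 2, 3, 5], [2, 3, 4], [5], [5], [5], [1, 2, 3], [5], [1, 3, 5], [], [1, 2, 4], [], [], [1, 2, 3, 4, 5], [5], [0, 2, 3, 4, 5], [1, 4, 5], [0, 1, 3, 4, 5], [0, 2, 4, 5], [0, 1, 2, 3, 4, 5], [0, 1, 2, 3, 4], [0, 2, 3, 4, 5], [0, 2, 4], [3], [0], [2], [0, 1, 3], [3], [5], [], [1, 3, 4, 5], [5], [5], [3], [], [], [], [2, 4], [1, 3, 5], [1, 2, 3, 4, 5], [0, 1, 3, 4, 5], [0, 2, 3], [0, 2, 3, 5], [0, 1, 3, 4, 5], [0, 3, 4], [0, 3, 4, 5], [1, 2, 3], [1, 5], [0, 2, 3, 4, 5], [0, 1, 2, 3, 4], [2, 4, 5], [0, 2, 5], [0, 2, 3, 5], [2, 3, 4], [1, 4], [2, 3], [1, 3, 4, 5], [2, 3, 4, 5], [0, 1, 2, 3, 4], [0, 2, 3], [0, 2], [1, 2, 4, 5], [1, 2, 3, 4, 5], [0, 2], [0, 2], [0, 1, 2, 5], [2, 3, 5], [1, 2, 3, 4], [0, 1, 3, 4, 5], [1], [2, 3], [4, 5], [2, 3, 4], [0, 1, 2, 3, 5], [1, 4, 5], [0, 2, 3, 5], [2, 5], [0, 3, 4], [3], [], [1, 3, 4], [0,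 1, 5], [0, 2, 3, 4], [5], [2, 5], [], [5], [], [2], [0, 2, 3], [5], [], [], [0, 3, 4], [0, 2, 4, 5], [5], [], [2, 4], [5], [3, 5], [1, 2, 4], [0, 2, 4], [1, 3, 4, 5], [0, 2], [0, 1, 2, 3], [0, 1, 3, 4], [], [3, 4, 5], [0, 1, 2, 3, 4], [], [2, 3, 4, 5], [0, 1, 4], [0, 2, 3], [3, 4], [0, 1, 2, 3, 4, 5], [0, 1, 2, 5], [0, 1, 2, 3, 4], [], [5], [0, 1, 2], [0, 1, 3, 4], [0, 4, 5], [1, 2], [4], [0], [3, 5], [5], [5], [0, 3, 4, 5]]

/-- layer -/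
def full3L5P2 : List (List ℕ) := [[], [5], [5], [1, 3, 5], [1, 5], [0, 3], [0, 3, 4, 5], [5], [1, 2, 5], [0, 1, 4, 5], [], [0, 2, 3, 4], [1, 3], [4], [0, 3, 4, 5], [0, 1], [4], [0, 2, 3, 5], [0, 1, 2, 4], [4], [2, 4, 5], [0, 1], [1, 4, 5], [1, 3, 4], [0, 1, 2, 3], [2, 4, 5], [0, 1, 4, 5], [0], [3, 5], [0, 2, 3], [1, 3, 4], [0, 1, 3, 4], [3, 5], [0, 2, 3], [0, 2, 4], [1, 4], [1, 5], [1, 4, 5], [0, 1, 2, 5], [0, 1, 2, 3, 4, 5], [2, 3, 5], [2, 3, 4], [3], [0, 1, 3, 5], [1, 4, 5], [0, 1, 2, 3, 4, 5], [1], [1, 4, 5], [2, 3, 4, 5], [0, 3, 4], [1, 2], [], [2, 3, 4], [5], [1, 5], [2], [], [], [0, 2, 4], [0, 1, 4], [0, 4], [0, 3], [4], [2, 4], [0, 3], [0, 4, 5], [1, 2, 4], [0, 1], [1, 4], [1, 5], [0, 1, 4], [], [2], [1, 2, 3], [0, 2, 3], [0, 1, 4], [2, 5], [1, 3, 4], [0, 1, 3, 4, 5], [2, 3], [1, 3], [2, 4], [2, 3, 5], [4], [1, 2, 3], [0], [0, 4], [0, 2, 5], [0, 2, 4, 5], [1, 5], [0,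 1, 2, 5], [4], [0, 4, 5], [1, 2], [5], [0], [4], [2, 3], [2, 4], [0, 1, 4], [2, 3], [2], [0, 4, 5], [1, 2, 4, 5], [0, 2], [], [], [0], [1, 4], [0, 4], [5], [3], [], [0, 5], [1, 3], [4], [0, 5], [], [0, 1, 3, 5], [4], [0, 1, 2, 5], [4], [4], [1], [0, 2], [0, 4, 5], [0, 1, 2, 5], [5]]

/-- layer -/
def full3L5P3 : List (List ℕ) := [[3], [1, 2], [0, 3], [1, 3, 4], [5], [0], [0, 4], [3, 4], [0, 2, 4], [4], [3], [3], [1, 4], [5], [1, 3, 5], [4], [5], [2, 3], [], [0, 2, 4], [2], [1, 5], [1], [2, 3, 5], [5], [0, 1, 5], [], [], [2], [1, 2, 5], [], [], [], [0], [2, 3], [5], [], [2], [4, 5], [1, 3], [0], [0, 4], [1, 2], [2, 5], [0, 4, 5], [4, 5], [0], [4], [0, 1, 2, 5], [0, 3], [1, 5], [4, 5], [], [], [0, 4], [], [1], [1, 2, 5], [], [], [2], [0, 4], [], [5], [], [], [5], [1], [3, 5], [0, 4], [], [2], [1, 4, 5], [5], [0, 1, 4], [2], [2], [], [], [0, 1, 3, 5], [1, 2, 3], [2], [1], [3,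 4], [0, 2], [5], [], [], []]

/-- layer -/
def full3L6P0 : List (List ℕ) := [[1, 4], [], [], [0, 1], [1, 3], [2, 4, 5], [1, 5], [0, 3, 5], [0, 5], [0], [0, 5], [3, 4], [4], [], [3], [], [1], [0, 1, 3], [0, 1, 3], [], [0, 4, 5], [5], [], [], [5], [3], [1, 3], [2, 3], [], [4], [], [], [5], [0, 5], [], [], [0, 5], [0], [2], [1], [0, 5], [4], [], [2, 4], [], [1], [0, 5], [], [], [], [], [], [1, 4], [0], [1, 3, 4], [0, 1], [0, 3, 4, 5], [], [1, 3], [0], [1], [2], [2, 4], [5], [], [], [], [1], [5], [3], [5], [], [0, 4], [], [0, 1, 2, 4], [0, 5], [1, 3], [0, 2, 5], [4, 5], [2, 5], [1, 3], [4, 5], [2, 4], [], [1, 2], [], [0, 1, 4], [0, 4, 5], [1], [0], [1, 5], [2], [], [], [4, 5], [0, 5], [5], [2, 4], [2], [2, 3], [], [1, 2], [0], [], [4], [1], [], [3], [3], [], [1], [], [1], [2], [0, 1, 2], [5], [0, 3], [1], [], [], [], [4, 5], [2], [], [4], [], [0], [1]]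

/-- layer -/
def full3L6P1 : List (List ℕ) := [[3], [], [4], [], [0, 4], [3], [], [4], [], [0, 2], [], [], [0, 1, 2], [0, 3], [1, 2, 3, 5], [], [], [0], [2], [0, 2], [3], [], [5], [], [2, 3], [0, 2, 3], [3], [], [], [1, 2], [], [5], [0], [0], [], [1, 5], [], [2, 3], [0], [], [3, 4], [1], [], [], [], [], [], [2, 4], [], [4, 5], [2, 4], [4], [], [], [], [], [0], [2], [5], [1, 2, 4], [], [], [], [], [], [], [], [], [], [5], [], [5], [0, 5], [1], [], [], [], [5], [], [], [], [5], [], [], [], [], [], [], [], [], [], [2], [], [], [], [], [], [], [], [1], [], [], [], [1], [3, 5], [1, 3], [], [0], [], [2], [], [], [2], [2], [], [], [], [], [], [1], [4, 5], [], [4], [0], [], [], [4], [0]]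

/-- layer -/
def full3L6P2 : List (List ℕ) := [[2], [], [3, 5], [], [0, 2], [0, 1], [], [], [2], [1, 5], [2], [1], [0, 2, 4], [], [], [], [2], [], [], [], [], [0], [], [], [5], [], [], [2, 3], [], [0, 5], [4], [], [], [5], [], [], [], [], [], [3], [], [], [], [], [], [], [], [2], [], [0, 2], [], [], [], [], [], [2, 4], [0], [5], [], [], [], [1], [], [3], [], [], [], [5], [1], [], [0], [0, 3], [], [], [], [3], [], [], [2], [2], [], [], [], [], [], [5], [], [], [], [], [], [], [], [5], [], [], [], [1], [], [], [], [], [], [], [], [], [0], [1], [], [0], [4], [], [], [], [], [], [5], [], [], [], [], [], [], [0], [4], [], [], []]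

/-- layer -/
def full3L6P3 : List (List ℕ) := [[0], [], [], [4], [], [], [], [2, 4], [4], [], [], [], [], [], [], [5], [], [], [], [], [], [], [], [], [], [], [], [], [], [5], [], [], [], [], [], [], [], [0], [], [], [], [], [3], [], [], [3], [], [2], [], [], [], [0], [], [], [], [], [], [], [], [], [5], [], [], [], [], [], [], [], [], [], [], [], [], [], [], [], [], [], [], [3], [], [], [], [], [], [], [], [2], [], [], [], [], [], [], [], [], [], [], [], [], [], [], [], [], [], [], [], [], [], [], [], [5], [0], [], [], [5], [], [], [], [4], [3], [4], [], [2], [], [], [], []]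

/-- layer -/
def full3L6P4 : List (List ℕ) := [[], [], [2, 3], [], [4], [], [], [0, 2], [], [], [], [], [5], [], [], [], [], [1], [], [], [], [], [], [0, 4], [], [], [], [], [], [], [], [], [], [0], [], [], [], [], [], [], [0], [], [], [], [0], [0], [1], [], [], [], [], [], [], [5], [], [], [], [], [], [], [], [], [], [], [], [], [], [], [], [], [], [1, 3], [], [], [], [], [], [1], [], [], [], [], [0], [], [], [2], [], [5], [], [], [], [], [], [5], [], [], [], [], [], [], [], [], [], [], [], [], [], [], [], [], [], [], [], [], [], [], [], [], [], [], [], [], [], [], [], [], [], []]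

/-- layer -/
def full3L6P5 : List (List ℕ) := [[], [], [], [], [1], [], [], [], [], [], [], [], [], [], [], [], [2], [], [], [], [], [], [], [], [], [], [], [0], [], [], [], [], [], [], [], [], [], [], [], [], [], [], [], [], [], [], [], [], [], [], [], [], [], [], [], [], [], [], [], [], [], [], [], [], [], [], [], [], [], [], [], [], [], [], [], [], [], [], [], [], [], [], [], [], [], [], [], [0], [], [], [2], [], [], [], [], [], [], [], [], [], [], [], [], [], [], [], [], [], [], [], [], [], [], [], [5], [], [], [], [], [], [3], [], [], [], [], [], [], []]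

/-- layer -/
def full3L6P6 : List (List ℕ) := [[], [], [], [], [], [], [], [], [], [], [], [], [], [], [], [], [], [], [], [], [], [], [], [], [], [], [], [], [], [], [], [], [], [], [], [], [3], [0], [], [], [], [], [], [], [], [], [], [], [], [], [], [], [], [], [], [], [], [], [], [], [], [], [], [], [], [], [], [], [], [], [], [], [], [], [], [], [], [], [], [], [], [], [], [], [], [], [], [], [], [], [], [], [], [], [], [], [], [], [], [], [], [], [], [], [], [], [], [], [], [], [], [], [], [], [], [], [], [], [], [], [], [], [], [], [], [], [], []]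

/-- layer -/
def full3L6P7 : List (List ℕ) := [[], [], [], [], [], [], [], [], [], [], [], [], [], [], [], [], [], [], [], [], [], [], [], [], [], [], [], [], [], [], [], [], [], [], [], [], [], [], [], [], [], [], [], [], [], [], [], [], [], [], [], [], [], [], [], [], [], [], [], [], [], [], [], [], [], [], [], [], [], [], [], [], [], [], [], [], [], [], [], [], [], [], [], [], [], [], [], [], [], [], [], [], [], [], [], [], [], [], [], [], [], [], [], [], [], [], [], [], [], [], [], [], [], [], [], [], [], [], [], [], [], [], [], [], [], [], [], []]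

/-- layer -/
def full3L6P8 : List (List ℕ) := [[], [], [], [], [], [], [], [], [], [], [], [], []]

/-- layers -/
def full3 : List (List (List ℕ)) := [full3L0P0, full3L1P0, full3L2P0, full3L3P0, full3L4P0 ++ full3L4P1, full3L5P0 ++ full3L5P1 ++ full3L5P2 ++ full3L5P3, full3L6P0 ++ full3L6P1 ++ full3L6P2 ++ full3L6P3 ++ full3L6P4 ++ full3L6P5 ++ full3L6P6 ++ full3L6P7 ++ full3L6P8]

/-- generators of the stabiliser -/
def gens : List ℕ := [347414149861836537761795673043927105, 922254583372225831190977150042374209, 693434754101541130028730906774472705, 612007395996304567532188419935799328, 841686623318781015817208673968980002]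

/-- suborbits -/
def certs : List SubCert := [{ y := 11, r := 589657407083242197381696416356008963, sp := sub0, full := full0 }, { y := 25, r := 351375731528840046068244081674944643, sp := sub1, full := full1 }, { y := 56, r := 797020676622746613708599951483341988, sp := sub2, full := full2 }, { y := 152, r := 68003140595787502238628899035909348, sp := sub3, full := full3 }]

end Cfsg.Agent.M24.MaxTriad
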