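import Cfsg.Agent.M24.Canon

/-!
Transitivity of `Cfsg.M24` on dodecads and of octad and dodecad stabilisers on points.
-/

set_option autoImplicit false

namespace Cfsg.Agent.M24

open scoped Pointwise

/-- layer data -/
def dodTransL0P0 : List (List ℕ) := [[0, 1]]

/-- layer data -/
def dodTransL1P0 : List (List ℕ) := [[0, 1], [0, 1]]

/-- layer data -/
def dodTransL2P0 : List (List ℕ) := [[0, 1], [0, 1], [0, 1], [0, 1]]

/-- layer data -/
def dodTransL3P0 : List (List ℕ) := [[0, 1], [0, 1], [0, 1], [0, 1], [0, 1], [0, 1], [0, 1], [0, 1]]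

/-- layer data -/
def dodTransL4P0 : List (List ℕ) := [[0, 1], [0, 1], [0, 1], [0, 1], [0, 1], [0, 1], [0, 1], [0, 1], [0, 1], [0, 1], [0, 1], [0, 1], [0, 1], [0, 1], [0, 1], [0, 1]]

/-- layer data -/
def dodTransL5P0 : List (List ℕ) := [[0, 1], [0, 1], [0, 1], [0, 1], [0, 1], [0, 1], [0, 1], [0, 1], [0, 1], [0, 1], [0, 1], [0, 1], [0, 1], [0, 1], [0, 1], [0, 1], [0, 1], [0, 1], [0, 1], [0, 1], [0, 1], [0, 1], [0, 1], [0, 1], [0, 1], [0, 1], [0, 1], [1], [0, 1], [0, 1], [0], [0, 1]]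

/-- layer data -/
def dodTransL6P0 : List (List ℕ) := [[1], [0, 1], [0, 1], [0, 1], [0, 1], [0, 1], [0, 1], [0, 1], [0, 1], [0, 1], [0, 1], [0, 1], [0, 1], [0, 1], [0, 1], [0, 1], [0, 1], [0, 1], [0, 1], [0, 1], [0, 1], [0, 1], [0, 1], [0, 1], [0, 1], [0, 1], [0, 1], [0, 1], [0, 1], [0, 1], [0, 1], [0, 1], [0, 1], [1], [0, 1], [0, 1], [0, 1], [0, 1], [0, 1], [0, 1], [0, 1], [0, 1], [0, 1], [0], [0, 1], [0, 1], [1], [0, 1], [0, 1], [0, 1], [0, 1], [0, 1], [0, 1], [0, 1], [0, 1], [0, 1], [0], [1], [0, 1], [0, 1], [0, 1], [0, 1]]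

/-- layer data -/
def dodTransL7P0 : List (List ℕ) := [[0, 1], [0, 1], [0, 1], [0, 1], [0, 1], [0, 1], [0, 1], [0, 1], [0, 1], [0, 1], [0, 1], [0, 1], [0, 1], [0, 1], [0, 1], [0], [0], [0, 1], [0, 1], [0, 1], [0], [0, 1], [0, 1], [0, 1], [0, 1], [0, 1], [0, 1], [0], [0, 1], [0, 1], [0, 1], [0, 1], [0, 1], [0], [0, 1], [0], [0, 1], [0, 1], [0, 1], [0, 1], [0, 1], [1], [0, 1], [0, 1], [1], [0, 1], [0, 1], [0, 1], [0], [0, 1], [0, 1], [0, 1], [0, 1], [0, 1], [0, 1], [0, 1], [0, 1], [0, 1], [0, 1], [0], [0, 1], [0, 1], [0, 1], [0, 1], [0, 1], [0, 1], [1], [0, 1], [0, 1], [0, 1], [1], [0, 1], [0, 1], [0, 1], [0, 1], [0, 1], [0, 1], [0, 1], [0, 1], [0, 1], [0, 1], [0, 1], [0, 1], [0, 1], [0, 1], [0, 1], [0, 1], [0, 1], [0, 1], [0, 1], [0, 1], [0], [0, 1], [0, 1], [0], [0, 1], [0, 1], [0, 1], [0, 1], [0, 1], [0, 1], [0, 1], [0, 1], [0, 1], [0, 1], [0], [0, 1], [0, 1], [0, 1], [0, 1], [0, 1], [0, 1], [0, 1], [0, 1], [0, 1], [0, 1], [0, 1], [0, 1]]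

/-- layer data -/
def dodTransL8P0 : List (List ℕ) := [[0, 1], [0, 1], [0, 1], [1], [0, 1], [0, 1], [0, 1], [0, 1], [0, 1], [0, 1], [1], [0, 1], [1], [0, 1], [0, 1], [0, 1], [0, 1], [0, 1], [0, 1], [0, 1], [0, 1], [0, 1], [0, 1], [0, 1], [0], [0], [0, 1], [0, 1], [0, 1], [0, 1], [0], [0, 1], [0, 1], [0, 1], [0, 1], [0, 1], [0, 1], [0], [0, 1], [0, 1], [0, 1], [0, 1], [1], [0], [0, 1], [0, 1], [0, 1], [0, 1], [0, 1], [0, 1], [0, 1], [], [0], [1], [0, 1], [0, 1], [0], [0, 1], [0, 1], [0, 1], [0, 1], [1], [0, 1], [0, 1], [0, 1], [0, 1], [0, 1], [0, 1], [0, 1], [0, 1], [0, 1], [0, 1], [0, 1], [0, 1], [0, 1], [0, 1], [0, 1], [0, 1], [0, 1], [1], [0, 1], [0, 1], [0, 1], [0, 1], [0, 1], [0, 1], [0, 1], [0, 1], [0, 1], [0, 1], [0, 1], [0, 1], [0, 1], [0, 1], [0, 1], [1], [0, 1], [0, 1], [1], [1], [0], [0, 1], [1], [0, 1], [0], [0, 1], [0, 1], [0, 1], [0, 1], [0], [0, 1], [0, 1], [0], [0], [0, 1], [1], [0, 1], [1], [0, 1], [0, 1], [1], [0, 1], [1], [0,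 1], [0, 1], [0, 1], [0], [0, 1]]

/-- layer data -/
def dodTransL8P1 : List (List ℕ) := [[0, 1], [0, 1], [0, 1], [0, 1], [0, 1], [0, 1], [0, 1], [0, 1], [0, 1], [0, 1], [], [0, 1], [0, 1], [1], [0, 1], [0, 1], [0, 1], [0, 1], [0, 1], [0], [0, 1], [0, 1], [0, 1], [0, 1], [1], [0, 1], [0, 1], [0, 1], [0, 1], [0, 1], [0, 1], [0], [0, 1], [], [1], [0, 1], [0, 1], [0, 1], [1], [1], [0, 1], [0, 1], [0], [0, 1], [0, 1], [], [0, 1], [0, 1], [0, 1], [0, 1], [], [0, 1], [0, 1], [0, 1], [0, 1], [0, 1], [0, 1], [0, 1], [0], [1], [0], [0, 1], [0, 1], [0, 1], [0], [0, 1], [0, 1], [0, 1], [0], [0], [0, 1], [0], [0, 1], [0], [0, 1], [1], [0, 1], [0, 1], [0, 1], [0, 1], [0, 1], [0, 1], [1], [0, 1], [0, 1], [0, 1], [0, 1], [1], [0, 1], [0], [0, 1], [0], [0, 1]]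

/-- layer data -/
def dodTransL9P0 : List (List ℕ) := [[1], [0, 1], [0, 1], [0], [], [0, 1], [0, 1], [0, 1], [0, 1], [0, 1], [1], [0, 1], [0, 1], [0, 1], [0, 1], [0, 1], [1], [0, 1], [0, 1], [1], [0, 1], [1], [0, 1], [0, 1], [0, 1], [0, 1], [0, 1], [0, 1], [0], [0, 1], [0, 1], [0, 1], [0, 1], [1], [0], [0, 1], [0, 1], [0, 1], [0, 1], [0, 1], [0, 1], [], [0, 1], [0, 1], [0, 1], [1], [1], [0, 1], [0, 1], [], [0, 1], [0], [1], [0], [0, 1], [1], [0], [], [0, 1], [0, 1], [0], [0, 1], [0, 1], [0, 1], [0], [0, 1], [0], [0], [0, 1], [1], [], [0, 1], [0, 1], [], [0, 1], [1], [0, 1], [0, 1], [0, 1], [0, 1], [0, 1], [1], [0, 1], [0, 1], [0, 1], [0, 1], [0, 1], [0, 1], [0, 1], [1], [], [0, 1], [1], [0, 1], [0, 1], [0, 1], [0, 1], [0, 1], [0, 1], [0], [1], [1], [0], [0, 1], [0], [0, 1], [0], [0], [1], [0], [0, 1], [0, 1], [0, 1], [0, 1], [0, 1], [0, 1], [0, 1], [0, 1], [0, 1], [1], [0, 1], [0], [0, 1], [0, 1], [0, 1], [0, 1], [0], [0, 1]]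

/-- layer data -/
def dodTransL9P1 : List (List ℕ) := [[0, 1], [0], [0, 1], [0, 1], [0], [], [0], [0, 1], [0, 1], [0], [], [], [1], [0, 1], [0, 1], [0, 1], [1], [], [], [0, 1], [0, 1], [0, 1], [0], [0, 1], [0, 1], [0, 1], [0, 1], [0, 1], [0, 1], [0, 1], [0, 1], [0, 1], [0, 1], [0, 1], [0, 1], [0, 1], [0, 1], [0, 1], [0, 1], [0, 1], [0, 1], [0, 1], [0, 1], [0], [0], [], [0], [0], [0, 1], [0, 1], [0, 1], [0, 1], [0, 1], [0, 1], [], [0, 1], [0, 1], [0, 1], [1], [0, 1], [0, 1], [0, 1], [], [1], [0, 1], [0, 1], [1], [0, 1], [0], [0, 1], [0, 1], [0, 1], [0, 1], [0, 1], [0], [0], [0, 1], [0, 1], [0, 1], [0, 1], [0, 1], [0, 1], [0, 1], [1], [0, 1], [0, 1], [], [0, 1], [0, 1], [], [0, 1], [0, 1], [0], [1], [0], [], [1], [0], [1], [0, 1], [0], [0, 1], [0], [0], [0], [0, 1], [1], [1], [0], [0], [], [0], [0, 1], [0, 1], [0], [1], [0], [0], [], [0], [0, 1], [], [1], [0, 1], [0, 1], [0, 1], [], [0]]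

/-- layer data -/
def dodTransL9P2 : List (List ℕ) := [[0], [0, 1], [0, 1], [0], [1], [0], [0, 1], [0, 1], [0, 1], [0, 1], [0, 1], [0], [0, 1], [1], [1], [0, 1], [1], [0, 1], [0, 1], [1], [0, 1], [0], [0, 1], [0, 1], [0], [0, 1], [0], [0, 1], [1], [1], [0], [0, 1], [0, 1], [0], [0], [0, 1], [0, 1], [0, 1], [0, 1], [1], [1], [0, 1], [0, 1], [], [0, 1], [], [0, 1], [0, 1], [0], [0, 1], [0], [0, 1], [1], [0, 1], [1], [0, 1], [0], [0], [0, 1], [0, 1], [1], [1], [1], [0, 1], [0, 1], [0], [0, 1], [], [0, 1], [0, 1], [1], [0, 1], [0, 1], [0, 1], [0, 1], [0, 1], [], [], [1], [0, 1], [0, 1], [1], [0], [0, 1], [0, 1], [0, 1], [0, 1], [0, 1], [0, 1], [], [1], [0, 1], [0, 1], [0], [0, 1], [0, 1], [0], [0, 1], [0, 1], [0], [0, 1], [1], [0, 1], [0, 1], [0, 1], [0, 1], [0], [0], [0, 1], [0, 1], [0, 1], [1], [0, 1], [0, 1], [1], [1], [0, 1], [], [0, 1], [0, 1], [1], [], [1], [0, 1], [0, 1], [], [0, 1]]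

/-- layer data -/
def dodTransL10P0 : List (List ℕ) := [[1], [0, 1], [0, 1], [0, 1], [0], [0], [0, 1], [1], [0, 1], [0], [0, 1], [0], [], [1], [0], [0, 1], [1], [1], [1], [0], [0, 1], [1], [0], [], [0], [0, 1], [1], [0], [], [0, 1], [1], [0], [0, 1], [0], [0, 1], [0, 1], [0, 1], [1], [], [0], [1], [0, 1], [1], [], [0, 1], [0, 1], [0], [0], [1], [0, 1], [1], [0, 1], [], [1], [0], [1], [0, 1], [0], [0], [1], [0, 1], [1], [0], [0], [], [0, 1], [0], [0], [0, 1], [1], [], [0], [0, 1], [0, 1], [0, 1], [0], [1], [0, 1], [1], [0, 1], [0], [], [0], [1], [1], [1], [0], [1], [1], [], [0, 1], [], [0], [0, 1], [0], [0], [0], [0], [0, 1], [], [0, 1], [], [0], [0, 1], [0, 1], [0, 1], [0, 1], [0, 1], [], [], [0, 1], [0, 1], [1], [], [0, 1], [], [0], [0, 1], [], [0, 1], [0, 1], [], [0, 1], [0, 1], [], [0, 1], [], [1]]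

/-- layer data -/
def dodTransL10P1 : List (List ℕ) := [[0, 1], [1], [0, 1], [0, 1], [0, 1], [0, 1], [1], [0], [0, 1], [0, 1], [1], [0, 1], [1], [1], [], [0, 1], [0, 1], [0, 1], [0, 1], [1], [1], [0], [0, 1], [0, 1], [], [1], [], [0, 1], [0, 1], [0], [0, 1], [0], [], [1], [0, 1], [1], [1], [], [0, 1], [0, 1], [0, 1], [0, 1], [0, 1], [0, 1], [0, 1], [0], [0, 1], [0], [0, 1], [0, 1], [0, 1], [0], [1], [], [], [], [1], [], [0, 1], [0, 1], [1], [0], [1], [1], [0], [1], [1], [0, 1], [0, 1], [0], [1], [0, 1], [0, 1], [0, 1], [1], [], [1], [0, 1], [0], [1], [1], [], [0], [0, 1], [0, 1], [], [], [0], [1], [1], [0, 1], [0], [0], [1], [0], [0, 1], [], [0], [0], [0], [1], [0, 1], [1], [1], [1], [], [0, 1], [0], [1], [0], [0], [0, 1], [0, 1], [1], [0], [1], [0, 1], [0], [0, 1], [0, 1], [1], [1], [1], [1], [1], [], [], []]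

/-- layer data -/
def dodTransL10P2 : List (List ℕ) := [[0, 1], [0, 1], [1], [], [1], [1], [1], [0, 1], [], [], [1], [0], [0], [0, 1], [], [0], [0], [1], [1], [0], [0], [1], [0, 1], [1], [1], [], [], [1], [0, 1], [0, 1], [1], [1], [], [0, 1], [0, 1], [1], [0], [0], [1], [], [0, 1], [0, 1], [0, 1], [1], [0, 1], [0, 1], [0], [0, 1], [1], [], [], [0, 1], [1], [1], [0], [0, 1], [], [0], [], [1], [], [0], [0], [1], [], [1], [0], [0, 1], [0, 1], [0, 1], [0, 1], [0, 1], [1], [0, 1], [1], [0], [1], [0, 1], [0], [0, 1], [], [0, 1], [1], [0, 1], [0, 1], [0, 1], [], [0, 1], [1], [0], [0], [0], [1], [1], [0, 1], [1], [1], [], [1], [0, 1], [0, 1], [1], [1], [], [0], [0, 1], [1], [0], [], [0], [0], [], [0], [0, 1], [0, 1], [], [1], [0], [1], [1], [0], [0], [], [0, 1], [0, 1], [0, 1], [], []]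

/-- layer data -/
def dodTransL10P3 : List (List ℕ) := [[1], [1], [0, 1], [0, 1], [1], [0, 1], [1], [1], [1], [0, 1], [0], [1], [0, 1], [], [0, 1], [1], [1], [0, 1], [], [], [1], [0], [1], [0, 1], [1], [0], [0, 1], [0, 1], [1], [0], [0, 1], [1], [0], [], [], [0], [0], [], [], [0, 1], [1], [0, 1], [], [0], [0], [0], [1], [0], [0], [0, 1], [0, 1], [0], [], [], [1], [0], [1], [0], [1], [1], [0, 1], [0, 1], [0], [], [0], [0], [0, 1], [0, 1], [1], [0], [], [0], [0], [1], [1], [0], [0, 1], [1], [], [1], [0], [], [0], [0, 1], [0], [0, 1], [], [0], [1], [], [0, 1], [0, 1], [], [0, 1], [], [0, 1], [1], [1], [1], [1], [0, 1], [1], [], [1], [0], [], [0], [0], [0], [0], [], [0], [0], [1], [], [0], [0], [0, 1], [], [0], [], [1], [0], [], [], [1], [0, 1], [0, 1]]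

/-- layer data -/
def dodTransL10P4 : List (List ℕ) := [[0], [1], [1], [1], [0], [0, 1], [0], [0, 1], [], [1], [0], [0], [1], [], [], [0, 1], [1], [1], [], [0, 1], [], [], [1], [1], [1], [0], [0], [1], [0, 1], [0], [0], [0], [0, 1], [0], [0, 1], [0], [1], [0, 1], [], [1], [1], [0, 1], [], [], [1], [0], [], [0], [], [], [], [0], [], [], [], [1], [], [0], [], [], [], [1], [1], [1], [0], [1], [0, 1], [1], [0], []]

/-- layer data -/
def dodTransL11P0 : List (List ℕ) := [[0], [0, 1], [0], [0], [0], [0, 1], [1], [], [], [], [0, 1], [], [0], [0, 1], [0], [0], [0, 1], [0], [0, 1], [1], [0], [1], [], [], [1], [0], [1], [0], [], [], [], [0], [], [], [1], [0, 1], [1], [1], [0], [0], [0, 1], [], [], [], [0, 1], [], [0], [0], [0, 1], [], [0, 1], [], [], [0, 1], [0, 1], [], [1], [], [0], [], [0, 1], [], [0], [], [1], [1], [0], [], [1], [1], [0], [], [1], [1], [], [0, 1], [0], [0], [0], [0], [], [1], [0, 1], [1], [0], [], [1], [1], [0], [], [0, 1], [0], [],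 [0], [1], [0, 1], [], [1], [0], [0], [1], [0, 1], [1], [0], [0, 1], [1], [], [1], [1], [1], [1], [0], [1], [], [0], [], [], [1], [], [], [1], [1], [1], [0], [], [], [], []]

/-- layer data -/
def dodTransL11P1 : List (List ℕ) := [[], [], [0, 1], [0, 1], [1], [1], [], [], [], [0], [], [0, 1], [0], [0, 1], [], [0], [0, 1], [], [1], [1], [1], [], [], [], [0, 1], [], [0, 1], [0], [], [], [], [], [0, 1], [1], [0, 1], [], [], [], [], [0], [0], [1], [0], [], [], [0, 1], [0], [], [], [1], [1], [0], [0, 1], [0], [0], [1], [0], [1], [0], [0], [1], [0], [1], [1], [], [0, 1], [], [0], [0], [1], [], [0, 1], [1], [0], [1], [0, 1], [1], [0], [0], [], [], [], [1], [0, 1], [1], [0, 1], [0, 1], [0, 1], [1], [0, 1], [], [], [0, 1], [1], [1], [0, 1], [0, 1], [1], [], [], [], [], [1], [0, 1], [], [0, 1], [0], [0], [0, 1], [], [0, 1], [], [], [], [], [], [1], [0], [1], [], [0, 1], [0], [0, 1], [], [1], [0], [], [0, 1]]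

/-- layer data -/
def dodTransL11P2 : List (List ℕ) := [[0], [], [0], [0], [1], [], [], [0], [1], [], [], [], [], [0, 1], [], [0], [], [0, 1], [], [], [], [], [0, 1], [], [], [], [], [0, 1], [], [0], [], [1], [], [], [], [], [0, 1], [0], [1], [0], [0, 1], [], [1], [], [], [], [0], [], [0], [], [], [], [], [1], [0], [0], [1], [0], [], [], [], [0, 1], [0], [], [0], [], [0], [], [0], [], [], [], [1], [], [], [], [1], [1], [0, 1], [0], [], [], [], [0], [], [0], [0], [1], [1], [0], [1], [], [1], [0], [], [], [1], [0, 1], [0], [0], [], [0], [1], [], [1], [1], [], [0], [1], [0], [], [1], [], [], [], [1], [1], [0], [], [0], [], [], [1], [], [0, 1], [1], [0], [1]]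

/-- layer data -/
def dodTransL11P3 : List (List ℕ) := [[0, 1], [1], [0, 1], [1], [], [], [], [0], [0, 1], [], [0, 1], [0], [], [1], [1], [], [], [0, 1], [], [], [], [], [0, 1], [0, 1], [], [], [0], [], [], [], [], [0, 1], [], [1], [], [0], [0, 1], [1], [], [], [], [], [], [], [0], [], [1], [0], [1], [0], [0], [0], [0], [1], [0, 1], [1], [], [], [1], [1], [1], [], [1], [], [1], [], [], [], [], [1], [], [], [1], [], [], [], [1], [0], [1], [], [], [], [], [], [], [], [], [0], [], [], [], [0, 1], [0], [], [], [], [], [], [], [0], [], [], [], [1], [], [], [], [], [1], [], [0, 1], [0], [1], [], [], [0], [], [], [1], [], [0, 1], [0, 1], [0], [1], [0, 1], [0], [1], [0]]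

/-- layer data -/
def dodTransL11P4 : List (List ℕ) := [[], [], [0], [], [], [], [], [], [], [0], [0], [], [], [], [], [], [], [0], [1], [], [1], [], [], [], [], [1], [], [], [], [0, 1], [0], [0], [], [], [0], [], [1], [0], [], [0], [0], [], [], [], [0], [], [], [1], [], [], [0], [0], [1], [], [], [], [], [], [1], [0, 1], [], [], [], [], [], [], [1], [], [], [], [], [1], [0], [0], [1], [], [1], [], [], [], [], [], [], [], [0], [], [], [0], [], [], [], [0], [], [1], [], [], [1], [], [1], [], [], [0], [], [0], [1], [], [], [], [1], [], [0], [], [], [], [], [0], [], [], [0], [], [], [], [0], [], [1], [0], [0], [0]]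

/-- layer data -/
def dodTransL11P5 : List (List ℕ) := [[], [], [], [1], []]

/-- layer data -/
def dodTransL12P0 : List (List ℕ) := [[1], [0], [], [], [], [], [0], [0], [], [0], [0], [], [], [], [], [1], [0, 1], [], [], [], [], [], [], [], [0], [], [], [1], [], [], [], [], [], [], [], [1], [], [0], [0], [], [], [], [0], [], [1], [0], [], [], [], [], [1], [], [], [], [], [], [], [], [], [], [], [], [], [], [], [1], [], [], [], [], [], [], [0], [], [], [], [], [], [1], [0], [0], [1], [0], [], [], [1], [1], [], [], [], [], [], [0], [], [0], [], [0], [0], [], [1], [], [0], [], [], [], [], [], [], [1], [], [], [], [1], [], [], [1], [], [], [], [], [], [], [0], [0], [0], [], [0], [0]]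

/-- layer data -/
def dodTransL12P1 : List (List ℕ) := [[], [], [], [], [0, 1], [], [], [], [], [], [], [0], [0], [], [], [], [], [], [], [], [], [], [], [], [], [0], [], [], [], [1], [], [], [], [], [], [], [0], [], [], [0], [], [], [0], [1], [], [], [], [], [], [], [], [0], [], [], [0], [], [], [], [], [], [0], [], [], [], [], [], [], [], [], [], [], [], [], [], [], [], [1], [1], [], [], [1], [], [], [], [], [], [], [], [1], [], [1], [], [], [], [], [0], [], [], [0], [0, 1], [], [], [], [], [], [1], [], [0], [], [], [], [1], [], [], [], [], [], [], [], [], [], [], [], [], [], [], [], []]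

/-- layer data -/
def dodTransL12P2 : List (List ℕ) := [[], [0], [], [], [], [0], [0], [], [], [], [], [0], [], [], [0], [], [], [], [], [0], [], [], [], [], [], [], [], [0], [], [], [], [], [], [], [1], [], [], [], [], [0], [], [], [], [], [], [], [], [], [1], [], [], [], [], [], [], [], [], [], [], [1], [1], [], [], [], [1], [], [], [], [], [], [], [], [], [], [], [], [], [], [], [], [], [], [], [], [], [], [], [], [], [], [], [], [], [], [1], [], [0], [], [], [], [], [], [], [], [], [], [], [], [], [], [], [], [], [], [], [], [], [], [], [], [], [], [], [], [], [], [], []]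

/-- layer data -/
def dodTransL12P3 : List (List ℕ) := [[], [], [], [1], [], [], [], [], [], [], [], [], [], [], [], [], [], [], [], [], [], [], [], [], [], [], [], [], [], [], [], [], []]

/-- layer data -/
def dodTransL13P0 : List (List ℕ) := [[], [], [], [], [], [], [], [], [], [], [], [], [], [], [0], [], [], [], [], [], [], [], [], [], [], [0], [], [], [], [], [], [], [], [], [], [], [], [], [], [], [], [], [], [], [], [], [], [], [], [], [], [], [], [], [], [], [], [], [], [], [], [], [], [], [], [], [], [0], [], [], [], [], [], [], [], [], [], [], [], [], [], []]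

/-- An orbit certificate. -/
def dodTrans : Cfsg.Agent.M24.Cert where
  fx := []
  gens := [308579130490773814712465233662978149, 934745890964168542495534795369519490]
  x0 := 340831
  sp := [dodTransL0P0, dodTransL1P0, dodTransL2P0, dodTransL3P0, dodTransL4P0, dodTransL5P0, dodTransL6P0, dodTransL7P0, dodTransL8P0 ++ dodTransL8P1, dodTransL9P0 ++ dodTransL9P1 ++ dodTransL9P2, dodTransL10P0 ++ dodTransL10P1 ++ dodTransL10P2 ++ dodTransL10P3 ++ dodTransL10P4, dodTransL11P0 ++ dodTransL11P1 ++ dodTransL11P2 ++ dodTransL11P3 ++ dodTransL11P4 ++ dodTransL11P5, dodTransL12P0 ++ dodTransL12P1 ++ dodTransL12P2 ++ dodTransL12P3, dodTransL13P0]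

/-- layer data -/
def octInL0P0 : List (List ℕ) := [[0, 1, 2]]

/-- layer data -/
def octInL1P0 : List (List ℕ) := [[1], [1, 2], []]

/-- layer data -/
def octInL2P0 : List (List ℕ) := [[0], [], []]

/-- An orbit certificate. -/
def octIn : Cfsg.Agent.M24.Cert where
  fx := [5279]
  gens := [813188657873780865613354720972253219, 839455041894986219762852759760866375, 776468145241182005402746936340094028]
  x0 := 1
  sp := [octInL0P0, octInL1P0, octInL2P0]

/-- layer data -/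
def octOutL0P0 : List (List ℕ) := [[0, 1, 2]]

/-- layer data -/
def octOutL1P0 : List (List ℕ) := [[0, 2], [1, 2], [0, 2]]

/-- layer data -/
def octOutL2P0 : List (List ℕ) := [[0], [0, 1], [2], [1, 2], [], []]

/-- An orbit certificate. -/
def octOut : Cfsg.Agent.M24.Cert where
  fx := [5279]
  gens := [234111918219196288203094230699321408, 806862761991683037700838975990794561, 478388141947729137614790994345132266]
  x0 := 32
  sp := [octOutL0P0, octOutL1P0, octOutL2P0]

/-- layer data -/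
def dodInL0P0 : List (List ℕ) := [[0, 1]]

/-- layer data -/
def dodInL1P0 : List (List ℕ) := [[0, 1], [0, 1]]

/-- layer data -/
def dodInL2P0 : List (List ℕ) := [[0], [1], [], [1]]

/-- layer data -/
def dodInL3P0 : List (List ℕ) := [[0], [0], []]

/-- An orbit certificate. -/
def dodIn : Cfsg.Agent.M24.Cert where
  fx := [340831]
  gens := [630161215754221269831604352771719553, 725841129012414295150332945782375693]
  x0 := 1
  sp := [dodInL0P0, dodInL1P0, dodInL2P0, dodInL3P0]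

/-- layer data -/
def dodOutL0P0 : List (List ℕ) := [[0, 1]]

/-- layer data -/
def dodOutL1P0 : List (List ℕ) := [[1], [0, 1]]

/-- layer data -/
def dodOutL2P0 : List (List ℕ) := [[1], [1], [0, 1]]

/-- layer data -/
def dodOutL3P0 : List (List ℕ) := [[], [], [], [0]]

/-- layer data -/
def dodOutL4P0 : List (List ℕ) := [[1]]

/-- An orbit certificate. -/
def dodOut : Cfsg.Agent.M24.Cert where
  fx := [340831]
  gens := [840079148271783363496307052922706226, 470529366310070290755904064117441545]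
  x0 := 32
  sp := [dodOutL0P0, dodOutL1P0, dodOutL2P0, dodOutL3P0, dodOutL4P0]

/-- The dodecad of squares. -/
def dod0 : ℕ := 340831

theorem dod0_mem : toSet dod0 ∈ dodecads := by
  rw [mem_dodecads_iff, toMask_toSet (by decide +kernel)]; decide +kernel

theorem dodTrans_ok : keyCheck [] dodL (fun _ => 0) [(0, dodTrans)] = true := by decide +kernel

theorem exists_map_dodecad {d : Finset GolayPt} (hd : d ∈ dodecads) :
    ∃ g ∈ M24, g • toSet dod0 = d := by
  obtain ⟨m, hm, rfl⟩ := mem_dodecads_list.1 hd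
  have h0 : dod0 ∈ dodL := by decide +kernel
  obtain ⟨g, hg, e⟩ := map_of_keyCheck dodTrans_ok h0 hm rfl
  exact ⟨g, hg.1, e⟩

theorem octIn_ok : listCheck [1, 2, 4, 8, 16, 128, 1024, 4096] octIn = true := by decide +kernel
theorem octOut_ok : listCheck [32, 64, 256, 512, 2048, 8192, 16384, 32768, 65536, 131072, 262144, 524288, 1048576, 2097152, 4194304, 8388608] octOut = true := by decide +kernel
theorem dodIn_ok : listCheck [1, 2, 4, 8, 16, 64, 256, 512, 4096, 8192, 65536, 262144] dodIn = true := by decide +kernel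
theorem dodOut_ok : listCheck [32, 128, 1024, 2048, 16384, 32768, 131072, 524288, 1048576, 2097152, 4194304, 8388608] dodOut = true := by decide +kernel

theorem exists_map_octad_pt_mem {o : Finset GolayPt} (ho : o ∈ octads) {x : GolayPt} (hx : x ∈ o) :
    ∃ g ∈ M24, g • toSet oct0 = o ∧ g (pt 0) = x := by
  obtain ⟨g, hg, rfl⟩ := exists_map_octad ho
  obtain ⟨i, hi, rfl⟩ := exists_pt g x
  have key : ∀ i < 24, oct0.testBit i = true → 2 ^ i ∈ [1, 2, 4, 8, 16, 128, 1024, 4096] := by decide +kernel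
  obtain ⟨h, hh, e⟩ := map_point octIn_ok (by norm_num) hi (key 0 (by norm_num) (by decide +kernel))
    (key i hi ((mem_smul_toSet g hi _).1 hx))
  refine ⟨g * h, M24.mul_mem hg hh.1, ?_, by simp [e]⟩
  rw [mul_smul, hh.2 oct0 (by decide +kernel)]

theorem exists_map_octad_pt_not_mem {o : Finset GolayPt} (ho : o ∈ octads) {x : GolayPt} (hx : x ∉ o) :
    ∃ g ∈ M24, g • toSet oct0 = o ∧ g (pt 5) = x := by
  obtain ⟨g, hg, rfl⟩ := exists_map_octad ho
  obtain ⟨i, hi, rfl⟩ := exists_pt g x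
  have key : ∀ i < 24, oct0.testBit i = false → 2 ^ i ∈ [32, 64, 256, 512, 2048, 8192, 16384, 32768, 65536, 131072, 262144, 524288, 1048576, 2097152, 4194304, 8388608] := by decide +kernel
  rw [mem_smul_toSet g hi, Bool.not_eq_true] at hx
  obtain ⟨h, hh, e⟩ := map_point octOut_ok (by norm_num) hi (key 5 (by norm_num) (by decide +kernel))
    (key i hi hx)
  refine ⟨g * h, M24.mul_mem hg hh.1, ?_, by simp [e]⟩
  rw [mul_smul, hh.2 oct0 (by decide +kernel)]

theorem exists_map_dodecad_pt_mem {d : Finset GolayPt} (hd : d ∈ dodecads) {x : GolayPt} (hx : x ∈ d) :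
    ∃ g ∈ M24, g • toSet dod0 = d ∧ g (pt 0) = x := by
  obtain ⟨g, hg, rfl⟩ := exists_map_dodecad hd
  obtain ⟨i, hi, rfl⟩ := exists_pt g x
  have key : ∀ i < 24, dod0.testBit i = true → 2 ^ i ∈ [1, 2, 4, 8, 16, 64, 256, 512, 4096, 8192, 65536, 262144] := by decide +kernel
  obtain ⟨h, hh, e⟩ := map_point dodIn_ok (by norm_num) hi (key 0 (by norm_num) (by decide +kernel))
    (key i hi ((mem_smul_toSet g hi _).1 hx))
  refine ⟨g * h, M24.mul_mem hg hh.1, ?_, by simp [e]⟩
  rw [mul_smul, hh.2 dod0 (by decide +kernel)]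

theorem exists_map_dodecad_pt_not_mem {d : Finset GolayPt} (hd : d ∈ dodecads) {x : GolayPt}
    (hx : x ∉ d) : ∃ g ∈ M24, g • toSet dod0 = d ∧ g (pt 5) = x := by
  obtain ⟨g, hg, rfl⟩ := exists_map_dodecad hd
  obtain ⟨i, hi, rfl⟩ := exists_pt g x
  have key : ∀ i < 24, dod0.testBit i = false → 2 ^ i ∈ [32, 128, 1024, 2048, 16384, 32768, 131072, 524288, 1048576, 2097152, 4194304, 8388608] := by decide +kernel
  rw [mem_smul_toSet g hi, Bool.not_eq_true] at hx
  obtain ⟨h, hh, e⟩ := map_point dodOut_ok (by norm_num) hi (key 5 (by norm_num) (by decide +kernel))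
    (key i hi hx)
  refine ⟨g * h, M24.mul_mem hg hh.1, ?_, by simp [e]⟩
  rw [mul_smul, hh.2 dod0 (by decide +kernel)]

end Cfsg.Agent.M24
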