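import Cfsg.Agent.M24.Canon
import Cfsg.Agent.M24.Trans

/-!
Dodecads meeting an octad in six points.
-/

set_option autoImplicit false

namespace Cfsg.Agent.M24

/-- layer data -/
def octDodL0P0 : List (List ℕ) := [[0, 1]]

/-- layer data -/
def octDodL1P0 : List (List ℕ) := [[0, 1], [0, 1]]

/-- layer data -/
def octDodL2P0 : List (List ℕ) := [[0, 1], [0, 1], [0, 1], [0, 1]]

/-- layer data -/
def octDodL3P0 : List (List ℕ) := [[0, 1], [1], [0, 1], [0], [0, 1], [0, 1], [0, 1], [0, 1]]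

/-- layer data -/
def octDodL4P0 : List (List ℕ) := [[0, 1], [0, 1], [0, 1], [0, 1], [0, 1], [0, 1], [0, 1], [0, 1], [0, 1], [0, 1], [0, 1], [0, 1], [0, 1], [0, 1]]

/-- layer data -/
def octDodL5P0 : List (List ℕ) := [[1], [0, 1], [0, 1], [0], [0, 1], [0, 1], [0, 1], [0], [0, 1], [0, 1], [0, 1], [0, 1], [0, 1], [0, 1], [0, 1], [0, 1], [0, 1], [0, 1], [0, 1], [1], [0, 1], [0, 1], [0], [1], [0, 1], [0, 1], [0, 1], [0]]

/-- layer data -/
def octDodL6P0 : List (List ℕ) := [[0, 1], [1], [0], [0, 1], [1], [0, 1], [0, 1], [0, 1], [0], [0, 1], [0], [0, 1], [0, 1], [0, 1], [0, 1], [0, 1], [0, 1], [0], [0], [1], [0, 1], [0, 1], [0, 1], [1], [0, 1], [0, 1], [0, 1], [0, 1], [0], [0, 1], [0, 1], [0, 1], [0, 1], [0], [0, 1], [1], [0], [0, 1], [0], [0, 1], [0, 1], [1], [0, 1], [0, 1], [1], [0, 1], [0], [0, 1], [0]]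

/-- layer data -/
def octDodL7P0 : List (List ℕ) := [[0, 1], [0, 1], [0, 1], [0, 1], [0, 1], [], [0], [0, 1], [0], [1], [0, 1], [0], [0, 1], [1], [0], [0], [1], [0, 1], [0, 1], [1], [0, 1], [1], [], [0, 1], [0], [0, 1], [0, 1], [0, 1], [0, 1], [1], [0, 1], [0, 1], [0, 1], [0, 1], [], [0, 1], [0, 1], [1], [1], [0], [0, 1], [0], [1], [1], [0], [0, 1], [0, 1], [0], [0, 1], [1], [1], [0], [0, 1], [0, 1], [0, 1], [1], [0, 1], [], [0], [0], [0], [0, 1], [], [0, 1], [0, 1], [0, 1], [1], [1], [0], [0], [0], [1], [0], [], [0], [0], [1], [0], [0], []]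

/-- layer data -/
def octDodL8P0 : List (List ℕ) := [[], [0, 1], [1], [0, 1], [1], [0, 1], [0, 1], [1], [], [1], [0, 1], [0], [0], [0, 1], [1], [], [1], [], [0, 1], [0], [0, 1], [1], [0, 1], [0], [], [1], [], [0, 1], [1], [1], [0], [1], [0], [0, 1], [0], [0], [1], [1], [1], [1], [1], [0], [0], [0, 1], [], [0], [1], [], [0], [0], [1], [1], [], [0], [0], [0, 1], [], [1], [1], [], [], [1], [], [0, 1], [0], [1], [0, 1], [1], [], [0, 1], [], [], [0], [], [], [0], [0], [0], [0, 1], [], [0, 1], [0, 1], [], [0, 1], [0], [], [], [], [], [0], [1], [0, 1], [1], [0], [0], [], [], [1], [1], [0, 1], [], [0], [], [0], [0], [1], []]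

/-- layer data -/
def octDodL9P0 : List (List ℕ) := [[], [], [0], [0, 1], [], [0], [0], [0], [0, 1], [0, 1], [1], [], [1], [], [], [], [1], [0, 1], [], [], [0], [], [], [], [1], [], [], [0], [1], [1], [0], [0, 1], [1], [], [], [], [], [1], [1], [], [], [], [], [], [0], [], [1], [1], [0], [], [0, 1], [], [0], [], [0], [0], [0], [], [], [], [1], [0], [], [], [], [1], [], [1], [], [1], [0], [], [], [0], [], [], [], [], [], [], [], [], [], [], [], [], [1], [], [], [], [], [0], [1], [1], [], [], [1], [], [1], [0]]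

/-- layer data -/
def octDodL10P0 : List (List ℕ) := [[], [], [], [], [1], [], [], [], [], [], [], [0], [], [], [], [], [1], [], [], [], [], [], [], [], [], [1], [], [], [], [], [], [], [], [], [], [], [], [], [], [0], [], [], [], [], [], [], [], [], [], []]

/-- An orbit certificate. -/
def octDod : Cfsg.Agent.M24.Cert where
  fx := [5279]
  gens := [351419910098394426466462239079671905, 272119174382913021378710637456457868]
  x0 := 11649183
  sp := [octDodL0P0, octDodL1P0, octDodL2P0, octDodL3P0, octDodL4P0, octDodL5P0, octDodL6P0, octDodL7P0, octDodL8P0, octDodL9P0, octDodL10P0]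

theorem octDod_ok : keyCheck [oct0] (dodL.filter fun m => pc (m &&& oct0) == 6) (fun _ => 0) [(0, octDod)] = true := by
  decide +kernel

end Cfsg.Agent.M24
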