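import Cfsg.Agent.M24.Canon
import Cfsg.Agent.M24.Trans

/-!
Joint stabilisers of two octads.
-/

set_option autoImplicit false

namespace Cfsg.Agent.M24

/-- layer data -/
def octPair0L0P0 : List (List ℕ) := [[0, 1]]

/-- layer data -/
def octPair0L1P0 : List (List ℕ) := [[0, 1], [0, 1]]

/-- layer data -/
def octPair0L2P0 : List (List ℕ) := [[0, 1], [1], [0, 1], [0, 1]]

/-- layer data -/
def octPair0L3P0 : List (List ℕ) := [[0, 1], [0, 1], [1], [0, 1], [0, 1], [1], []]

/-- layer data -/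
def octPair0L4P0 : List (List ℕ) := [[0, 1], [], [], [0], [1], [], [], [0], [], []]

/-- layer data -/
def octPair0L5P0 : List (List ℕ) := [[], [1], [], [], []]

/-- An orbit certificate. -/
def octPair0 : Cfsg.Agent.M24.Cert where
  fx := [5279]
  gens := [353902198418196821401686930341636103, 859697010314147030426190704607108419]
  x0 := 11952160
  sp := [octPair0L0P0, octPair0L1P0, octPair0L2P0, octPair0L3P0, octPair0L4P0, octPair0L5P0]

/-- layer data -/
def octPair2L0P0 : List (List ℕ) := [[0, 1]]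

/-- layer data -/
def octPair2L1P0 : List (List ℕ) := [[0, 1], [0, 1]]

/-- layer data -/
def octPair2L2P0 : List (List ℕ) := [[0, 1], [0, 1], [0, 1], [0, 1]]

/-- layer data -/
def octPair2L3P0 : List (List ℕ) := [[0, 1], [0, 1], [0, 1], [0, 1], [0, 1], [0, 1], [0, 1], [0]]

/-- layer data -/
def octPair2L4P0 : List (List ℕ) := [[0, 1], [0, 1], [0, 1], [0, 1], [0, 1], [1], [0, 1], [0], [0, 1], [0, 1], [0, 1], [0, 1], [0, 1], [0, 1], [1]]

/-- layer data -/
def octPair2L5P0 : List (List ℕ) := [[0, 1], [0, 1], [0, 1], [0, 1], [0, 1], [1], [0, 1], [0], [1], [0, 1], [0, 1], [0, 1], [0, 1], [0, 1], [0, 1], [0, 1], [1], [0, 1], [0, 1], [0, 1], [0, 1], [0], [0], [0, 1], [0, 1], [0, 1], [0, 1]]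

/-- layer data -/
def octPair2L6P0 : List (List ℕ) := [[0, 1], [0, 1], [0], [0], [0, 1], [0, 1], [0, 1], [0], [1], [1], [0, 1], [0, 1], [0, 1], [0, 1], [0, 1], [0, 1], [0, 1], [0, 1], [0], [1], [0, 1], [0, 1], [0, 1], [0, 1], [1], [1], [0, 1], [0, 1], [0, 1], [1], [0, 1], [0], [0, 1], [0, 1], [0, 1], [0, 1], [0, 1], [0], [0, 1], [1], [], [0, 1], [1], [1], [1], [], [0], [1]]

/-- layer data -/
def octPair2L7P0 : List (List ℕ) := [[0, 1], [0, 1], [0, 1], [1], [1], [0, 1], [0, 1], [0, 1], [0, 1], [0, 1], [0, 1], [0, 1], [0, 1], [0, 1], [0, 1], [0, 1], [0], [0, 1], [0, 1], [0, 1], [0, 1], [0], [0, 1], [0, 1], [0, 1], [1], [], [0, 1], [], [0, 1], [0, 1], [0, 1], [0], [1], [0], [0], [1], [0], [0], [], [1], [0, 1], [1], [0], [0], [1], [0, 1], [1], [], [0, 1], [1], [], [1], [0, 1], [0, 1], [0], [1], [0, 1], [0], [0, 1], [0], [0], [0, 1], [0, 1], [], [1], [], [1], [0], [], [], [0, 1], [], []]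

/-- layer data -/
def octPair2L8P0 : List (List ℕ) := [[1], [0], [0, 1], [1], [0], [1], [], [0], [1], [0, 1], [0, 1], [0], [0, 1], [1], [0, 1], [0, 1], [0], [0], [1], [1], [], [1], [1], [0, 1], [0], [0, 1], [0, 1], [0], [], [], [0], [0, 1], [0], [0, 1], [1], [], [1], [0, 1], [], [0], [1], [0], [], [0], [0], [0], [0, 1], [0, 1], [], [0, 1], [0, 1], [0], [0, 1], [], [0], [1], [0], [0], [1], [], [], [1], [1], [1], [], [], [1], [1], [1], [], [0], [1], [], [0], [0], [0], [0], [0], [], [1], [], [], [], [1], [], [1], [], [], [1], [], [0, 1], [], [], [1], [], [0, 1], [], [1]]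

/-- layer data -/
def octPair2L9P0 : List (List ℕ) := [[1], [], [1], [0], [], [0], [0, 1], [0, 1], [], [0], [], [], [0], [1], [], [0, 1], [0], [1], [], [0], [], [1], [], [1], [], [0], [0], [], [0, 1], [1], [0, 1], [], [], [0, 1], [1], [0], [], [1], [1], [], [], [], [0], [1], [0], [], [], [0], [0], [0, 1], [1], [1], [], [], [0], [1], [], [1], [], [1], [], [], [0], [0], [], [], [], [], [], [1], [], [], [], [], [], [1], [0], [], [], [], [], [1], [1], [], [1], [], [], [], [1], []]

/-- layer data -/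
def octPair2L10P0 : List (List ℕ) := [[], [1], [1], [], [], [], [], [0], [1], [0, 1], [], [0, 1], [0, 1], [0, 1], [0, 1], [0], [0], [], [], [], [], [], [0], [], [0], [0, 1], [], [], [], [], [], [], [1], [], [0], [], [], [], [], [], [], [], [], [], [], [], [], [], [], [], [], [0], []]

/-- layer data -/
def octPair2L11P0 : List (List ℕ) := [[0], [], [], [0], [], [], [], [], [1], [], [], [0], [], [], [], [], [], [], [], [1], [], [], []]

/-- An orbit certificate. -/
def octPair2 : Cfsg.Agent.M24.Cert where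
  fx := [5279]
  gens := [920957877175582037216417446946287619, 350954831660845149825868980121108554]
  x0 := 13062145
  sp := [octPair2L0P0, octPair2L1P0, octPair2L2P0, octPair2L3P0, octPair2L4P0, octPair2L5P0, octPair2L6P0, octPair2L7P0, octPair2L8P0, octPair2L9P0, octPair2L10P0, octPair2L11P0]

/-- layer data -/
def octPair4L0P0 : List (List ℕ) := [[0, 1]]

/-- layer data -/
def octPair4L1P0 : List (List ℕ) := [[0, 1], [0, 1]]

/-- layer data -/
def octPair4L2P0 : List (List ℕ) := [[0, 1], [0, 1], [0, 1], [0, 1]]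

/-- layer data -/
def octPair4L3P0 : List (List ℕ) := [[0, 1], [0, 1], [0, 1], [0, 1], [0, 1], [0, 1], [0, 1], [0, 1]]

/-- layer data -/
def octPair4L4P0 : List (List ℕ) := [[0, 1], [0, 1], [0, 1], [0, 1], [0, 1], [0, 1], [0, 1], [], [0, 1], [0], [0, 1], [0, 1], [0, 1], [0, 1], [0, 1], [0, 1]]

/-- layer data -/
def octPair4L5P0 : List (List ℕ) := [[0, 1], [0, 1], [0, 1], [0, 1], [0, 1], [0, 1], [0, 1], [1], [0, 1], [1], [0], [0, 1], [0, 1], [0, 1], [0, 1], [0], [1], [0, 1], [1], [0, 1], [1], [0], [], [0, 1], [0, 1], [0, 1], [0, 1], [0], [1]]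

/-- layer data -/
def octPair4L6P0 : List (List ℕ) := [[1], [0, 1], [0], [0, 1], [0, 1], [], [0, 1], [0, 1], [0], [0], [0, 1], [1], [0], [1], [0, 1], [0, 1], [0, 1], [1], [0], [0, 1], [0], [0, 1], [0], [0], [], [0, 1], [0, 1], [0, 1], [], [1], [1], [], [0, 1], [0, 1], [], [0], [0], [], [1], [0, 1], [0, 1], [0], [0, 1], [0, 1], [0, 1], []]

/-- layer data -/
def octPair4L7P0 : List (List ℕ) := [[0, 1], [1], [0, 1], [0, 1], [0, 1], [1], [0, 1], [0, 1], [0, 1], [], [], [0], [], [0], [0], [], [1], [], [], [1], [0, 1], [0], [0, 1], [0, 1], [0, 1], [0], [0], [0], [0, 1], [0, 1], [], [1], [], [0], [1], [1], [0], [0], [], [], [1], [1], [0, 1], [0], [], [0], [], [1], [], [1], [], [], [0], [0, 1], [0, 1], [], [0, 1], [1], [0, 1], [0]]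

/-- layer data -/
def octPair4L8P0 : List (List ℕ) := [[1], [1], [1], [1], [], [0], [0, 1], [], [1], [0], [1], [0], [], [], [0, 1], [], [], [], [0, 1], [], [], [0], [], [], [1], [0], [0], [0, 1], [], [1], [], [0, 1], [], [], [], [], [], [], [], [0], [], [0], [1], [], [], [], [0], [], [1], [], [], [1], [0], [0, 1], [0], [1], [], [0], [], [], [0], []]

/-- layer data -/
def octPair4L9P0 : List (List ℕ) := [[0], [], [0], [], [1], [], [1], [], [], [], [], [], [], [1], [], [0, 1], [], [], [1], [], [1], [0], [], [], [], [], [], [0], [], [], [], [1], [], [], [1], [], []]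

/-- layer data -/
def octPair4L10P0 : List (List ℕ) := [[], [0], [], [], [], [], [], [0], [], [], [], [], []]

/-- An orbit certificate. -/
def octPair4 : Cfsg.Agent.M24.Cert where
  fx := [5279]
  gens := [848421443908656392614618937124064295, 776796689579211805548256360281538787]
  x0 := 5902343
  sp := [octPair4L0P0, octPair4L1P0, octPair4L2P0, octPair4L3P0, octPair4L4P0, octPair4L5P0, octPair4L6P0, octPair4L7P0, octPair4L8P0, octPair4L9P0, octPair4L10P0]

/-- Certificates by intersection. -/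
def octPairs : List (ℕ × Cert) := [(0, octPair0), (2, octPair2), (4, octPair4)]

theorem octPairs_ok : keyCheck [oct0] (octL.filter fun m => m != oct0) (fun m => pc (m &&& oct0)) octPairs = true := by
  decide +kernel

end Cfsg.Agent.M24
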