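import Cfsg.Agent.M24.Perm

/-!
The order of `Cfsg.M24`, its 5-transitivity, and transitivity on octads.
-/

set_option autoImplicit false

namespace Cfsg.Agent.M24

open scoped Pointwise

/-- One step of a stabiliser chain. -/
theorem card_step {α : Type*} [Finite α] [DecidableEq α] (H : Subgroup (Equiv.Perm α)) (p : α)
    (L : List α) (hnd : L.Nodup) (hex : ∀ y ∈ L, ∃ g ∈ H, g p = y) (hbd : ∀ g ∈ H, g p ∈ L) :
    Nat.card H = L.length * Nat.card ↥(H ⊓ MulAction.stabilizer (Equiv.Perm α) p) := by
  classical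
  have horb : MulAction.orbit H p = (L.toFinset : Set α) := by
    ext y
    simp only [MulAction.mem_orbit_iff, List.coe_toFinset, Set.mem_setOf_eq]
    constructor
    · rintro ⟨g, rfl⟩; exact hbd _ g.2
    · intro hy; obtain ⟨g, hg, hgy⟩ := hex y hy; exact ⟨⟨g, hg⟩, hgy⟩
  have h1 : Nat.card (MulAction.orbit H p) = L.length := by
    rw [horb, Nat.card_coe_set_eq, Set.ncard_coe_finset, List.toFinset_card_of_nodup hnd]
  have e : MulAction.stabilizer H p ≃ ↥(H ⊓ MulAction.stabilizer (Equiv.Perm α) p) :=
    { toFun := fun g => ⟨g.1.1, g.1.2, g.2⟩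
      invFun := fun g => ⟨⟨g.1, g.2.1⟩, g.2.2⟩
      left_inv := fun g => rfl
      right_inv := fun g => rfl }
  rw [← h1, ← Nat.card_congr e, ← Nat.card_prod]
  exact (Nat.card_congr (MulAction.orbitProdStabilizerEquivGroup H p)).symm

/-- The pointwise stabiliser of the first `k` base points. -/
def stab : ℕ → Subgroup (Equiv.Perm GolayPt)
  | 0 => M24
  | k + 1 => stab k ⊓ MulAction.stabilizer (Equiv.Perm GolayPt) (pt (base.getD k 0))

theorem mem_stab {g : Equiv.Perm GolayPt} :
    ∀ {k : ℕ}, k ≤ 7 → (g ∈ stab k ↔ g ∈ M24 ∧ ∀ b ∈ base.take k, g (pt b) = pt b)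
  | 0, _ => by simp [stab]
  | k + 1, hk => by
    have hlen : base.length = 7 := by decide +kernel
    have htake : base.take (k + 1) = base.take k ++ [base.getD k 0] := by
      rw [List.getD_eq_getElem _ _ (by omega : k < base.length), List.take_concat_get' base k (by omega)]
    simp only [stab, Subgroup.mem_inf, MulAction.mem_stabilizer_iff, Equiv.Perm.smul_def,
      mem_stab (k := k) (by omega), htake, List.mem_append, List.mem_singleton]
    constructor
    · rintro ⟨⟨h1, h2⟩, h3⟩
      exact ⟨h1, fun b hb => hb.elim (h2 b) (fun e => e ▸ h3)⟩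
    · rintro ⟨h1, h2⟩
      exact ⟨⟨h1, fun b hb => h2 b (Or.inl hb)⟩, h2 _ (Or.inr rfl)⟩

theorem trans_spec {k p : ℕ} (hk : k < 7) (hp : p ∈ trans.getD k []) :
    autB p = true ∧ toPerm p ∈ stab k := by
  have h := trans_ok
  simp only [List.all_eq_true, List.mem_range, Bool.and_eq_true, beq_iff_eq] at h
  obtain ⟨h1, h2⟩ := h k hk p hp
  refine ⟨h1, (mem_stab hk.le).2 ⟨toPerm_mem h1, fun b hb => ?_⟩⟩
  rw [toPerm_pt (autB_ok h1) (base_lt b (List.mem_of_mem_take hb)), h2 b hb]

theorem exists_stab_map {k : ℕ} (hk : k < 7) {y : ℕ} (hy : y ∈ orbs.getD k []) :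
    ∃ g ∈ stab k, g (pt (base.getD k 0)) = pt y := by
  have h := trans_orbs
  simp only [List.all_eq_true, List.mem_range, beq_iff_eq] at h
  rw [← h k hk, List.mem_map] at hy
  obtain ⟨p, hp, rfl⟩ := hy
  obtain ⟨h1, h2⟩ := trans_spec hk hp
  have hb : ∀ k < 7, base.getD k 0 < 24 := by decide +kernel
  exact ⟨_, h2, toPerm_pt (autB_ok h1) (hb k hk)⟩

theorem card_stab_succ {k : ℕ} (hk : k < 7) :
    Nat.card (stab k) = (orbs.getD k []).length * Nat.card (stab (k + 1)) := by
  have hnd : ∀ k < 7, ((orbs.getD k []).map pt).Nodup := by decide +kernel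
  have h := card_step (stab k) (pt (base.getD k 0)) ((orbs.getD k []).map pt) (hnd k hk)
    (fun y hy => by
      obtain ⟨n, hn, rfl⟩ := List.mem_map.1 hy
      exact exists_stab_map hk hn)
    (fun g hg => by
      obtain ⟨h1, h2⟩ := (mem_stab hk.le).1 hg
      exact List.mem_map.2 ⟨_, base_orbit_bound h1 hk h2, pt_ix _⟩)
  rwa [List.length_map] at h

theorem stab_seven : stab 7 = ⊥ := by
  rw [eq_bot_iff]
  intro g hg
  obtain ⟨h1, h2⟩ := (mem_stab le_rfl).1 hg
  have : base.take 7 = base := by decide +kernel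
  rw [this] at h2
  exact Subgroup.mem_bot.2 (eq_one_of_base h1 h2)

theorem card_M24 : Nat.card M24 = 244823040 := by
  show Nat.card (stab 0) = _
  rw [card_stab_succ (by norm_num), card_stab_succ (by norm_num), card_stab_succ (by norm_num),
    card_stab_succ (by norm_num), card_stab_succ (by norm_num), card_stab_succ (by norm_num),
    card_stab_succ (by norm_num), stab_seven]
  simp only [Nat.card_unique, mul_one]
  decide +kernel

/-- The first five base points. -/
def base5 (i : Fin 5) : GolayPt := pt (base.getD i.val 0)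

theorem exists_map_base5 {k : ℕ} (hk : k ≤ 5) (y : Fin 5 → GolayPt) (hy : Function.Injective y) :
    ∃ g ∈ M24, ∀ i : Fin 5, i.val < k → g (base5 i) = y i := by
  induction k with
  | zero => exact ⟨1, M24.one_mem, fun i hi => absurd hi (by omega)⟩
  | succ k ih =>
    obtain ⟨g, hg, hgy⟩ := ih (by omega)
    have key : ∀ k < 5, ∀ n < 24, ((base.take k).contains n || (orbs.getD k []).contains n) = true := by
      decide +kernel
    set z := g⁻¹ (y ⟨k, by omega⟩) with hz
    have hzy : g z = y ⟨k, by omega⟩ := by simp [hz]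
    have hlen : base.length = 7 := by decide +kernel
    have hmem : ix z ∈ orbs.getD k [] := by
      have h := key k (by omega) (ix z) (ix_lt z)
      rw [Bool.or_eq_true] at h
      rcases h with h | h
      · exfalso
        rw [List.contains_iff_mem, List.mem_take_iff_getElem] at h
        obtain ⟨j, hj, hjz⟩ := h
        have hj5 : j < 5 := by omega
        have hb : base5 ⟨j, hj5⟩ = z := by
          show pt (base.getD j 0) = z
          rw [List.getD_eq_getElem _ _ (by omega : j < base.length), hjz, pt_ix]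
        have h1 := hgy ⟨j, hj5⟩ (by simp; omega)
        rw [hb, hzy] at h1
        have := congrArg Fin.val (hy h1)
        simp at this
        omega
      · exact List.contains_iff_mem.1 h
    obtain ⟨u, hu, huz⟩ := exists_stab_map (by omega : k < 7) hmem
    obtain ⟨hu1, hu2⟩ := (mem_stab (by omega : k ≤ 7)).1 hu
    refine ⟨g * u, M24.mul_mem hg hu1, fun i hi => ?_⟩
    rw [Equiv.Perm.mul_apply]
    rcases Nat.lt_succ_iff_lt_or_eq.1 hi with hlt | heq
    · have : base.getD i.val 0 ∈ base.take k := by
        rw [List.getD_eq_getElem _ _ (by omega : i.val < base.length), List.mem_take_iff_getElem]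
        exact ⟨i.val, by omega, rfl⟩
      rw [show base5 i = pt (base.getD i.val 0) from rfl, hu2 _ this]
      exact hgy i hlt
    · rw [show base5 i = pt (base.getD k 0) by rw [← heq]; rfl, huz, pt_ix, hzy]
      exact congrArg y (Fin.ext heq.symm)

theorem exists_map5 (x y : Fin 5 → GolayPt) (hx : Function.Injective x) (hy : Function.Injective y) :
    ∃ g ∈ M24, ∀ i, g (x i) = y i := by
  obtain ⟨a, ha, hax⟩ := exists_map_base5 le_rfl x hx
  obtain ⟨b, hb, hby⟩ := exists_map_base5 le_rfl y hy
  refine ⟨b * a⁻¹, M24.mul_mem hb (M24.inv_mem ha), fun i => ?_⟩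
  rw [Equiv.Perm.mul_apply, ← hax i i.isLt]
  simp [hby i i.isLt]

theorem isMultiplyPretransitive_five : MulAction.IsMultiplyPretransitive M24 GolayPt 5 := by
  refine MulAction.isMultiplyPretransitive_iff.2 fun x y => ?_
  obtain ⟨g, hg, h⟩ := exists_map5 x y x.injective y.injective
  exact ⟨⟨g, hg⟩, Function.Embedding.ext fun i => h i⟩

theorem exists_map_finset {s t : Finset GolayPt} (hs : s.card ≤ 5) (h : s.card = t.card) :
    ∃ g ∈ M24, g • s = t := by
  have hcard : Fintype.card GolayPt = 24 := by decide +kernel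
  obtain ⟨s', hss, hs'⟩ := Finset.exists_superset_card_eq hs (by omega)
  let e : {x // x ∈ s} ≃ {x // x ∈ t} := Fintype.equivOfCardEq (by simpa using h)
  let σ : Equiv.Perm GolayPt := e.extendSubtype
  let f : Fin 5 ≃ s' := (s'.equivFinOfCardEq hs').symm
  obtain ⟨g, hg, hgx⟩ := exists_map5 (fun i => (f i : GolayPt)) (fun i => σ (f i))
    (Subtype.val_injective.comp f.injective)
    (σ.injective.comp (Subtype.val_injective.comp f.injective))
  refine ⟨g, hg, Finset.eq_of_subset_of_card_le ?_ (by rw [Finset.card_smul_finset, h])⟩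
  intro y hy
  obtain ⟨x, hx, rfl⟩ := Finset.mem_smul_finset.1 hy
  have := hgx (f.symm ⟨x, hss hx⟩)
  simp only [Equiv.apply_symm_apply] at this
  rw [Equiv.Perm.smul_def, this]
  exact e.extendSubtype_mem x hx

/-- The octad through the first five base points. -/
def oct0 : ℕ := 5279

theorem oct0_mem : toSet oct0 ∈ octads := by
  rw [mem_octads_iff, toMask_toSet (by decide +kernel)]; decide +kernel

/-- Five of the points of `oct0`. -/
def five0 : Finset GolayPt := toSet 31

theorem five0_spec : five0.card = 5 ∧ five0 ⊆ toSet oct0 := by decide +kernel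

theorem exists_map_octad {o : Finset GolayPt} (ho : o ∈ octads) :
    ∃ g ∈ M24, g • toSet oct0 = o := by
  have h8 : o.card = 8 := by rw [card_eq]; exact (mem_octads_iff.1 ho).2
  obtain ⟨t, hto, ht⟩ := Finset.exists_subset_card_eq (s := o) (n := 5) (by omega)
  obtain ⟨g, hg, hgt⟩ := exists_map_finset (s := five0) (t := t) five0_spec.1.le (by rw [five0_spec.1, ht])
  refine ⟨g, hg, octad_eq_of_inter ((smul_mem_octads hg).2 oct0_mem) ho ?_⟩
  refine le_trans ht.ge (Finset.card_le_card (Finset.subset_inter ?_ hto))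
  rw [← hgt]
  exact Finset.smul_finset_subset_smul_finset five0_spec.2

theorem steiner_five : IsSteinerSystem 5 8 octads := by
  refine ⟨fun b hb => by rw [card_eq]; exact (mem_octads_iff.1 hb).2, fun s hs => ?_⟩
  obtain ⟨g, hg, hgs⟩ := exists_map_finset (s := five0) (t := s) five0_spec.1.le (by rw [five0_spec.1, hs])
  have hsub : s ⊆ g • toSet oct0 := hgs ▸ Finset.smul_finset_subset_smul_finset five0_spec.2
  refine ⟨_, ⟨(smul_mem_octads hg).2 oct0_mem, hsub⟩, fun b hb => ?_⟩
  exact octad_eq_of_inter hb.1 ((smul_mem_octads hg).2 oct0_mem)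
    (hs.ge.trans (Finset.card_le_card (Finset.subset_inter hb.2 hsub)))

end Cfsg.Agent.M24
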