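import Cfsg.Agent.M24.Twisted
import Cfsg.Prelude.Def_KGroupFacts

/-!
An upper bound on the outer automorphism group of a subgroup of `Cfsg.M24` from a certificate.
-/

set_option autoImplicit false

namespace Cfsg.Agent.M24

open scoped Pointwise

/-- Certificate data: `bp`, `mp` are the powers of two elements, `f` a third generator. -/
structure AutData where
  /-- stabilised masks -/
  fx : List ℕ
  /-- powers of the element of prime order -/
  bp : List ℕ
  /-- powers of the normalising element -/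
  mp : List ℕ
  /-- third generator -/
  f : ℕ
  /-- the exponent of the normalising relation -/
  r : ℕ
  /-- the exponent of the second relation -/
  s : ℕ
  /-- cycle representatives of the first element -/
  R : List (ℕ × ℕ)
  /-- test words for the first search -/
  W : List ℕ
  /-- closure steps for the first search -/
  ST : List (ℕ × List ℕ)
  /-- cycle representatives of the second element -/
  R2 : List (ℕ × ℕ)
  /-- test words for the second search -/
  W2 : List ℕ
  /-- closure steps for the second search -/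
  ST2 : List (ℕ × List ℕ)
  /-- solutions of the first searches, by exponent -/
  msols : List (ℕ × List ℕ)
  /-- solutions of the second search -/
  fsols : List ℕ
  /-- separating words with orders -/
  tests : List (List ℕ × ℕ)
  /-- remaining candidates -/
  alive : List (ℕ × ℕ)

/-- Apply a word in three permutations. -/
def wordApp (x y z : ℕ) : List ℕ → ℕ → ℕ
  | [], i => i
  | c :: w, i => papp (if c = 0 then x else if c = 1 then y else z) (wordApp x y z w i)

/-- Iterate a word. -/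
def wordPow (x y z : ℕ) (w : List ℕ) : ℕ → ℕ → ℕ
  | 0, i => i
  | n + 1, i => wordApp x y z w (wordPow x y z w n i)

/-- A product of three elements along a word. -/
def wordVal {G : Type*} [Group G] (X Y Z : G) : List ℕ → G
  | [] => 1
  | c :: w => (if c = 0 then X else if c = 1 then Y else Z) * wordVal X Y Z w

theorem map_wordVal {G H : Type*} [Group G] [Group H] (φ : G →* H) (X Y Z : G) :
    ∀ w, φ (wordVal X Y Z w) = wordVal (φ X) (φ Y) (φ Z) w
  | [] => φ.map_one
  | c :: w => by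
    simp only [wordVal, map_mul, map_wordVal φ X Y Z w]
    split <;> [rfl; split <;> rfl]

theorem wordApp_spec {x y z : ℕ} (hx : okPerm x = true) (hy : okPerm y = true) (hz : okPerm z = true) :
    ∀ (w : List ℕ) (i : ℕ), i < 24 → wordApp x y z w i < 24 ∧
      wordVal (toPerm x) (toPerm y) (toPerm z) w (pt i) = pt (wordApp x y z w i)
  | [], _, hi => ⟨hi, rfl⟩
  | c :: w, i, hi => by
    obtain ⟨h1, h2⟩ := wordApp_spec hx hy hz w i hi
    simp only [wordApp, wordVal, Equiv.Perm.mul_apply, h2]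
    split
    · exact ⟨okPerm_lt hx h1, toPerm_pt hx h1⟩
    · split
      · exact ⟨okPerm_lt hy h1, toPerm_pt hy h1⟩
      · exact ⟨okPerm_lt hz h1, toPerm_pt hz h1⟩

theorem wordPow_spec {x y z : ℕ} (hx : okPerm x = true) (hy : okPerm y = true) (hz : okPerm z = true)
    (w : List ℕ) : ∀ (n i : ℕ), i < 24 → wordPow x y z w n i < 24 ∧
      (wordVal (toPerm x) (toPerm y) (toPerm z) w ^ n) (pt i) = pt (wordPow x y z w n i)
  | 0, _, hi => ⟨hi, rfl⟩
  | n + 1, i, hi => by
    obtain ⟨h1, h2⟩ := wordPow_spec hx hy hz w n i hi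
    obtain ⟨h3, h4⟩ := wordApp_spec hx hy hz w _ h1
    exact ⟨h3, by rw [pow_succ', Equiv.Perm.mul_apply, h2, h4]; rfl⟩

/-- The checks on a list of powers. -/
def powersOk (fx : List ℕ) (l : List ℕ) : Bool :=
  l.all (fun q => autB q && fx.all fun m => pimg q m == m) && decide (1 < l.length) &&
    (List.range 24).all (fun i => papp (l.getD 0 0) i == i) &&
    (List.range (l.length - 1)).all (fun i => compB (l.getD (i + 1) 0) (l.getD 1 0) (l.getD i 0)) &&
    compB (l.getD 0 0) (l.getD 1 0) (l.getD (l.length - 1) 0) &&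
    (List.range 24).any (fun i => papp (l.getD 1 0) i != i)

theorem powersOk_spec {fx l : List ℕ} (h : powersOk fx l = true) :
    (∀ q ∈ l, okPerm q = true ∧ toPerm q ∈ fixAll fx) ∧ 1 < l.length ∧
      (∀ i, toPerm (l.getD (i % l.length) 0) = toPerm (l.getD 1 0) ^ i) ∧
      toPerm (l.getD 1 0) ≠ 1 ∧ toPerm (l.getD 1 0) ^ l.length = 1 := by
  simp only [powersOk, Bool.and_eq_true, List.all_eq_true, decide_eq_true_eq, List.mem_range,
    List.any_eq_true, bne_iff_ne, ne_eq, beq_iff_eq] at h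
  obtain ⟨⟨⟨⟨⟨hq, hlen⟩, h0⟩, hsucc⟩, hlast⟩, i0, hi0, hne⟩ := h
  have hmem : ∀ i < l.length, l.getD i 0 ∈ l := fun i hi => by
    rw [List.getD_eq_getElem _ _ hi]; exact List.getElem_mem hi
  have hok : ∀ i < l.length, okPerm (l.getD i 0) = true := fun i hi =>
    autB_ok (hq _ (hmem i hi)).1
  have e0 : toPerm (l.getD 0 0) = 1 := Equiv.ext fun x => by
    rw [toPerm_apply (hok 0 (by omega)), h0 _ (ix_lt x), pt_ix]; rfl
  have ei : ∀ i < l.length, toPerm (l.getD i 0) = toPerm (l.getD 1 0) ^ i := by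
    intro i
    induction i with
    | zero => intro _; rw [e0, pow_zero]
    | succ i ih =>
      intro hi
      rw [compB_mul (hok _ hi) (hok 1 hlen) (hok i (by omega)) (hsucc i (by omega)), ih (by omega),
        pow_succ']
  have hN : toPerm (l.getD 1 0) ^ l.length = 1 := by
    have := compB_mul (hok 0 (by omega)) (hok 1 hlen) (hok (l.length - 1) (by omega)) hlast
    rw [e0, ei (l.length - 1) (by omega), ← pow_succ', show l.length - 1 + 1 = l.length by omega] at this
    exact this.symm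
  refine ⟨fun q hq' => ⟨autB_ok (hq q hq').1, toPerm_mem (hq q hq').1, fun m hm => by
      rw [← toSet_pimg (autB_ok (hq q hq').1), (hq q hq').2 m hm]⟩, hlen, fun i => ?_, fun e => ?_, hN⟩
  · rw [ei _ (Nat.mod_lt _ (by omega))]
    conv_rhs => rw [← Nat.mod_add_div i l.length, pow_add, pow_mul, hN, one_pow, mul_one]
  · apply hne
    have := congrArg (fun u : Equiv.Perm GolayPt => ix (u (pt i0))) e
    simp only [toPerm_pt (hok 1 hlen) hi0, Equiv.Perm.one_apply] at this
    rwa [ix_pt (okPerm_lt (hok 1 hlen) hi0), ix_pt hi0] at this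

/-- All checks of a certificate, generation apart. -/
def AutData.ok (D : AutData) : Bool :=
  powersOk D.fx D.bp && powersOk D.fx D.mp && autB D.f && D.fx.all (fun m => pimg D.f m == m) &&
  (List.range D.bp.length).all (fun k => k == 0 ||
    D.mp.any fun c => D.msols.any fun ks =>
      commB c (D.bp.getD k 0) (D.bp.getD (ks.1 % D.bp.length) 0) c) &&
  commB (D.mp.getD 1 0) (D.bp.getD 1 0) (D.bp.getD (D.r % D.bp.length) 0) (D.mp.getD 1 0) &&
  commB D.f (D.mp.getD 1 0) (D.mp.getD (D.s % D.mp.length) 0) D.f &&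
  D.msols.all (fun ks =>
    twOk D.fx (D.bp.getD (ks.1 % D.bp.length) 0) (D.bp.getD ((ks.1 * D.r) % D.bp.length) 0)
      D.R D.W D.ST ks.2 &&
    ks.2.all fun u => D.bp.any fun c => commB c u (D.mp.getD 1 0) c) &&
  twOk D.fx (D.mp.getD 1 0) (D.mp.getD (D.s % D.mp.length) 0) D.R2 D.W2 D.ST2 D.fsols &&
  D.msols.all fun ks => D.fsols.all fun g => D.alive.contains (ks.1, g) || D.tests.any fun wn =>
    (List.range 24).all (fun i =>
      wordPow (D.bp.getD 1 0) (D.mp.getD 1 0) D.f wn.1 wn.2 i == i) &&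
    (List.range 24).any fun i =>
      wordPow (D.bp.getD (ks.1 % D.bp.length) 0) (D.mp.getD 1 0) g wn.1 wn.2 i != i

theorem card_out_le (D : AutData) (hok : D.ok = true) (hp : D.bp.length.Prime)
    (hdvd : D.bp.length ∣ Nat.card (fixAll D.fx)) (hsq : ¬ D.bp.length ^ 2 ∣ Nat.card (fixAll D.fx))
    (hgen : ∀ g ∈ fixAll D.fx, g ∈ Subgroup.closure
      {toPerm (D.bp.getD 1 0), toPerm (D.mp.getD 1 0), toPerm D.f}) :
    Nat.card (Cfsg.Out ↥(fixAll D.fx)) ≤ D.alive.length := by
  classical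
  have := Fact.mk hp
  set p := D.bp.length with hpdef
  simp only [AutData.ok, Bool.and_eq_true, List.all_eq_true, List.any_eq_true, List.mem_range,
    Bool.or_eq_true, beq_iff_eq, bne_iff_ne, ne_eq, List.contains_iff_mem, ← hpdef] at hok
  obtain ⟨⟨⟨⟨⟨⟨⟨⟨⟨hbp, hmp⟩, hfaut⟩, hffx⟩, hnorm⟩, hrel1⟩, hrel2⟩, hms⟩, hfs⟩, hsep⟩ := hok
  obtain ⟨hbq, hblen, hbpow, hbne, hbN⟩ := powersOk_spec hbp
  obtain ⟨hmq, hmlen, hmpow, -, -⟩ := powersOk_spec hmp
  have memb : ∀ i < p, D.bp.getD i 0 ∈ D.bp := fun i hi => by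
    rw [List.getD_eq_getElem _ _ hi]; exact List.getElem_mem hi
  have memm : ∀ i < D.mp.length, D.mp.getD i 0 ∈ D.mp := fun i hi => by
    rw [List.getD_eq_getElem _ _ hi]; exact List.getElem_mem hi
  have hm1 : 1 % D.mp.length = 1 := Nat.mod_eq_of_lt hmlen
  have hb1 := hbq _ (memb 1 hblen)
  have hm1' := hmq _ (memm 1 hmlen)
  have hfmem : toPerm D.f ∈ fixAll D.fx :=
    ⟨toPerm_mem hfaut, fun m hm => by rw [← toSet_pimg (autB_ok hfaut), hffx m hm]⟩
  let B : fixAll D.fx := ⟨_, hb1.2⟩
  let M : fixAll D.fx := ⟨_, hm1'.2⟩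
  let F : fixAll D.fx := ⟨_, hfmem⟩
  have hBc : ∀ i : ℕ, ((B ^ i : fixAll D.fx) : Equiv.Perm GolayPt) = toPerm (D.bp.getD (i % p) 0) :=
    fun i => by rw [hbpow i]; rfl
  have hMc : ∀ i : ℕ, ((M ^ i : fixAll D.fx) : Equiv.Perm GolayPt) =
      toPerm (D.mp.getD (i % D.mp.length) 0) := fun i => by rw [hmpow i]; rfl
  have hBord : orderOf B = p :=
    orderOf_eq_prime (Subtype.ext hbN) fun e => hbne (congrArg Subtype.val e)
  have hfac : (Nat.card (fixAll D.fx)).factorization p = 1 := by
    have h0 : Nat.card (fixAll D.fx) ≠ 0 := Nat.card_pos.ne'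
    have h1 : 0 < (Nat.card (fixAll D.fx)).factorization p := hp.factorization_pos_of_dvd h0 hdvd
    have h2 : ¬ 2 ≤ (Nat.card (fixAll D.fx)).factorization p := fun h =>
      hsq ((hp.pow_dvd_iff_le_factorization h0).2 h)
    omega
  have hcardB : Nat.card (Subgroup.zpowers B) = p ^ (Nat.card (fixAll D.fx)).factorization p := by
    rw [hfac, pow_one, Nat.card_zpowers, hBord]
  have key : ∀ φ : MulAut (fixAll D.fx), ∃ c : fixAll D.fx, ∃ k, ∃ g ∈ D.fsols,
      (k, g) ∈ D.alive ∧ c * φ B * c⁻¹ = B ^ k ∧ c * φ M * c⁻¹ = M ∧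
        ((c * φ F * c⁻¹ : fixAll D.fx) : Equiv.Perm GolayPt) = toPerm g := by
    intro φ
    have hcardφ : Nat.card (Subgroup.zpowers (φ B)) = p ^ (Nat.card (fixAll D.fx)).factorization p := by
      rw [hfac, pow_one, Nat.card_zpowers, MulEquiv.orderOf_eq, hBord]
    obtain ⟨c, hc⟩ := MulAction.exists_smul_eq (fixAll D.fx)
      (Sylow.ofCard (Subgroup.zpowers (φ B)) hcardφ) (Sylow.ofCard (Subgroup.zpowers B) hcardB)
    have hc' : c * φ B * c⁻¹ ∈ Subgroup.zpowers B := by
      have h := congrArg (fun P : Sylow p (fixAll D.fx) => (P : Subgroup (fixAll D.fx))) hc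
      simp only [Sylow.coe_subgroup_smul, Sylow.coe_ofCard] at h
      rw [← h]
      exact ⟨φ B, Subgroup.mem_zpowers _, by simp⟩
    rw [← mem_powers_iff_mem_zpowers] at hc'
    obtain ⟨k0, hk0⟩ := hc'
    simp only at hk0
    have hk0p : k0 % p ≠ 0 := by
      intro e
      have h1 : c * φ B * c⁻¹ = 1 := by
        rw [← hk0, ← pow_mod_orderOf, hBord, e, pow_zero]
      rw [conj_eq_one_iff, MulEquiv.map_eq_one_iff] at h1
      rw [h1, orderOf_one] at hBord
      exact hp.ne_one hBord.symm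
    obtain ⟨c1, hc1, ks, hks, hcomm⟩ := (hnorm _ (Nat.mod_lt k0 hp.pos)).resolve_left hk0p
    obtain ⟨hc1ok, hc1mem⟩ := hmq c1 hc1
    have e1 := commB_mul hc1ok (hbq _ (memb _ (Nat.mod_lt k0 hp.pos))).1
      (hbq _ (memb _ (Nat.mod_lt ks.1 hp.pos))).1 hc1ok hcomm
    rw [← hBc, ← hBc] at e1
    let C1 : fixAll D.fx := ⟨toPerm c1, hc1mem⟩
    set k := ks.1 with hk
    set d := C1 * c with hd
    have hB1 : d * φ B * d⁻¹ = B ^ k := by
      have e1' : C1 * B ^ k0 = B ^ k * C1 := Subtype.ext e1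
      calc d * φ B * d⁻¹ = C1 * (c * φ B * c⁻¹) * C1⁻¹ := by rw [hd]; group
        _ = B ^ k := by rw [← hk0, e1']; group
    have hrelB : M * B = B ^ D.r * M := by
      refine Subtype.ext ?_
      have := commB_mul hm1'.1 hb1.1 (hbq _ (memb _ (Nat.mod_lt D.r hp.pos))).1 hm1'.1 hrel1
      rw [← hBc] at this
      exact this
    set M1 := d * φ M * d⁻¹ with hM1
    have hrelM1 : M1 * B ^ k = B ^ (k * D.r) * M1 := by
      have h := congrArg (fun x => d * φ x * d⁻¹) hrelB
      simp only [map_mul, map_pow] at h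
      calc M1 * B ^ k = d * (φ M * φ B) * d⁻¹ := by rw [← hB1, hM1]; group
        _ = d * (φ B ^ D.r * φ M) * d⁻¹ := h
        _ = B ^ (k * D.r) * M1 := by
          rw [pow_mul, ← hB1, conj_pow, hM1]; group
    obtain ⟨htw, hconj⟩ := hms ks hks
    obtain ⟨u, hu, hu'⟩ := tw_complete htw M1.2 (by
      rw [← hBc, ← hBc]; exact congrArg Subtype.val hrelM1)
    obtain ⟨c2, hc2, hcomm2⟩ := hconj u hu
    obtain ⟨hc2ok, hc2mem⟩ := hbq c2 hc2
    let C2 : fixAll D.fx := ⟨toPerm c2, hc2mem⟩
    have huok : okPerm u = true := by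
      simp only [twOk, Bool.and_eq_true, List.all_eq_true] at htw
      exact autB_ok (htw.1.1.2 u hu)
    have e2 : C2 * M1 = M * C2 := Subtype.ext (by
      show toPerm c2 * (M1 : Equiv.Perm GolayPt) = _
      rw [hu']; exact commB_mul hc2ok huok hm1'.1 hc2ok hcomm2)
    obtain ⟨i2, hi2, rfl⟩ := List.getElem_of_mem hc2
    have hC2 : C2 = B ^ i2 := Subtype.ext (by
      show toPerm D.bp[i2] = _
      rw [hBc, Nat.mod_eq_of_lt hi2, List.getD_eq_getElem _ _ hi2])
    set e := C2 * d with he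
    have hB2 : e * φ B * e⁻¹ = B ^ k := by
      calc e * φ B * e⁻¹ = C2 * (d * φ B * d⁻¹) * C2⁻¹ := by rw [he]; group
        _ = B ^ k := by rw [hB1, hC2, ← pow_add, add_comm, pow_add]; group
    have hM2 : e * φ M * e⁻¹ = M := by
      calc e * φ M * e⁻¹ = C2 * M1 * C2⁻¹ := by rw [he, hM1]; group
        _ = M := by rw [e2]; group
    have hrelF : F * M = M ^ D.s * F := by
      refine Subtype.ext ?_
      have := commB_mul (autB_ok hfaut) hm1'.1
        (hmq _ (memm _ (Nat.mod_lt D.s (by omega)))).1 (autB_ok hfaut) hrel2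
      rw [← hMc] at this
      exact this
    set F2 := e * φ F * e⁻¹ with hF2
    have hrelF2 : F2 * M = M ^ D.s * F2 := by
      have h := congrArg (fun x => e * φ x * e⁻¹) hrelF
      simp only [map_mul, map_pow] at h
      calc F2 * M = F2 * (e * φ M * e⁻¹) := by rw [hM2]
        _ = e * (φ F * φ M) * e⁻¹ := by rw [hF2]; group
        _ = e * (φ M ^ D.s * φ F) * e⁻¹ := h
        _ = (e * φ M * e⁻¹) ^ D.s * F2 := by rw [conj_pow, hF2]; group
        _ = M ^ D.s * F2 := by rw [hM2]
    obtain ⟨g, hg, hg'⟩ := tw_complete hfs F2.2 (by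
      rw [← hMc]; exact congrArg Subtype.val hrelF2)
    refine ⟨e, k, g, hg, ?_, hB2, hM2, hg'⟩
    rcases hsep ks hks g hg with h | ⟨wn, -, hgood, i, hi, hbad⟩
    · exact h
    · exfalso
      have hgok : okPerm g = true := by
        simp only [twOk, Bool.and_eq_true, List.all_eq_true] at hfs
        exact autB_ok (hfs.1.1.2 g hg)
      have h1 : wordVal B M F wn.1 ^ wn.2 = 1 := Subtype.ext (Equiv.ext fun x => by
        have hv : (((wordVal B M F wn.1) ^ wn.2 : fixAll D.fx) : Equiv.Perm GolayPt) =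
            wordVal (toPerm (D.bp.getD 1 0)) (toPerm (D.mp.getD 1 0)) (toPerm D.f) wn.1 ^ wn.2 :=
          congrArg (· ^ wn.2) (map_wordVal (fixAll D.fx).subtype B M F wn.1)
        rw [hv, ← pt_ix x, (wordPow_spec hb1.1 hm1'.1 (autB_ok hfaut) wn.1 wn.2 _ (ix_lt x)).2,
          hgood _ (ix_lt x)]
        rfl)
      have h2 := congrArg (((MulAut.conj e).toMonoidHom.comp φ.toMonoidHom)) h1
      rw [map_pow, map_wordVal, map_one] at h2
      simp only [MonoidHom.comp_apply, MulEquiv.coe_toMonoidHom, MulAut.conj_apply] at h2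
      rw [hB2, hM2] at h2
      have h3 := congrArg (fun v : fixAll D.fx => ((v : Equiv.Perm GolayPt)) (pt i)) h2
      have hv : ((((wordVal (B ^ k) M F2 wn.1)) ^ wn.2 : fixAll D.fx) : Equiv.Perm GolayPt) =
          wordVal (toPerm (D.bp.getD (k % p) 0)) (toPerm (D.mp.getD 1 0)) (toPerm g) wn.1 ^ wn.2 := by
        have := congrArg (· ^ wn.2) (map_wordVal (fixAll D.fx).subtype (B ^ k) M F2 wn.1)
        rw [← hBc, ← hg']
        exact this
      rw [hv, (wordPow_spec (hbq _ (memb _ (Nat.mod_lt k hp.pos))).1 hm1'.1 hgok wn.1 wn.2 _ hi).2] at h3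
      exact hbad (pt_inj (wordPow_spec (hbq _ (memb _ (Nat.mod_lt k hp.pos))).1 hm1'.1 hgok wn.1 wn.2 _ hi).1
        hi h3)
  choose c k g hg halive hB hM hF using key
  let idx : Cfsg.Out ↥(fixAll D.fx) → Fin D.alive.length := fun q =>
    ⟨D.alive.idxOf (k q.out, g q.out), List.idxOf_lt_length_iff.2 (halive _)⟩
  have hinj : Function.Injective idx := by
    intro q q' h
    have h' : (k q.out, g q.out) = (k q'.out, g q'.out) :=
      (List.idxOf_inj (halive _)).1 (congrArg Fin.val h)
    obtain ⟨hk', hg'⟩ := Prod.ext_iff.1 h'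
    simp only at hk' hg'
    have hgens : ∀ x : fixAll D.fx,
        MulAut.conj (c q.out) (q.out x) = MulAut.conj (c q'.out) (q'.out x) := by
      have hcl : ∀ x : fixAll D.fx, x ∈ Subgroup.closure ({B, M, F} : Set (fixAll D.fx)) := by
        intro x
        have hx := hgen x x.2
        have himg : ({toPerm (D.bp.getD 1 0), toPerm (D.mp.getD 1 0), toPerm D.f} :
            Set (Equiv.Perm GolayPt)) = (fixAll D.fx).subtype '' {B, M, F} := by
          simp [Set.image_insert_eq, B, M, F]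
        rw [himg, ← MonoidHom.map_closure] at hx
        obtain ⟨y, hy, hyx⟩ := hx
        exact (Subtype.ext hyx : y = x) ▸ hy
      intro x
      refine (MonoidHom.eqOn_closure
        (f := ((MulAut.conj (c q.out)).toMonoidHom.comp q.out.toMonoidHom))
        (g := ((MulAut.conj (c q'.out)).toMonoidHom.comp q'.out.toMonoidHom)) ?_) (hcl x)
      intro y hy
      simp only [MonoidHom.comp_apply, MulEquiv.coe_toMonoidHom, MulAut.conj_apply]
      rcases hy with rfl | rfl | rfl
      · rw [hB, hB, hk']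
      · rw [hM, hM]
      · exact Subtype.ext (by rw [hF, hF, hg'])
    rw [← q.out_eq', ← q'.out_eq', QuotientGroup.eq]
    have hconj : q.out = (MulAut.conj ((c q.out)⁻¹ * c q'.out)) * q'.out := by
      ext x
      have h := hgens x
      simp only [MulAut.conj_apply] at h
      have h2 : q.out x = (c q.out)⁻¹ * c q'.out * q'.out x * ((c q.out)⁻¹ * c q'.out)⁻¹ := by
        calc q.out x = (c q.out)⁻¹ * (c q.out * q.out x * (c q.out)⁻¹) * c q.out := by group
          _ = _ := by rw [h]; group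
      rw [MulAut.mul_apply, MulAut.conj_apply, h2]
    have hinn : MulAut.conj ((c q.out)⁻¹ * c q'.out) ∈ Cfsg.Inn ↥(fixAll D.fx) := ⟨_, rfl⟩
    have hN : (Cfsg.Inn ↥(fixAll D.fx)).Normal := inferInstance
    have : q.out⁻¹ * q'.out = q'.out⁻¹ * (MulAut.conj ((c q.out)⁻¹ * c q'.out))⁻¹ * q'.out := by
      conv_lhs => rw [hconj]
      group
    rw [this]
    have := hN.conj_mem _ (inv_mem hinn) (q'.out⁻¹)
    rwa [inv_inv] at this
  simpa using Nat.card_le_card_of_injective idx hinj

/-- The outer automorphism group depends only on the isomorphism type. -/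
theorem card_out_congr {G H : Type} [Group G] [Group H] (e : G ≃* H) :
    Nat.card (Cfsg.Out G) = Nat.card (Cfsg.Out H) := by
  refine Nat.card_congr (QuotientGroup.congr (Cfsg.Inn G) (Cfsg.Inn H) (MulAut.congr e) ?_).toEquiv
  ext φ
  constructor
  · rintro ⟨ψ, ⟨x, rfl⟩, rfl⟩
    exact ⟨e x, by ext y; simp [MulAut.congr]⟩
  · rintro ⟨y, rfl⟩
    exact ⟨MulAut.conj (e.symm y), ⟨_, rfl⟩, by ext z; simp [MulAut.congr]⟩

end Cfsg.Agent.M24
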