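import Cfsg.Agent.M24.OutBound
import Cfsg.Agent.M24.Simple

/-!
Generation certificates for the base stabilisers and a lower bound for outer automorphism groups.
-/

set_option autoImplicit false

namespace Cfsg.Agent.M24

open scoped Pointwise

/-- Levels along the base. -/
def baseLevels (j n : ℕ) (trans : List (List ℕ)) : List (List ℕ × ℕ × List ℕ × List ℕ) :=
  (List.range n).map fun k =>
    (baseFx (k + j), base.getD (k + j) 0, orbs.getD (k + j) [], trans.getD k [])

/-- Masks along the dodecad chain. -/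
def dodChain (k : ℕ) : List ℕ := ((dodFive.take k).map fun ic => 2 ^ ic.1).reverse ++ [dod0]

/-- Points along the dodecad chain. -/
def dodPoint (k : ℕ) : ℕ := (dodFive.map fun ic => ic.1).getD k 0

/-- Levels along the dodecad chain. -/
def dodLevels (j n : ℕ) (trans : List (List ℕ)) : List (List ℕ × ℕ × List ℕ × List ℕ) :=
  (List.range n).map fun k =>
    (dodChain (k + j), dodPoint (k + j), sigList (dodChain (k + j)) (dodPoint (k + j)), trans.getD k [])

/-- A generation certificate. -/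
def genOk (gens : List ℕ) (prog : List (ℕ × ℕ × ℕ × ℕ))
    (lv : List (List ℕ × ℕ × List ℕ × List ℕ)) : Bool :=
  gens.all autB && slpOk gens [] prog && levelsOk (prog.map fun e => e.2.1) lv

theorem gen_of_ok {a b c : ℕ} {prog : List (ℕ × ℕ × ℕ × ℕ)}
    {lv : List (List ℕ × ℕ × List ℕ × List ℕ)} (h : genOk [a, b, c] prog lv = true)
    (H : ℕ → Subgroup (Equiv.Perm GolayPt)) (n : ℕ) (hlast : H n = ⊥)
    (hH : ∀ k < n, ∃ e ∈ lv, H k = fixAll e.1 ∧ H (k + 1) = fixAll (2 ^ e.2.1 :: e.1) ∧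
      ∀ g ∈ H k, ix (g (pt e.2.1)) ∈ e.2.2.1) :
    ∀ g ∈ H 0, g ∈ Subgroup.closure {toPerm a, toPerm b, toPerm c} := by
  simp only [genOk, Bool.and_eq_true, List.all_cons, List.all_nil, Bool.and_true] at h
  obtain ⟨⟨⟨ha, hb, hc⟩, hslp⟩, hlv⟩ := h
  have hsub : Subgroup.closure {toPerm a, toPerm b, toPerm c} ≤ M24 := by
    rw [Subgroup.closure_le]
    rintro x (rfl | rfl | rfl)
    exacts [toPerm_mem ha, toPerm_mem hb, toPerm_mem hc]
  have hknown := slp_mem (gens := [a, b, c]) (K := Subgroup.closure {toPerm a, toPerm b, toPerm c})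
    (fun p hp => Subgroup.subset_closure (by
      simp only [List.mem_cons, List.not_mem_nil, or_false] at hp
      rcases hp with rfl | rfl | rfl <;> simp)) prog [] (by simp) hslp
  refine le_closure_of_levels H n (fun k hk g hg => ?_) hlast
  obtain ⟨e, he, h1, h2, h3⟩ := hH k hk
  have hy := h3 g hg
  rw [h1] at hg
  rw [h2]
  exact level_step hsub hknown hlv he hg hy

theorem gen_base {a b c : ℕ} {prog : List (ℕ × ℕ × ℕ × ℕ)} {trans : List (List ℕ)} {j n : ℕ}
    (hn : n + j = 7) (h : genOk [a, b, c] prog (baseLevels j n trans) = true) :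
    ∀ g ∈ fixAll (baseFx j), g ∈ Subgroup.closure {toPerm a, toPerm b, toPerm c} := by
  intro g hg
  refine gen_of_ok h (fun k => fixAll (baseFx (k + j))) n ?_ (fun k hk => ?_) g
    (by show g ∈ fixAll (baseFx (0 + j)); rwa [Nat.zero_add])
  · show fixAll (baseFx (n + j)) = ⊥
    rw [hn, ← stab_eq_fixAll le_rfl, stab_seven]
  · have hkj : k + j < 7 := by omega
    refine ⟨_, List.mem_map.2 ⟨k, List.mem_range.2 hk, rfl⟩, rfl, ?_, fun v hv => ?_⟩
    · show fixAll (baseFx (k + 1 + j)) = _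
      rw [show k + 1 + j = k + j + 1 by omega, baseFx_succ _ hkj]
    · have hv' : v ∈ stab (k + j) := by rw [stab_eq_fixAll hkj.le]; exact hv
      rw [mem_stab hkj.le] at hv'
      exact base_orbit_bound hv'.1 hkj hv'.2

theorem dodChain_succ : ∀ k < 5, dodChain (k + 1) = 2 ^ dodPoint k :: dodChain k ∧ dodPoint k < 24 := by
  decide +kernel

theorem gen_dod {a b c : ℕ} {prog : List (ℕ × ℕ × ℕ × ℕ)} {trans : List (List ℕ)} {j n : ℕ}
    (hn : n + j = 5) (h : genOk [a, b, c] prog (dodLevels j n trans) = true) :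
    ∀ g ∈ fixAll (dodChain j), g ∈ Subgroup.closure {toPerm a, toPerm b, toPerm c} := by
  intro g hg
  refine gen_of_ok h (fun k => fixAll (dodChain (k + j))) n ?_ (fun k hk => ?_) g
    (by show g ∈ fixAll (dodChain (0 + j)); rwa [Nat.zero_add])
  · show fixAll (dodChain (n + j)) = ⊥
    rw [hn]
    have e : dodChain 5 = ((dodFive.map fun ic => 2 ^ ic.1).reverse) ++ [dod0] := by decide +kernel
    rw [e]
    exact Subgroup.card_eq_one.1 card_fixAll_dodFive
  · have hkj : k + j < 5 := by omega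
    refine ⟨_, List.mem_map.2 ⟨k, List.mem_range.2 hk, rfl⟩, rfl, ?_, fun v hv => ?_⟩
    · show fixAll (dodChain (k + 1 + j)) = _
      rw [show k + 1 + j = k + j + 1 by omega, (dodChain_succ _ hkj).1]
    · exact mem_sigList_of_fix hv (dodChain_succ _ hkj).2

theorem card_out_eq_one {D : AutData} (h : Nat.card (Cfsg.Out ↥(fixAll D.fx)) ≤ D.alive.length)
    (hlen : D.alive.length = 1) : Nat.card (Cfsg.Out ↥(fixAll D.fx)) = 1 := by
  have : Finite (MulAut ↥(fixAll D.fx)) :=
    Finite.of_injective (fun φ => (φ : ↥(fixAll D.fx) → ↥(fixAll D.fx))) DFunLike.coe_injective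
  have h0 : 0 < Nat.card (Cfsg.Out ↥(fixAll D.fx)) := Nat.card_pos
  omega

/-- A normalising element whose action is no inner one. -/
theorem two_le_card_out {fx : List ℕ} {σ : Equiv.Perm GolayPt}
    (hσ : ∀ g ∈ fixAll fx, σ * g * σ⁻¹ ∈ fixAll fx) {a a2 : Equiv.Perm GolayPt}
    (ha : a ∈ fixAll fx) (hrel : σ * a = a2 * σ) (hno : ∀ g ∈ fixAll fx, g * a ≠ a2 * g) :
    2 ≤ Nat.card (Cfsg.Out ↥(fixAll fx)) := by
  let f : fixAll fx →* fixAll fx :=
    MonoidHom.mk' (fun g => ⟨σ * g * σ⁻¹, hσ g g.2⟩) fun g h => Subtype.ext (by simp [mul_assoc])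
  have hf : Function.Injective f := fun g h e => Subtype.ext (by
    simpa [f] using congrArg Subtype.val e)
  let φ : MulAut (fixAll fx) := MulEquiv.ofBijective f (Finite.injective_iff_bijective.1 hf)
  have hφ : φ ∉ Cfsg.Inn ↥(fixAll fx) := by
    rintro ⟨g, hg⟩
    have h := congrArg (fun ψ : MulAut (fixAll fx) => ((ψ ⟨a, ha⟩ : fixAll fx) : Equiv.Perm GolayPt)) hg
    simp [φ, f] at h
    refine hno g g.2 ?_
    have e : σ * a * σ⁻¹ = a2 := by rw [hrel, mul_inv_cancel_right]
    rw [e] at h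
    rw [← h, inv_mul_cancel_right]
  have : Finite (MulAut ↥(fixAll fx)) :=
    Finite.of_injective (fun φ => (φ : ↥(fixAll fx) → ↥(fixAll fx))) DFunLike.coe_injective
  have : Nontrivial (Cfsg.Out ↥(fixAll fx)) :=
    ⟨⟨QuotientGroup.mk φ, 1, fun e => hφ ((QuotientGroup.eq_one_iff φ).1 e)⟩⟩
  exact Finite.one_lt_card

theorem card_out_map {G : Type} [Group G] (H : Subgroup (Equiv.Perm GolayPt))
    (f : G →* Equiv.Perm GolayPt) (hf : Function.Injective f) (g : Equiv.Perm GolayPt)
    (h : ∀ v, v ∈ f.range ↔ g⁻¹ * v * g ∈ H) :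
    Nat.card (Cfsg.Out G) = Nat.card (Cfsg.Out ↥H) := by
  have e : (H.map (MulAut.conj g).toMonoidHom) = f.range := by
    ext v
    rw [h v]
    constructor
    · rintro ⟨a, ha, rfl⟩
      simpa [mul_assoc] using ha
    · intro hv
      exact ⟨_, hv, by simp [mul_assoc]⟩
  exact card_out_congr ((MonoidHom.ofInjective hf).trans ((MulEquiv.subgroupCongr e.symm).trans
    (H.equivMapOfInjective _ (MulAut.conj g).injective).symm))

end Cfsg.Agent.M24
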