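import Cfsg.Agent.M24.Code

/-!
Packed permutations, a base and transversals for `Cfsg.M24`.
-/

set_option autoImplicit false

namespace Cfsg.Agent.M24

open scoped Pointwise

/-- Image of point `i` under packed permutation `p`. -/
def papp (p i : ℕ) : ℕ := (p >>> (5 * i)) % 32

/-- Image of a mask. -/
def pimgAux (p m : ℕ) : List ℕ → ℕ
  | [] => 0
  | i :: l => if m.testBit i then 2 ^ papp p i ||| pimgAux p m l else pimgAux p m l

/-- Image of a mask under a packed permutation. -/
def pimg (p m : ℕ) : ℕ := pimgAux p m (List.range 24)

/-- `p` is a permutation of the 24 points. -/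
def okPerm (p : ℕ) : Bool :=
  (List.range 24).all (fun i => decide (papp p i < 24)) && pimg p 16777215 == 16777215

/-- `p` is a permutation preserving the code. -/
def autB (p : ℕ) : Bool := okPerm p && rows.all fun r => inCode (pimg p r)

theorem testBit_pimgAux (p m k : ℕ) :
    ∀ l, (pimgAux p m l).testBit k = true ↔ ∃ i ∈ l, m.testBit i = true ∧ papp p i = k
  | [] => by simp [pimgAux]
  | i :: l => by
    simp only [pimgAux]
    split <;> simp_all [Nat.testBit_or, testBit_pimgAux p m k l, Nat.testBit_two_pow]

theorem testBit_pimg {p m k : ℕ} :
    (pimg p m).testBit k = true ↔ ∃ i < 24, m.testBit i = true ∧ papp p i = k := by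
  simp [pimg, testBit_pimgAux]

theorem testBit_full : ∀ k < 24, Nat.testBit 16777215 k = true := by decide +kernel

/-- The map on points given by a packed permutation. -/
def pfun (p : ℕ) : GolayPt → GolayPt := fun x => pt (papp p (ix x))

open Classical in
/-- The permutation given by a packed permutation (identity when it is not one). -/
noncomputable def toPerm (p : ℕ) : Equiv.Perm GolayPt :=
  if h : Function.Bijective (pfun p) then Equiv.ofBijective _ h else 1

theorem okPerm_lt {p i : ℕ} (h : okPerm p = true) (hi : i < 24) : papp p i < 24 := by
  simp only [okPerm, Bool.and_eq_true, List.all_eq_true, decide_eq_true_eq, List.mem_range] at h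
  exact h.1 i hi

theorem okPerm_bij {p : ℕ} (h : okPerm p = true) : Function.Bijective (pfun p) := by
  refine Finite.surjective_iff_bijective.1 fun y => ?_
  simp only [okPerm, Bool.and_eq_true, beq_iff_eq] at h
  have hy : (pimg p 16777215).testBit (ix y) = true := by rw [h.2]; exact testBit_full _ (ix_lt y)
  obtain ⟨i, hi, -, hpi⟩ := testBit_pimg.1 hy
  exact ⟨pt i, by rw [pfun, ix_pt hi, hpi, pt_ix]⟩

theorem toPerm_apply {p : ℕ} (h : okPerm p = true) (x : GolayPt) :
    toPerm p x = pt (papp p (ix x)) := by
  rw [toPerm, dif_pos (okPerm_bij h)]; rfl

theorem toPerm_pt {p i : ℕ} (h : okPerm p = true) (hi : i < 24) :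
    toPerm p (pt i) = pt (papp p i) := by rw [toPerm_apply h, ix_pt hi]

theorem pimg_lt {p m : ℕ} (h : okPerm p = true) : pimg p m < 2 ^ 24 := by
  refine Nat.lt_pow_two_of_testBit _ fun k hk => ?_
  by_contra hb
  simp only [Bool.not_eq_false] at hb
  obtain ⟨i, hi, -, hpi⟩ := testBit_pimg.1 hb
  have := okPerm_lt h hi
  omega

theorem toSet_pimg {p : ℕ} (h : okPerm p = true) (m : ℕ) :
    toSet (pimg p m) = toPerm p • toSet m := by
  ext y
  rw [mem_toSet, testBit_pimg, Finset.mem_smul_finset]
  constructor
  · rintro ⟨i, hi, hm, hpi⟩
    refine ⟨pt i, mem_toSet.2 (by rwa [ix_pt hi]), ?_⟩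
    rw [Equiv.Perm.smul_def, toPerm_pt h hi, hpi, pt_ix]
  · rintro ⟨x, hx, rfl⟩
    refine ⟨ix x, ix_lt x, mem_toSet.1 hx, ?_⟩
    rw [Equiv.Perm.smul_def, toPerm_apply h, ix_pt (okPerm_lt h (ix_lt x))]

theorem toMask_smul {p : ℕ} (h : okPerm p = true) (s : Finset GolayPt) :
    toMask (toPerm p • s) = pimg p (toMask s) := by
  rw [← toMask_toSet (pimg_lt (m := toMask s) h), toSet_pimg h, toSet_toMask]

theorem support_comp (g : Equiv.Perm GolayPt) (w : GolayPt → ZMod 2) :
    support₂ (fun i => w (g.symm i)) = g • support₂ w := by
  ext i
  simp [support₂, Finset.mem_smul_finset, Equiv.Perm.smul_def]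
  constructor
  · exact fun h => ⟨g.symm i, h, by simp⟩
  · rintro ⟨x, hx, rfl⟩; simpa using hx

theorem mem_M24_of_rows {g : Equiv.Perm GolayPt}
    (h : ∀ r ∈ rows, g • toSet r ∈ supports (golayCode : Set (GolayPt → ZMod 2))) : g ∈ M24 := by
  rw [MulAction.mem_stabilizer_set_iff_smul_set_subset (Set.toFinite _)]
  rintro s ⟨t, ⟨w, hw, rfl⟩, rfl⟩
  have hle : ∀ r ∈ rows, toWord r ∈ golayCode.comap (LinearMap.funLeft (ZMod 2) (ZMod 2) g.symm) := by
    intro r hr
    obtain ⟨v, hv, hs⟩ := h r hr
    rw [Submodule.mem_comap]
    have : LinearMap.funLeft (ZMod 2) (ZMod 2) g.symm (toWord r) = v := by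
      rw [← toWord_support v, hs, ← toWord_support (LinearMap.funLeft _ _ _ _)]
      rw [show support₂ (LinearMap.funLeft (ZMod 2) (ZMod 2) g.symm (toWord r)) = g • toSet r from
        (support_comp g (toWord r)).trans (by rw [support_toWord])]
    rw [this]; exact hv
  refine ⟨fun i => w (g.symm i), ?_, support_comp g w⟩
  rw [SetLike.mem_coe] at hw ⊢
  rw [golayCode_eq] at hw
  obtain ⟨n, -, rfl⟩ := hw
  exact Submodule.mem_comap.1 (comb_mem _ _ hle n)

theorem autB_ok {p : ℕ} (h : autB p = true) : okPerm p = true := by
  simp only [autB, Bool.and_eq_true] at h; exact h.1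

theorem toPerm_mem {p : ℕ} (h : autB p = true) : toPerm p ∈ M24 := by
  refine mem_M24_of_rows fun r hr => ?_
  rw [← toSet_pimg (autB_ok h), mem_supports_iff, toMask_toSet (pimg_lt (autB_ok h))]
  simp only [autB, Bool.and_eq_true, List.all_eq_true] at h
  exact h.2 r hr

theorem smul_mem_supports {g : Equiv.Perm GolayPt} (hg : g ∈ M24) {s : Finset GolayPt} :
    g • s ∈ supports (golayCode : Set (GolayPt → ZMod 2)) ↔
      s ∈ supports (golayCode : Set (GolayPt → ZMod 2)) := by
  conv_lhs => rw [← MulAction.mem_stabilizer_iff.1 hg]
  exact Set.smul_mem_smul_set_iff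

theorem smul_mem_octads {g : Equiv.Perm GolayPt} (hg : g ∈ M24) {s : Finset GolayPt} :
    g • s ∈ octads ↔ s ∈ octads := by
  show g • s ∈ supports _ ∧ _ ↔ s ∈ supports _ ∧ _
  rw [smul_mem_supports hg, Finset.card_smul_finset]

theorem smul_mem_dodecads {g : Equiv.Perm GolayPt} (hg : g ∈ M24) {s : Finset GolayPt} :
    g • s ∈ dodecads ↔ s ∈ dodecads := by
  show g • s ∈ supports _ ∧ _ ↔ s ∈ supports _ ∧ _
  rw [smul_mem_supports hg, Finset.card_smul_finset]

/-- The seven base points. -/
def base : List ℕ := [0, 1, 2, 3, 4, 7, 5]

/-- Transversals along the base. -/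
def trans : List (List ℕ) :=
  [[61438535245457895893152030989587648, 647831152652087411868913813109968033, 929887082773371670186918973747151042, 550408133813033968869322928746023139, 631811102479051050975614865800961700, 375294900377617674316764844058611973, 723602362580889875166280142161682822, 966462490248189652040517146902643079, 849084624562768777980388695008949640, 170747097828068976533186450339960457, 219923690912012299750168399659932778, 938769442469919216750514569885555787, 45865212489816048274790522662959596, 8250053604930322584573304284830989, 547831222725326507340660640682483438, 845551261507793199883998156180064815, 426690096591867521513726439107888528, 773011424262695381807913918781207729, 569986439628318792526934135326360914, 499850093720888777767135991663336563, 93038324146049229045676777842202964, 14487197656303140674963047389372885, 42010042539718748682685256861957302, 718138191488381681017988044856342871],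
   [308443808423206633539853462027806752, 302943832841706329038230577165875264, 397886632810722744816185758647043168, 55467917957899596216223551304832128, 317231387945912584614053850572754080, 551219293220964743826608168127304896, 940154720400102364250752219253083360, 279987467469443901794063140492742912, 850746437506208436111232663117056288, 194917256304647498064106956409802048, 521315569274764626324774946923423072, 475521142771595617724777807647724928, 64116796394454064673458444334911904, 692222426912560979100106778175284672, 675701251448910412118491250301688288, 724575958110771255243240956629193216, 833865212665968892436127335176573472, 103418291114774072092759277229477440, 722154823995989757128712386950570592, 511501696083608404127912341303150208, 859662625286211000447037795306943136, 109621535608144942798336454780693184, 727044785290796809310580133206306528],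
   [310942392980256559279300242359650336, 351240045332657835358944533402881056, 719604011443235044485743314718134304, 141141578568135608991342937183523872, 712210104343208173761269058256607264, 592182089739490664655454946888653856, 635168233777224855107668782215831584, 846770403268248867856948737168745504, 984332041877077736927449679906056224, 875437335281136492779983873739664416, 236536682705280631366901531714629664, 896025648343865994187134464071775264, 235410484013023463692781534218467360, 669266769131154373894874111934708768, 210555627354266625594587999150456864, 438888911905207713665236194325349408, 350975795431502745794388190962436128, 221429788330215723112494977143655456, 800081126069398731533457877354336288, 271433317937265394142656361670104096, 593854033139115865234052684623304736, 717153573410605613147094711960820768],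
   [355274702906918710610562399035557920, 225270966551694235357561899370809376, 936282121601177513407852964871309344, 604508635936634181095215606027978784, 714068152892807792072448313374509088, 806274175890340725375310618296584224, 439287013719036252050226267170310176, 253676512037791286387759783577192480, 179481844702663138630649956321822752, 319587042663325576263949035130718240, 279506279369280614392080824517691424, 193843085176640719759164782304233504, 759633972504872337618841500634286112, 842983319043273052066198769070770208, 430570545257312619056744735093327904, 212047809178123858020286364219148320, 339502724087790454807167330407778336, 645288047160329282091066664937981984, 301298230992408108604181658419759136, 759930726866608523370802024478869536, 276100778461514344512760939102832672],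
   [886929711944160005978619293296855072, 426318963765105611823003890902730784, 965128854020860192151391391390468128, 610933131142657984725827468219484192, 184720237130341263748001489676765216, 173512830665269502364956658685282336, 808159330828538865140513314105821216, 803088012863649400888705605971314720, 395370295613372242423593007992375328, 344490037891099063757771509091895328, 838853222281003531543331689327593504, 181260668964384481632059943482918944, 756076540662750665630442456373889056, 186175669606157757006633428547897376, 801333214316657316050345108344768544, 965225113279737155758354497310656544, 818076703699077250785951928931158048, 392194110380812959077775294722050080, 221305709495027640291057569034766368, 897362743766846125475622067536758816],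
   [984818244535754528103549039458486304, 351355605056243205221527583111350304, 260169027461259500880655131087046688],
   [984818244535754528103549039458486304, 479663310730678034207776437455390752, 651239579074641248992907580101724192, 944319304547998642267612847938832416, 268195153026948482477577069584812064, 772944516003414818434737759861180448, 720981692062171673584743151055243296, 358662142733855540651195105552730144, 812852730107173232200347929486133280, 590072960059042287979885064796342304, 561475773312554808336860583768983584, 681942991418186671700734416290678816, 892716570080838209712931004353710112, 841384528646309054241536335100872736, 380679813245078647833929983948064800, 220213109803259289183002082616117280]]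

/-- Orbits along the base. -/
def orbs : List (List ℕ) :=
  [[0, 1, 2, 3, 4, 5, 6, 7, 8, 9, 10, 11, 12, 13, 14, 15, 16, 17, 18, 19, 20, 21, 22, 23],
   [1, 2, 3, 4, 5, 6, 7, 8, 9, 10, 11, 12, 13, 14, 15, 16, 17, 18, 19, 20, 21, 22, 23],
   [2, 3, 4, 5, 6, 7, 8, 9, 10, 11, 12, 13, 14, 15, 16, 17, 18, 19, 20, 21, 22, 23],
   [3, 4, 5, 6, 7, 8, 9, 10, 11, 12, 13, 14, 15, 16, 17, 18, 19, 20, 21, 22, 23],
   [4, 5, 6, 7, 8, 9, 10, 11, 12, 13, 14, 15, 16, 17, 18, 19, 20, 21, 22, 23],
   [7, 10, 12],
   [5, 6, 8, 9, 11, 13, 14, 15, 16, 17, 18, 19, 20, 21, 22, 23]]

/-- Steps showing that the base points fix everything. -/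
def closSteps : List (ℕ × List ℕ) := [(6, [2162811, 262637]), (8, [1065303, 8421811]), (9, [4196943, 786999]), (10, [5279, 6292775]), (11, [4196943, 1116327]), (12, [5279]), (13, [140167, 45159]), (14, [8536111, 1065303]), (15, [622863, 2263063]), (16, [622863, 12656663]), (17, [8536111, 2263063]), (18, [3416079, 786999]), (19, [622863]), (20, [3416079, 1065303]), (21, [3416079]), (22, [4196943]), (23, [])]

theorem trans_ok : (List.range 7).all (fun k => (trans.getD k []).all fun p => autB p &&
    (base.take k).all fun b => papp p b == b) = true := by decide +kernel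

theorem trans_orbs : (List.range 7).all (fun k =>
    (trans.getD k []).map (fun p => papp p (base.getD k 0)) == orbs.getD k []) = true := by
  decide +kernel

theorem base_lt : ∀ b ∈ base, b < 24 := by decide +kernel

/-- All points whose numbers lie in the mask are fixed. -/
def FixMask (g : Equiv.Perm GolayPt) (m : ℕ) : Prop := ∀ i ∈ toSet m, g i = i

/-- Check of one closure step. -/
def stepOk (F x : ℕ) (os : List ℕ) : Bool :=
  decide (x < 24) && os.all (fun o => inCode o && decide (pc o = 8) && decide (5 ≤ pc (o &&& F))) &&
    os.foldl (fun a o => a &&& o) (16777215 ^^^ F) == 2 ^ x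

/-- Check of a chain of closure steps. -/
def chainOk : ℕ → List (ℕ × List ℕ) → Bool
  | F, [] => F == 16777215
  | F, (x, os) :: l => stepOk F x os && chainOk (F ||| 2 ^ x) l

theorem testBit_foldl_and (k : ℕ) : ∀ (os : List ℕ) (a : ℕ),
    (os.foldl (fun a o => a &&& o) a).testBit k = true ↔
      a.testBit k = true ∧ ∀ o ∈ os, o.testBit k = true
  | [], a => by simp
  | o :: os, a => by simp [testBit_foldl_and k os, and_assoc]

theorem step_fix {g : Equiv.Perm GolayPt} (hg : g ∈ M24) {F x : ℕ} {os : List ℕ}
    (hF : FixMask g F) (h : stepOk F x os = true) : FixMask g (F ||| 2 ^ x) := by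
  simp only [stepOk, Bool.and_eq_true, decide_eq_true_eq, List.all_eq_true, beq_iff_eq] at h
  obtain ⟨⟨hx, hos⟩, hfold⟩ := h
  intro i hi
  rw [toSet_or, Finset.mem_union] at hi
  rcases hi with hi | hi
  · exact hF i hi
  rw [mem_toSet, Nat.testBit_two_pow] at hi
  have hix : ix i = x := (of_decide_eq_true hi).symm
  by_contra hne
  have hall : (os.foldl (fun a o => a &&& o) (16777215 ^^^ F)).testBit (ix (g i)) = true := by
    rw [testBit_foldl_and]
    refine ⟨?_, fun o ho => ?_⟩
    · have hnF : ¬ (g i ∈ toSet F) := fun hm => hne (g.injective (hF _ hm))
      rw [mem_toSet] at hnF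
      simp [Nat.testBit_xor, testBit_full _ (ix_lt (g i)), hnF]
    · obtain ⟨⟨hc, hw⟩, h5⟩ := hos o ho
      have hoct : toSet o ∈ octads := by
        rw [mem_octads_iff, toMask_toSet (inCode_lt hc)]; exact ⟨hc, hw⟩
      have hxo : i ∈ toSet o := by
        have h2 : (os.foldl (fun a o => a &&& o) (16777215 ^^^ F)).testBit x = true := by
          rw [hfold]; simp
        rw [mem_toSet, hix]
        exact ((testBit_foldl_and _ _ _).1 h2).2 o ho
      have heq : g • toSet o = toSet o := by
        refine octad_eq_of_inter ((smul_mem_octads hg).2 hoct) hoct (h5.trans ?_)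
        rw [← card_toSet, toSet_and]
        refine Finset.card_le_card fun j hj => ?_
        rw [Finset.mem_inter] at hj ⊢
        refine ⟨Finset.mem_smul_finset.2 ⟨j, hj.1, ?_⟩, hj.1⟩
        exact hF j hj.2
      have := Finset.smul_mem_smul_finset (a := g) hxo
      rw [heq] at this
      exact mem_toSet.1 this
  rw [hfold, Nat.testBit_two_pow] at hall
  exact hne (ix_injective ((of_decide_eq_true hall).symm.trans hix.symm))

theorem chain_fix {g : Equiv.Perm GolayPt} (hg : g ∈ M24) :
    ∀ (l : List (ℕ × List ℕ)) (F : ℕ), FixMask g F → chainOk F l = true → g = 1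
  | [], F, hF, h => by
    simp only [chainOk, beq_iff_eq] at h
    subst h
    exact Equiv.ext fun i => hF i (mem_toSet.2 (testBit_full _ (ix_lt i)))
  | (x, os) :: l, F, hF, h => by
    simp only [chainOk, Bool.and_eq_true] at h
    exact chain_fix hg l _ (step_fix hg hF h.1) h.2

theorem closSteps_ok : chainOk (base.foldl (fun a b => a ||| 2 ^ b) 0) closSteps = true := by
  decide +kernel

theorem eq_one_of_base {g : Equiv.Perm GolayPt} (hg : g ∈ M24)
    (h : ∀ b ∈ base, g (pt b) = pt b) : g = 1 := by
  refine chain_fix hg _ _ ?_ closSteps_ok
  have key : ∀ i, (base.foldl (fun a b => a ||| 2 ^ b) 0).testBit (ix i) = true → ix i ∈ base := by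
    decide +kernel
  intro i hi
  have := h _ (key i (mem_toSet.1 hi))
  rwa [pt_ix] at this

theorem base_orbit_bound {g : Equiv.Perm GolayPt} (hg : g ∈ M24) {k : ℕ} (hk : k < 7)
    (h : ∀ b ∈ base.take k, g (pt b) = pt b) : ix (g (pt (base.getD k 0))) ∈ orbs.getD k [] := by
  have hb : ∀ k < 7, base.getD k 0 < 24 := by decide +kernel
  have hne : ∀ b ∈ base.take k, ix (g (pt (base.getD k 0))) ≠ b := by
    have hnd : ∀ k < 7, ∀ b ∈ base.take k, base.getD k 0 ≠ b := by decide +kernel
    intro b hbm hEq
    have hbl : b < 24 := base_lt b (List.mem_of_mem_take hbm)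
    have : g (pt (base.getD k 0)) = g (pt b) := by rw [h b hbm, ← hEq, pt_ix]
    exact hnd k hk b hbm (pt_inj (hb k hk) hbl (g.injective this))
  have hfix : 5 ≤ k → g • toSet 5279 = toSet 5279 := by
    intro h5
    have hoct : toSet 5279 ∈ octads := by
      rw [mem_octads_iff, toMask_toSet (by norm_num)]; decide +kernel
    refine octad_eq_of_inter ((smul_mem_octads hg).2 hoct) hoct (le_trans ?_ (Finset.card_le_card
      (s := ((base.take 5).map pt).toFinset) ?_))
    · decide +kernel
    · intro i hi
      rw [List.mem_toFinset, List.mem_map] at hi
      obtain ⟨b, hbm, rfl⟩ := hi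
      have hin : ∀ b ∈ base.take 5, pt b ∈ toSet 5279 := by decide +kernel
      have hbk : b ∈ base.take k := (List.take_subset_take_left base h5) hbm
      exact Finset.mem_inter.2
        ⟨Finset.mem_smul_finset.2 ⟨_, hin b hbm, h b hbk⟩, hin b hbm⟩
  have hiff : 5 ≤ k → ((5279 : ℕ).testBit (ix (g (pt (base.getD k 0)))) =
      (5279 : ℕ).testBit (base.getD k 0)) := by
    intro h5
    rw [Bool.eq_iff_iff, ← mem_toSet]
    conv_lhs => rw [← hfix h5, ← Equiv.Perm.smul_def, Finset.smul_mem_smul_finset_iff]
    rw [mem_toSet, ix_pt (hb k hk)]
  have key : ∀ k < 7, ∀ y < 24, ((base.take k).any (fun b => y == b) ||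
      (decide (5 ≤ k) && ((5279 : ℕ).testBit y != (5279 : ℕ).testBit (base.getD k 0))) ||
      (orbs.getD k []).contains y) = true := by decide +kernel
  have h' := key k hk _ (ix_lt (g (pt (base.getD k 0))))
  simp only [Bool.or_eq_true, List.any_eq_true, beq_iff_eq, Bool.and_eq_true, decide_eq_true_eq,
    List.contains_iff_mem] at h'
  rcases h' with (⟨b, hb', hy⟩ | ⟨h5, hne'⟩) | h'
  · exact absurd hy (hne b hb')
  · exact absurd (hiff h5) (bne_iff_ne.1 hne')
  · exact h'

end Cfsg.Agent.M24
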