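import Mathlib

/-!
Two criteria for simplicity of a group of permutations doubly transitive on an invariant set.
-/

set_option autoImplicit false

namespace Cfsg.Agent.M24

variable {α : Type*} [Finite α] [DecidableEq α]

/-- A normal subgroup, seen inside the ambient symmetric group, is closed under conjugation. -/
theorem conj_mem_normal {H : Subgroup (Equiv.Perm α)} (N : Subgroup H) [hN : N.Normal] {n h : H}
    (hn : n ∈ N) : h * n * h⁻¹ ∈ N := hN.conj_mem n hn h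

theorem orbit_normal {H : Subgroup (Equiv.Perm α)} {Ω : Finset α}
    (hinv : ∀ g ∈ H, ∀ x ∈ Ω, g x ∈ Ω) (hfaith : ∀ g ∈ H, (∀ x ∈ Ω, g x = x) → g = 1)
    (h2 : ∀ x ∈ Ω, ∀ y ∈ Ω, ∀ z ∈ Ω, x ≠ y → x ≠ z → ∃ g ∈ H, g x = x ∧ g y = z)
    (N : Subgroup H) [N.Normal] (hN : N ≠ ⊥) {x : α} (hx : x ∈ Ω) :
    MulAction.orbit N x = (Ω : Set α) := by
  obtain ⟨n, hn, hn1⟩ := (Subgroup.ne_bot_iff_exists_ne_one.1 hN).elim
    fun n hn => (⟨n.1, n.2, fun h => hn (Subtype.ext h)⟩ : ∃ n : H, n ∈ N ∧ n ≠ 1)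
  obtain ⟨a, ha, hna⟩ : ∃ a ∈ Ω, (n : Equiv.Perm α) a ≠ a := by
    by_contra h
    push Not at h
    exact hn1 (Subtype.ext (hfaith _ n.2 h))
  have hmove : ∃ m : H, m ∈ N ∧ (m : Equiv.Perm α) x ≠ x := by
    by_cases hax : a = x
    · exact ⟨n, hn, hax ▸ hna⟩
    · by_cases hnx : (n : Equiv.Perm α) x = x
      · have hnax : (n : Equiv.Perm α) a ≠ x := fun e =>
          hax ((n : Equiv.Perm α).injective (e.trans hnx.symm))
        obtain ⟨g, hg, hga, hgx⟩ := h2 _ (hinv _ n.2 a ha) a ha x hx hna hnax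
        refine ⟨⟨g, hg⟩ * n * ⟨g, hg⟩⁻¹, conj_mem_normal N hn, ?_⟩
        show g ((n : Equiv.Perm α) (g⁻¹ x)) ≠ x
        rw [show g⁻¹ x = a by rw [Equiv.Perm.inv_eq_iff_eq, hgx], hga]
        exact hnax
      · exact ⟨n, hn, hnx⟩
  obtain ⟨m, hm, hmx⟩ := hmove
  ext y
  constructor
  · rintro ⟨k, rfl⟩
    exact hinv _ (k : H).2 x hx
  · intro hy
    by_cases hxy : x = y
    · exact hxy ▸ MulAction.mem_orbit_self x
    · obtain ⟨g, hg, hgx, hgy⟩ := h2 x hx _ (hinv _ m.2 x hx) y hy (Ne.symm hmx) hxy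
      refine ⟨⟨⟨g, hg⟩ * m * ⟨g, hg⟩⁻¹, conj_mem_normal N hm⟩, ?_⟩
      show g ((m : Equiv.Perm α) (g⁻¹ x)) = y
      rw [show g⁻¹ x = x by rw [Equiv.Perm.inv_eq_iff_eq, hgx], hgy]

theorem card_dvd_normal {H : Subgroup (Equiv.Perm α)} {Ω : Finset α}
    (hinv : ∀ g ∈ H, ∀ x ∈ Ω, g x ∈ Ω) (hfaith : ∀ g ∈ H, (∀ x ∈ Ω, g x = x) → g = 1)
    (h2 : ∀ x ∈ Ω, ∀ y ∈ Ω, ∀ z ∈ Ω, x ≠ y → x ≠ z → ∃ g ∈ H, g x = x ∧ g y = z)
    (N : Subgroup H) [N.Normal] (hN : N ≠ ⊥) {x : α} (hx : x ∈ Ω) :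
    Ω.card * Nat.card (MulAction.stabilizer N x) = Nat.card N := by
  have h := Nat.card_congr (MulAction.orbitProdStabilizerEquivGroup N x)
  rw [Nat.card_prod, orbit_normal hinv hfaith h2 N hN hx, Nat.card_coe_set_eq,
    Set.ncard_coe_finset] at h
  exact h

/-- Doubly transitive, with a prime dividing the degree once and generated by elements of that order. -/
theorem isSimpleGroup_of_prime {H : Subgroup (Equiv.Perm α)} {Ω : Finset α} {p : ℕ} [Fact p.Prime]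
    (hinv : ∀ g ∈ H, ∀ x ∈ Ω, g x ∈ Ω) (hfaith : ∀ g ∈ H, (∀ x ∈ Ω, g x = x) → g = 1)
    (h2 : ∀ x ∈ Ω, ∀ y ∈ Ω, ∀ z ∈ Ω, x ≠ y → x ≠ z → ∃ g ∈ H, g x = x ∧ g y = z)
    (hne : Ω.Nonempty) (hp : p ∣ Ω.card) (hdvd : p ∣ Nat.card H) (hp2 : ¬ p ^ 2 ∣ Nat.card H)
    (hgen : ∀ g ∈ H, g ∈ Subgroup.closure {a | a ∈ H ∧ a ^ p = 1}) : IsSimpleGroup H := by
  have : Nontrivial H := by
    by_contra h
    rw [not_nontrivial_iff_subsingleton] at h
    rw [Nat.card_unique] at hdvd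
    exact (Fact.out : p.Prime).ne_one (Nat.dvd_one.1 hdvd)
  refine ⟨fun N hNn => ?_⟩
  rcases eq_or_ne N ⊥ with h | hN
  · exact Or.inl h
  right
  obtain ⟨x, hx⟩ := hne
  have hpN : p ∣ Nat.card N := hp.trans ⟨_, (card_dvd_normal hinv hfaith h2 N hN hx).symm⟩
  have hmem : ∀ a : H, a ^ p = 1 → a ∈ N := by
    intro a ha
    by_contra haN
    have hq : orderOf (QuotientGroup.mk a : H ⧸ N) = p :=
      orderOf_eq_prime (by rw [← QuotientGroup.mk_pow, ha, QuotientGroup.mk_one])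
        (fun e => haN ((QuotientGroup.eq_one_iff a).1 e))
    have h1 : p ∣ N.index := hq ▸ orderOf_dvd_natCard _
    exact hp2 (pow_two p ▸ N.card_mul_index ▸ Nat.mul_dvd_mul hpN h1)
  refine eq_top_iff.2 fun g _ => ?_
  have hle : Subgroup.closure {a | a ∈ H ∧ a ^ p = 1} ≤ N.map H.subtype := by
    rw [Subgroup.closure_le]
    rintro a ⟨ha, hap⟩
    exact ⟨⟨a, ha⟩, hmem _ (Subtype.ext hap), rfl⟩
  obtain ⟨b, hb, e⟩ := hle (hgen g g.2)
  exact Subtype.ext e ▸ hb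

/-- Doubly transitive with simple point stabiliser and a degree with two prime divisors. -/
theorem isSimpleGroup_of_stabilizer {H : Subgroup (Equiv.Perm α)} {Ω : Finset α} {q r : ℕ}
    [Fact q.Prime] [Fact r.Prime] (hqr : q ≠ r)
    (hinv : ∀ g ∈ H, ∀ x ∈ Ω, g x ∈ Ω) (hfaith : ∀ g ∈ H, (∀ x ∈ Ω, g x = x) → g = 1)
    (h2 : ∀ x ∈ Ω, ∀ y ∈ Ω, ∀ z ∈ Ω, x ≠ y → x ≠ z → ∃ g ∈ H, g x = x ∧ g y = z)
    (x : α) (hx : x ∈ Ω) (hq : q ∣ Ω.card) (hr : r ∣ Ω.card)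
    [hK : IsSimpleGroup ↥(H ⊓ MulAction.stabilizer (Equiv.Perm α) x)] : IsSimpleGroup H := by
  have : Nontrivial H := by
    obtain ⟨a, b, hab⟩ := exists_pair_ne ↥(H ⊓ MulAction.stabilizer (Equiv.Perm α) x)
    exact ⟨⟨a.1, a.2.1⟩, ⟨b.1, b.2.1⟩, fun e =>
      hab (Subtype.ext (congrArg (fun h : H => (h : Equiv.Perm α)) e : _))⟩
  refine ⟨fun N hNn => ?_⟩
  rcases eq_or_ne N ⊥ with h | hN
  · exact Or.inl h
  right
  set K := H ⊓ MulAction.stabilizer (Equiv.Perm α) x with hKdef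
  let f : K →* H := Subgroup.inclusion inf_le_left
  rcases IsSimpleGroup.eq_bot_or_eq_top_of_normal (N.comap f) (hNn.comap f) with h | h
  · exfalso
    have hstab : ∀ n : H, n ∈ N → (n : Equiv.Perm α) x = x → n = 1 := by
      intro n hn hnx
      have hm : (⟨n.1, n.2, hnx⟩ : K) ∈ N.comap f := hn
      rw [h, Subgroup.mem_bot] at hm
      have := congrArg (fun k : K => (k : Equiv.Perm α)) hm
      exact Subtype.ext this
    have hcard : Nat.card N = Ω.card := by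
      rw [← card_dvd_normal hinv hfaith h2 N hN hx]
      have : MulAction.stabilizer N x = ⊥ := by
        rw [eq_bot_iff]
        intro n hn
        exact Subgroup.mem_bot.2 (Subtype.ext (hstab n n.2 hn))
      rw [this]; simp
    obtain ⟨a, ha⟩ := exists_prime_orderOf_dvd_card' q (hcard ▸ hq : q ∣ Nat.card N)
    obtain ⟨b, hb⟩ := exists_prime_orderOf_dvd_card' r (hcard ▸ hr : r ∣ Nat.card N)
    have hne1 : ∀ (n : N) (l : ℕ), l.Prime → orderOf n = l → ((n : H) : Equiv.Perm α) x ≠ x := by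
      intro n l hl hn e
      have h1 : n = 1 := Subtype.ext (hstab n n.2 e)
      rw [h1, orderOf_one] at hn
      exact hl.ne_one hn.symm
    obtain ⟨g, hg, hgx, hgy⟩ := h2 x hx _ (hinv _ (a : H).2 x hx) _ (hinv _ (b : H).2 x hx)
      (Ne.symm (hne1 a q Fact.out ha)) (Ne.symm (hne1 b r Fact.out hb))
    have heq : (b : H)⁻¹ * (⟨g, hg⟩ * a * ⟨g, hg⟩⁻¹) = 1 := by
      refine hstab _ (N.mul_mem (N.inv_mem b.2) (conj_mem_normal N a.2)) ?_
      show ((b : H) : Equiv.Perm α)⁻¹ (g (((a : H) : Equiv.Perm α) (g⁻¹ x))) = x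
      rw [show g⁻¹ x = x by rw [Equiv.Perm.inv_eq_iff_eq, hgx], hgy]
      simp
    have := congrArg orderOf (inv_mul_eq_one.1 heq)
    rw [Subgroup.orderOf_coe, hb, ← MulAut.conj_apply, MulEquiv.orderOf_eq, Subgroup.orderOf_coe,
      ha] at this
    exact hqr this.symm
  · refine eq_top_iff.2 fun g _ => ?_
    obtain ⟨n, hn⟩ : (g : Equiv.Perm α) x ∈ MulAction.orbit N x := by
      rw [orbit_normal hinv hfaith h2 N hN hx]; exact hinv _ g.2 x hx
    have hk : ((n : H)⁻¹ * g : H) ∈ N := by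
      have hfix : (((n : H)⁻¹ * g : H) : Equiv.Perm α) ∈ K := by
        refine ⟨((n : H)⁻¹ * g).2, MulAction.mem_stabilizer_iff.2 ?_⟩
        show ((n : H) : Equiv.Perm α)⁻¹ ((g : Equiv.Perm α) x) = x
        rw [← hn]
        show ((n : H) : Equiv.Perm α)⁻¹ (((n : H) : Equiv.Perm α) x) = x
        simp
      have hmem : (⟨_, hfix⟩ : K) ∈ N.comap f := by rw [h]; exact Subgroup.mem_top _
      exact hmem
    have := N.mul_mem n.2 hk
    rwa [mul_inv_cancel_left] at this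

end Cfsg.Agent.M24
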