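import Cfsg.Agent.M24.Suborbit

/-!
Orbit data for triads and duads.
-/

set_option autoImplicit false

namespace Cfsg.Agent.M24.SmallOrb

/-- layer -/
def tri0L0P0 : List (List ℕ) := [[0, 1, 2]]

/-- layer -/
def tri0L1P0 : List (List ℕ) := [[0, 1, 2], [0, 2], [0, 1, 2]]

/-- layer -/
def tri0L2P0 : List (List ℕ) := [[0, 1, 2], [0, 2], [0, 1, 2], [1, 2], [0, 1, 2], [0, 1, 2], [0], [0, 1, 2]]

/-- layer -/
def tri0L3P0 : List (List ℕ) := [[1, 2], [0, 2], [0, 1, 2], [0, 1, 2], [0, 1, 2], [0, 2], [2], [0, 1, 2], [0, 2], [0, 2], [0, 1, 2], [0, 2], [0, 1, 2], [1, 2], [0], [0, 1, 2], [0, 1, 2], [0, 1, 2], [2], [1, 2]]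

/-- layer -/
def tri0L4P0 : List (List ℕ) := [[0], [0, 2], [1], [0, 1, 2], [0, 1], [2], [1], [1, 2], [0, 2], [0, 1, 2], [2], [], [2], [2], [0, 2], [0, 1, 2], [0, 1], [0], [0, 1, 2], [0, 1, 2], [0], [0, 2], [0, 2], [], [], [2], [0, 1, 2], [1, 2], [0, 1], [], [2], [0], [0, 1, 2], [2], [0, 1, 2], [0], [2], [1, 2], [0], [2], [], [0], [1], [2], [2], [1, 2]]

/-- layer -/
def tri0L5P0 : List (List ℕ) := [[0, 1, 2], [2], [0], [0, 2], [2], [], [], [0], [0], [2], [2], [0], [0], [0], [0], [0], [0], [], [0], [], [0, 2], [2], [0, 2], [], [], [1, 2], [2], [2], [2], [], [0, 2], [1], [], [0], [], [], [], [], [], [0, 2], [], [], [2], [], [2], [0, 1, 2], [], [], [0], [], [], [], [], [1], [], [], [], [], [0], [0], [1], [2], [0], [], [], [], [], [0, 2], [2]]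

/-- layer -/
def tri0L6P0 : List (List ℕ) := [[], [], [], [], [1], [], [], [2], [], [2], [0], [0], [], [], [], [2], [], [], [1], [], [], [], [], [], [], [], [], [2], [0], [], [], [], [], [], [], [], [0, 1], [], [], [], [], [], [], [], [0], [], [], [2], [], []]

/-- layers -/
def tri0 : List (List (List ℕ)) := [tri0L0P0, tri0L1P0, tri0L2P0, tri0L3P0, tri0L4P0, tri0L5P0, tri0L6P0]

/-- layer -/
def tri1L0P0 : List (List ℕ) := [[0, 1, 2]]

/-- layer -/
def tri1L1P0 : List (List ℕ) := [[0, 1, 2], [0, 2], [0, 1, 2]]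

/-- layer -/
def tri1L2P0 : List (List ℕ) := [[0, 1, 2], [0, 2], [0, 1, 2], [0, 2], [0, 1, 2], [0, 1, 2], [0, 2], [0, 1, 2]]

/-- layer -/
def tri1L3P0 : List (List ℕ) := [[0, 1, 2], [0, 2], [0, 1, 2], [0, 1, 2], [0, 1, 2], [0, 1, 2], [0, 2], [0, 1, 2], [0, 1, 2], [0, 1, 2], [0, 1, 2], [0, 2], [0, 1, 2], [0, 1, 2], [0, 2], [0, 1, 2], [0, 1, 2], [0, 1, 2], [0, 1, 2], [0, 2], [1, 2]]

/-- layer -/
def tri1L4P0 : List (List ℕ) := [[0, 1, 2], [0, 2], [0, 1, 2], [0, 1, 2], [0, 1, 2], [0, 1, 2], [0], [0, 1, 2], [1, 2], [0, 2], [0, 1], [1, 2], [0, 2], [0, 1, 2], [0, 1, 2], [0, 2], [0, 1, 2], [2], [0, 1, 2], [0, 1, 2], [], [0, 2], [0, 1, 2], [0, 2], [0, 1, 2], [0, 2], [0], [0, 1, 2], [1, 2], [0, 2], [0, 1, 2], [0, 1, 2], [0, 1, 2], [0, 1, 2], [0, 2], [0, 1, 2], [0, 1, 2], [0, 2], [0, 1, 2], [0, 1], [0, 1, 2], [0, 1, 2], [0, 2], [0, 1, 2], [0, 1, 2], [0], [0, 1, 2], [0, 1, 2], [0, 2], [0, 1, 2], [0, 1, 2], [0, 2], [1],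 [0, 1, 2], [0, 1], [0, 2], [1, 2]]

/-- layer -/
def tri1L5P0 : List (List ℕ) := [[1, 2], [0, 2], [0, 1, 2], [0, 2], [0, 1, 2], [0, 2], [0, 2], [0, 2], [0, 2], [2], [], [0, 1, 2], [0, 2], [1, 2], [0, 1, 2], [0, 2], [0, 1, 2], [0, 1, 2], [1, 2], [0, 2], [0, 1, 2], [0, 2], [0, 2], [0, 1, 2], [0, 1, 2], [0, 2], [0, 2], [0, 2], [0, 2], [0, 1, 2], [0, 1, 2], [0, 1, 2], [0], [0, 2], [0, 1, 2], [2], [0, 1, 2], [0, 2], [0, 1, 2], [2], [2], [0, 1, 2], [0, 1, 2], [0, 2], [0, 2], [0, 1, 2], [1, 2], [0, 2], [0, 1, 2], [0, 2], [0, 2], [0, 2], [0], [0, 1, 2], [1], [0, 2], [1, 2], [2], [0, 1, 2], [0, 1, 2], [0, 2], [0, 2], [0, 1, 2], [], [1], [0, 2], [0, 1, 2], [0, 1], [0], [0, 1, 2], [0], [0, 2], [1], [0, 2], [0, 1], [0, 1, 2], [0, 2], [0, 1, 2], [1, 2], [0], [0, 1, 2], [1, 2], [0, 1, 2], [0, 1], [0, 2], [0, 1, 2], [0, 1], [0, 2], [0, 1, 2], [0], [0, 1], [0, 1, 2], [2], [0, 1, 2], [0, 2], [2], [0, 1, 2], [0], [2], [0, 1, 2],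 [0], [1, 2], [1, 2], [0, 1, 2], [0, 1], [2], [0, 1], [0, 1], [0], [0, 1, 2], [1, 2], [0, 1, 2], [2], [1, 2], [0, 1], [], [0, 2], [0, 1], [0, 2], [1, 2], [2], [1, 2], [0, 1, 2], [], [0], [1, 2], [0, 2], [0]]

/-- layer -/
def tri1L5P1 : List (List ℕ) := [[0, 2], [2], [], [0, 1, 2], [0, 2], [0, 1, 2], [0, 1, 2], [0, 2], [0, 2]]

/-- layer -/
def tri1L6P0 : List (List ℕ) := [[0, 2], [0], [0, 1, 2], [0, 2], [0, 1, 2], [0], [1, 2], [0, 2], [1, 2], [2], [0, 2], [2], [2], [], [1, 2], [0, 1], [0, 2], [0, 1, 2], [0, 1], [0, 1], [0], [0, 1, 2], [0, 2], [2], [0, 1, 2], [1, 2], [0, 2], [1, 2], [0, 1], [2], [0, 1], [], [0, 2], [1], [2], [0, 1, 2], [0], [0], [0, 2], [0], [1], [0, 2], [1, 2], [0, 1], [2], [1, 2], [1], [0], [0, 1], [0, 2], [], [0], [0, 1], [0], [0, 2], [1], [2], [0, 1], [0], [2], [0, 1], [0, 1], [2], [0, 1, 2], [1], [2], [], [0, 1], [], [0, 1], [2], [0, 2], [], [0, 1, 2], [0, 1, 2], [0, 1, 2], [0, 2], [2], [0,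 2], [1, 2], [1], [2], [0], [0], [0, 1], [2], [2], [1], [0, 1, 2], [0], [1], [2], [1], [0, 1, 2], [2], [0, 2], [1], [0], [0, 2], [1, 2], [0], [0, 2], [0], [0, 2], [1, 2], [0, 1, 2], [0, 2], [0, 2], [0, 2], [0, 2], [0, 1], [0], [0, 1, 2], [0, 2], [1], [0, 2], [1, 2], [], [2], [0, 1, 2], [], [0, 1, 2], [], [0, 2], [0, 1, 2], [1, 2], [0], []]

/-- layer -/
def tri1L6P1 : List (List ℕ) := [[1], [0], [], [1, 2], [1, 2], [], [2], [0], [0], [2], [1], [0, 2], [2], [1, 2], [0, 1], [], [0, 1, 2], [2], [0, 2], [1, 2], [], [2], [0], [1, 2], [0, 2], [0, 1, 2], [], [0, 2], [2], [1, 2], [0, 2], [1], [0], [2], [0], [0, 1, 2], [0], [], [0, 1, 2], [], [1], [0], [1], [], [0, 2], [0, 2], [0], [0, 1], [], [0, 1, 2], [2], [0, 2], [0, 1], [0, 2], [], [0, 2], [], [], [0, 2], [0, 2], [0, 1], [0, 2], [0, 2], [1, 2], [2], [0, 1, 2], [0, 2], [0, 2], [], [1], [1], [2], [0], [], [0, 1], [0, 1, 2], [0, 1], [2], [0], [0, 1], [1, 2], [1, 2], [1,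 2], [], [1], [2], [], [1, 2], [2], [0, 2], [0], [], [], [], [0], [0, 1], [1, 2], [], [], [0, 2], [2], [0, 2], [0], [0, 1], [0], [0], [], [0], [1], [], [], [0, 1], [1], [2], [2], [2], [2], [0], [], [0, 1, 2], [], [0], [], [2], [1], [], [2], [0]]

/-- layer -/
def tri1L6P2 : List (List ℕ) := [[1, 2], [], [1, 2], [], [0, 1, 2], [0, 1], [], [1, 2], [2], [0, 1], [2], [0], [1], [0], [1], [], [0, 1], [1], [], [0], [1, 2], [0], [0], [0]]

/-- layer -/
def tri1L7P0 : List (List ℕ) := [[0, 2], [0], [0, 1], [], [0, 2], [1], [1], [0], [2], [], [], [0], [2], [0], [1, 2], [1, 2], [], [0, 2], [2], [0, 1], [0], [2], [0, 1], [], [], [1], [2], [1], [2], [1], [], [], [], [], [2], [], [2], [], [], [], [1, 2], [1], [], [], [], [2], [2], [0, 2], [0, 1, 2], [0, 1, 2], [2], [1, 2], [1], [2], [2], [1], [0, 2], [], [], [0], [], [2], [0], [0], [2], [], [2], [1, 2], [], [], [], [0], [], [2], [], [], [2], [2], [], [0], [], [0, 1, 2], [], [1,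 2], [0, 1], [1], [2], [], [0], [], [], [0], [0, 1], [0, 2], [], [0, 1], [2], [], [], [0, 2], [], [], [2], [2], [], [], [], [], [], [2], [], [], [], [1, 2], [2], [], [2], [1], [], [1], [], [], [0, 1, 2], [1], [0, 2], [], [], [0]]

/-- layer -/
def tri1L7P1 : List (List ℕ) := [[0], [], [2], [], [], [], [2], [], [], [], [], [1], [], [0], [2], [2], [1], [], [], [], [2], [2], [], [], [0, 2], [0, 1, 2], [], [1, 2], [], [2], [1], [1], [0], [], [0], [], [], [1], [1], [0], [], [], [0, 1], [], [], [1], [], [0], [2], [1], [0], [], [], [], [1], [2], [], [2], [], [0], [], [2], [1], [], [2], [1], [], [0], [0, 1, 2], [], [], [], [], [0], [0], [], [], [], [2], [2], [], [], [], [], [], [], [2], [], [2], [2], [], [2], [2], [], [], [], [2], [], [], [], [], [], [], [], [], [0, 2], [], [0], [], [0, 1], [0], [], [1], [], [], [], [], [], [0], [2], [0, 1], [1], [2], [], [], [1], [2], []]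

/-- layer -/
def tri1L7P2 : List (List ℕ) := [[0], [], [0], [], [], [0], [0, 1], [], [], [], [], [0], [], [0], [], [], [], [], [0, 1], [], [], [], [], [], [1], [], [], [2], [], [], [], [], [0, 1], [], [], [], [1], [], [], [2], [], [0], [], [0], [2], [], [2], [], [], [], [], [], [], [], [], [], [], [0], [], [], [0], [], [0, 2], [], [0], [], [0], [], [], [1], [], [], [], [], [1], [], [], [], [], [], [], [], [2], [], [], [], [0], [], [1], [], [], [], [0], [], [2], [], [], [1], [], [], [], [1], [], [], [], [], [], [], [], [], [], [], [0], [], [], [], [0], [], [], [], [], [2], [], [], [], [], [], []]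

/-- layer -/
def tri1L7P3 : List (List ℕ) := [[], [], [], [], [], [0]]

/-- layer -/
def tri1L8P0 : List (List ℕ) := [[2], [], [], [], [], [], [], [], [], [2], [1], [0], [], [], [], [], [], [], [], [], [], [], [], [0], [], [], [], [], [], [], [2], [], [], [0], [], [], [], [], [], [], [], [], [], [], [], [], [], [2], [], [], [], [], [], [], [], [], [], [], [], [], [], [], [], [], [], [], [], [], [], [], [], [], [2], [], [], [], [], [], [], [], [0], [], [], [], [], [], [], [], [], [], [], [], [], [], [], [], [], [], [], [], [], [], [], [], [], [], [], [], [], [], [], [], [], [], [], [], [], [], [], [], [], [], [], [], [], [], [], []]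

/-- layer -/
def tri1L8P1 : List (List ℕ) := [[], [], [], [], [], [], [], [], [], [], [], [], [], [], [], [], [], [], [], [], [], [], [], [], [], [], [], [], [], [], [], [], [], [], [], [], [], [], [], [], [], [], [], [], [], [], [], [2], [], [], [], [], [], [], [], [], [], [], [], [], [], [], [], [], [], [], [], [], [], [], [], [], [], [], [], [], [], [], [], [], [], [], [], []]

/-- layers -/
def tri1 : List (List (List ℕ)) := [tri1L0P0, tri1L1P0, tri1L2P0, tri1L3P0, tri1L4P0, tri1L5P0 ++ tri1L5P1, tri1L6P0 ++ tri1L6P1 ++ tri1L6P2, tri1L7P0 ++ tri1L7P1 ++ tri1L7P2 ++ tri1L7P3, tri1L8P0 ++ tri1L8P1]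

/-- generators -/
def triGens : List ℕ := [795019019458115094893199712985382946, 962223308431878189186809386174122016, 603914702170466412314643344100165633]

/-- layer -/
def duo0L0P0 : List (List ℕ) := [[0, 1, 3]]

/-- layer -/
def duo0L1P0 : List (List ℕ) := [[3], [1], [3]]

/-- layer -/
def duo0L2P0 : List (List ℕ) := [[0, 3], [0, 1, 3], [0, 1, 3]]

/-- layer -/
def duo0L3P0 : List (List ℕ) := [[1], [0, 1, 3], [], [0, 3], [0], [1], [0, 1], [0, 1, 3]]

/-- layer -/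
def duo0L4P0 : List (List ℕ) := [[1], [], [1, 3], [0, 3], [], [0], [], [1], [1], [], [1], [3], []]

/-- layer -/
def duo0L5P0 : List (List ℕ) := [[0], [1], [], [], [], [], [], [], [], []]

/-- layers -/
def duo0 : List (List (List ℕ)) := [duo0L0P0, duo0L1P0, duo0L2P0, duo0L3P0, duo0L4P0, duo0L5P0]

/-- layer -/
def duo1L0P0 : List (List ℕ) := [[0, 1, 3]]

/-- layer -/
def duo1L1P0 : List (List ℕ) := [[3], [0, 3], [0, 3]]

/-- layer -/
def duo1L2P0 : List (List ℕ) := [[0, 1, 3], [], [0, 3], [1], [1, 3]]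

/-- layer -/
def duo1L3P0 : List (List ℕ) := [[1], [3], [1], [1], [1], [0], [0, 3], [1]]

/-- layer -/
def duo1L4P0 : List (List ℕ) := [[], [1], [], [0], [], [], [1], [1], []]

/-- layers -/
def duo1 : List (List (List ℕ)) := [duo1L0P0, duo1L1P0, duo1L2P0, duo1L3P0, duo1L4P0]

/-- layer -/
def duo2L0P0 : List (List ℕ) := [[0, 1, 3]]

/-- layer -/
def duo2L1P0 : List (List ℕ) := [[1, 3], [0, 1, 3], [0, 3]]

/-- layer -/
def duo2L2P0 : List (List ℕ) := [[0, 1, 3], [1, 3], [1], [0, 1, 3], [0, 1, 3], [1], [0, 3]]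

/-- layer -/
def duo2L3P0 : List (List ℕ) := [[1], [0, 3], [1], [0, 1, 3], [0, 1, 3], [0, 1, 3], [1], [0, 3], [1], [1], [1, 3], [0, 1, 3], [1, 3], [1], [0, 1]]

/-- layer -/
def duo2L4P0 : List (List ℕ) := [[0, 3], [1], [1], [3], [1], [1, 3], [0, 1], [1], [0, 3], [1], [], [0, 1, 3], [], [0, 3], [1], [0, 1, 3], [1, 3], [0, 1, 3], [0, 1, 3], [0, 1, 3], [], [0, 1, 3], [], [3], [3], [0, 1], [1], [1, 3]]

/-- layer -/
def duo2L5P0 : List (List ℕ) := [[1], [], [0], [3], [3], [1], [0, 3], [], [], [1], [0, 3], [1], [0, 1, 3], [0, 1, 3], [1], [0, 3], [3], [], [3], [1], [], [0, 1, 3], [1], [1], [], [1], [1, 3], [], [], [0], [3], [], [], [0, 3], [1], [1], [3], [1], [], [1], [], [], [], [3]]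

/-- layer -/
def duo2L6P0 : List (List ℕ) := [[0], [1], [], [], [0, 3], [1], [], [], [1], [], [0, 1], [], [3], [], [1], [1], [3], [], [], [3], [], [], [1], [], [1], [], [3], [3], [], [], [3], [], [], [1], [], [], [], [], [], [], []]

/-- layer -/
def duo2L7P0 : List (List ℕ) := [[], [0], [1], [], [], [], [], [], [], [], [], [], [], [], [], [], [], [], []]

/-- layers -/
def duo2 : List (List (List ℕ)) := [duo2L0P0, duo2L1P0, duo2L2P0, duo2L3P0, duo2L4P0, duo2L5P0, duo2L6P0, duo2L7P0]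

/-- generators -/
def duoGens : List ℕ := [545766190296861263077001136183543840, 344540764984721189148313882896436256, 984818244535754528103549039458486304, 442875899279823482472877079246474272]

end Cfsg.Agent.M24.SmallOrb
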