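import Cfsg.Agent.M24.Simple
import Cfsg.Prelude.Def_Spor_Mathieu

/-!
The named Mathieu groups in the coordinates of this library.
-/

set_option autoImplicit false

namespace Cfsg.Agent.M24

open scoped Pointwise

theorem smul_toSet_of_testBit {g : Equiv.Perm GolayPt} {m : ℕ}
    (h : ∀ x, m.testBit (ix (g x)) = m.testBit (ix x)) : g • toSet m = toSet m := by
  ext x
  rw [← Finset.inv_smul_mem_iff, mem_toSet, mem_toSet, Equiv.Perm.smul_def]
  have := h (g⁻¹ x)
  rw [show g (g⁻¹ x) = x from Equiv.apply_symm_apply g x] at this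
  rw [← this]

theorem squareDodecad_eq : Spor.squareDodecad = toSet dod0 := by decide +kernel

theorem spor_M12_eq : Spor.M12 = fixAll [dod0] := by
  ext g
  simp [Spor.M12, mem_fixAll, squareDodecad_eq]

theorem some_zero_eq : (some 0 : GolayPt) = pt 0 := by decide +kernel

theorem none_eq : (none : GolayPt) = pt 23 := by decide +kernel

theorem spor_M11_eq : Spor.M11 = fixAll [1, dod0] := by
  ext g
  rw [Spor.M11, spor_M12_eq, Subgroup.mem_inf, MulAction.mem_stabilizer_iff, some_zero_eq,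
    Equiv.Perm.smul_def, ← smul_toSet_two_pow_iff (i := 0) (j := 0) g (by norm_num) (by norm_num)]
  simp only [mem_fixAll, List.forall_mem_cons, pow_zero]
  exact ⟨fun h => ⟨h.1.1, h.2, h.1.2⟩, fun h => ⟨⟨h.1, h.2.2⟩, h.2.1⟩⟩

theorem exists_conj_M23 : ∃ g : Equiv.Perm GolayPt,
    ∀ v, v ∈ Spor.M23 ↔ g⁻¹ * v * g ∈ fixAll [1] := by
  obtain ⟨g, hg, hp⟩ := exists_map_pts (n := 1) (by norm_num) ![pt 0] ![pt 23]
    (Function.injective_of_subsingleton _) (Function.injective_of_subsingleton _)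
  have hp : g (pt 0) = pt 23 := hp 0
  refine ⟨g, fun v => ?_⟩
  simp only [Spor.M23, Subgroup.mem_inf, MulAction.mem_stabilizer_iff, Equiv.Perm.smul_def, none_eq,
    mem_fixAll, List.forall_mem_singleton]
  rw [show (1 : ℕ) = 2 ^ 0 from rfl, smul_toSet_two_pow_iff _ (by norm_num) (by norm_num),
    Equiv.Perm.mul_apply, Equiv.Perm.mul_apply, hp, Equiv.Perm.inv_eq_iff_eq, hp]
  refine and_congr_left fun _ => ⟨fun h => M24.mul_mem (M24.mul_mem (M24.inv_mem hg) h) hg, fun h => ?_⟩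
  simpa [mul_assoc] using M24.mul_mem (M24.mul_mem hg h) (M24.inv_mem hg)

theorem exists_conj_M22 : ∃ g : Equiv.Perm GolayPt,
    ∀ v, v ∈ Spor.M22 ↔ g⁻¹ * v * g ∈ fixAll [2, 1] := by
  obtain ⟨g, hg, hp⟩ := exists_map_pts (n := 2) (by norm_num) ![pt 0, pt 1] ![pt 23, pt 0]
    (by decide +kernel) (by decide +kernel)
  have hp1 : g (pt 1) = pt 0 := hp 1
  have hp : g (pt 0) = pt 23 := hp 0
  refine ⟨g, fun v => ?_⟩
  simp only [Spor.M22, Spor.M23, Subgroup.mem_inf, MulAction.mem_stabilizer_iff, Equiv.Perm.smul_def,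
    none_eq, some_zero_eq, mem_fixAll, List.forall_mem_cons, List.not_mem_nil, false_imp_iff,
    implies_true, and_true]
  rw [show toSet 1 = toSet (2 ^ 0) from rfl, show toSet 2 = toSet (2 ^ 1) from rfl,
    smul_toSet_two_pow_iff _ (by norm_num) (by norm_num),
    smul_toSet_two_pow_iff _ (by norm_num) (by norm_num)]
  simp only [Equiv.Perm.mul_apply, hp, hp1, Equiv.Perm.inv_eq_iff_eq, and_assoc]
  constructor
  · exact fun ⟨h, a, b⟩ => ⟨M24.mul_mem (M24.mul_mem (M24.inv_mem hg) h) hg, b, a⟩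
  · exact fun ⟨h, b, a⟩ => ⟨by simpa [mul_assoc] using M24.mul_mem (M24.mul_mem hg h) (M24.inv_mem hg), a, b⟩

end Cfsg.Agent.M24
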