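import Cfsg.Agent.M24.Twisted
import Mathlib.GroupTheory.Sylow

/-!
Sylow subgroups of stabilisers in `Cfsg.M24` built as towers of lists of packed permutations.
-/

set_option autoImplicit false

namespace Cfsg.Agent.M24

open scoped Pointwise

/-- Pack a list of images. -/
def packL : List ℕ → ℕ
  | [] => 0
  | x :: l => x + 32 * packL l

theorem papp_packL : ∀ (l : List ℕ), (∀ x ∈ l, x < 32) → ∀ j, papp (packL l) j = l.getD j 0
  | [], _, j => by simp [packL, papp]
  | x :: l, h, 0 => by
    have := h x List.mem_cons_self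
    simp [packL, papp]
    omega
  | x :: l, h, j + 1 => by
    have hx := h x List.mem_cons_self
    have ih := papp_packL l (fun y hy => h y (List.mem_cons_of_mem _ hy)) j
    simp only [papp, Nat.shiftRight_eq_div_pow] at ih ⊢
    rw [show 5 * (j + 1) = 5 + 5 * j by ring, pow_add, ← Nat.div_div_eq_div_mul,
      show packL (x :: l) / 2 ^ 5 = packL l by simp only [packL]; omega]
    simpa using ih

/-- Packed composition. -/
def pmul (a b : ℕ) : ℕ := packL ((List.range 24).map fun i => papp a (papp b i))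

theorem papp_pmul {a b i : ℕ} (hi : i < 24) : papp (pmul a b) i = papp a (papp b i) := by
  rw [pmul, papp_packL _ (fun x hx => by
    simp only [List.mem_map] at hx
    obtain ⟨j, -, rfl⟩ := hx
    exact Nat.mod_lt _ (by norm_num))]
  rw [List.getD_eq_getElem _ _ (by simpa using hi)]
  simp

theorem toPerm_pmul {a b : ℕ} (ha : okPerm a = true) (hb : okPerm b = true)
    (hab : okPerm (pmul a b) = true) : toPerm (pmul a b) = toPerm a * toPerm b :=
  Equiv.ext fun x => by
    rw [Equiv.Perm.mul_apply, toPerm_apply hab, toPerm_apply hb,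
      toPerm_pt ha (okPerm_lt hb (ix_lt x)), papp_pmul (ix_lt x)]

/-- The identity, packed. -/
def pone : ℕ := packL (List.range 24)

theorem okPerm_pone : okPerm pone = true := by decide +kernel

theorem toPerm_pone : toPerm pone = 1 := Equiv.ext fun x => by
  rw [toPerm_apply okPerm_pone]
  show pt (papp pone (ix x)) = x
  have : ∀ i < 24, papp pone i = i := by decide +kernel
  rw [this _ (ix_lt x), pt_ix]

/-- Powers of a packed permutation. -/
def ppow (t : ℕ) : ℕ → ℕ
  | 0 => pone
  | n + 1 => pmul t (ppow t n)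

/-- Membership as permutations. -/
def inL (x : ℕ) (L : List ℕ) : Bool :=
  L.any fun y => (List.range 24).all fun i => papp x i == papp y i

/-- One step of a tower. -/
def towerNext (p t : ℕ) (L : List ℕ) : List ℕ :=
  (List.range p).flatMap fun i => L.map (pmul (ppow t i))

/-- The final list of a tower. -/
def towerList (p : ℕ) : List ℕ → List ℕ
  | [] => [pone]
  | t :: ts => towerNext p t (towerList p ts)

/-- Checks on a tower; the new generator is first. -/
def towerOk (fx : List ℕ) (p : ℕ) : List ℕ → Bool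
  | [] => true
  | t :: ts => towerOk fx p ts && autB t && fx.all (fun m => pimg t m == m) &&
    (List.range (p + 1)).all (fun i => okPerm (ppow t i)) &&
    (towerNext p t (towerList p ts)).all okPerm &&
    inL (ppow t p) (towerList p ts) &&
    (List.range p).all (fun i => i == 0 || !inL (ppow t i) (towerList p ts)) &&
    ts.all fun s => (towerList p ts).any fun y => commB t s y t

/-- A list is exactly a subgroup. -/
def Carries (L : List ℕ) (K : Subgroup (Equiv.Perm GolayPt)) : Prop :=
  (∀ x ∈ L, okPerm x = true ∧ toPerm x ∈ K) ∧ ∀ g ∈ K, ∃ x ∈ L, toPerm x = g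

theorem toPerm_of_inL {x : ℕ} {L : List ℕ} (hx : okPerm x = true) (hL : ∀ y ∈ L, okPerm y = true)
    (h : inL x L = true) : ∃ y ∈ L, toPerm y = toPerm x := by
  simp only [inL, List.any_eq_true, List.all_eq_true, List.mem_range, beq_iff_eq] at h
  obtain ⟨y, hy, he⟩ := h
  exact ⟨y, hy, Equiv.ext fun i => by
    rw [toPerm_apply (hL y hy), toPerm_apply hx, he _ (ix_lt i)]⟩

theorem inL_of_eq {x y : ℕ} {L : List ℕ} (hx : okPerm x = true) (hy : okPerm y = true) (hyL : y ∈ L)
    (e : toPerm y = toPerm x) : inL x L = true := by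
  simp only [inL, List.any_eq_true, List.all_eq_true, List.mem_range, beq_iff_eq]
  refine ⟨y, hyL, fun i hi => ?_⟩
  have h := congrArg (fun u : Equiv.Perm GolayPt => ix (u (pt i))) e
  simp only [toPerm_pt hx hi, toPerm_pt hy hi, ix_pt (okPerm_lt hy hi), ix_pt (okPerm_lt hx hi)] at h
  exact h.symm

theorem exists_carries {fx : List ℕ} {p : ℕ} (hp : 0 < p) : ∀ ts : List ℕ, towerOk fx p ts = true →
    ∃ K : Subgroup (Equiv.Perm GolayPt), K ≤ fixAll fx ∧ Carries (towerList p ts) K ∧
      K = Subgroup.closure {g | ∃ t ∈ ts, g = toPerm t} ∧ Nat.card K = p ^ ts.length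
  | [], _ => by
    refine ⟨⊥, bot_le, ⟨fun x hx => ?_, fun g hg => ?_⟩, by simp, by simp⟩
    · simp only [towerList, List.mem_singleton] at hx
      subst hx
      exact ⟨okPerm_pone, by rw [toPerm_pone]; exact one_mem _⟩
    · rw [Subgroup.mem_bot] at hg
      exact ⟨pone, by simp [towerList], by rw [toPerm_pone, hg]⟩
  | t :: ts, h => by
    classical
    simp only [towerOk, Bool.and_eq_true, List.all_eq_true, beq_iff_eq, List.mem_range, Bool.or_eq_true,
      Bool.not_eq_true', List.any_eq_true] at h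
    obtain ⟨⟨⟨⟨⟨⟨⟨hts, hta⟩, htfx⟩, hpows⟩, hnew⟩, htp⟩, hnot⟩, hnorm⟩ := h
    obtain ⟨K, hKle, ⟨hK1, hK2⟩, hKcl, hKcard⟩ := exists_carries hp ts hts
    have hT := autB_ok hta
    set T := toPerm t with hTdef
    have hTmem : T ∈ fixAll fx :=
      ⟨toPerm_mem hta, fun m hm => by rw [hTdef, ← toSet_pimg hT, htfx m hm]⟩
    have hpow : ∀ i, i ≤ p → toPerm (ppow t i) = T ^ i := by
      intro i
      induction i with
      | zero => intro _; rw [pow_zero]; exact toPerm_pone
      | succ i ih =>
        intro hi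
        rw [pow_succ', ← ih (by omega)]
        exact toPerm_pmul hT (hpows i (by omega)) (hpows (i + 1) (by omega))
    have hTp : T ^ p ∈ K := by
      obtain ⟨y, hy, e⟩ := toPerm_of_inL (hpows p (by omega)) (fun y hy => (hK1 y hy).1) htp
      rw [← hpow p le_rfl, ← e]
      exact (hK1 y hy).2
    have hTn : ∀ i, i < p → i ≠ 0 → T ^ i ∉ K := by
      intro i hi h0 hm
      obtain ⟨y, hy, e⟩ := hK2 _ hm
      rw [← hpow i hi.le] at e
      have := (hnot i hi).resolve_left h0
      rw [inL_of_eq (hpows i (by omega)) (hK1 y hy).1 hy e] at this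
      simp at this
    have hconj : ∀ a ∈ K, T * a * T⁻¹ ∈ K := by
      intro a ha
      rw [hKcl] at ha
      induction ha using Subgroup.closure_induction with
      | mem g hg =>
        obtain ⟨s, hs, rfl⟩ := hg
        obtain ⟨y, hy, hc⟩ := hnorm s hs
        have hsok : okPerm s = true ∧ toPerm s ∈ K := by
          refine ⟨?_, hKcl ▸ Subgroup.subset_closure ⟨s, hs, rfl⟩⟩
          exact sub_ok hts s hs
        rw [commB_mul hT hsok.1 (hK1 y hy).1 hT hc, mul_inv_cancel_right]
        exact (hK1 y hy).2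
      | one => simp
      | mul a b _ _ iha ihb => simpa [mul_assoc] using K.mul_mem iha ihb
      | inv a _ iha => simpa [mul_assoc] using K.inv_mem iha
    let K' := K ⊔ Subgroup.zpowers T
    have hmem : ∀ i < p, ∀ a ∈ K, T ^ i * a ∈ K' := fun i _ a ha =>
      mul_mem (pow_mem (Subgroup.mem_sup_right (Subgroup.mem_zpowers T)) i) (Subgroup.mem_sup_left ha)
    have hnmem : T ∈ Subgroup.normalizer (K : Set (Equiv.Perm GolayPt)) := by
      rw [Subgroup.mem_normalizer_iff]
      intro a
      refine ⟨hconj a, fun ha => ?_⟩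
      have hle : K.map (MulAut.conj T).toMonoidHom ≤ K := by
        rintro _ ⟨b, hb, rfl⟩; exact hconj b hb
      have heq : K.map (MulAut.conj T).toMonoidHom = K :=
        Subgroup.eq_of_le_of_card_ge hle
          (le_of_eq (Nat.card_congr (K.equivMapOfInjective _ (MulAut.conj T).injective).toEquiv))
      rw [← heq] at ha
      obtain ⟨b, hb, e⟩ := ha
      simp at e
      rwa [← e]
    have hcover : ∀ g ∈ K', ∃ i < p, ∃ a ∈ K, g = T ^ i * a := by
      intro g hg
      rw [show (K' : Subgroup (Equiv.Perm GolayPt)) = Subgroup.zpowers T ⊔ K from sup_comm _ _,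
        ← SetLike.mem_coe, Subgroup.coe_mul_of_left_le_normalizer_right _ _ (by
          rw [Subgroup.zpowers_le]; exact hnmem)] at hg
      obtain ⟨u, hu, a, ha, rfl⟩ := hg
      rw [SetLike.mem_coe, ← mem_powers_iff_mem_zpowers] at hu
      obtain ⟨n, rfl⟩ := hu
      refine ⟨n % p, Nat.mod_lt _ hp, (T ^ p) ^ (n / p) * a, K.mul_mem (K.pow_mem hTp _) ha, ?_⟩
      simp only
      rw [← mul_assoc, ← pow_mul, ← pow_add, Nat.mod_add_div]
    refine ⟨K', sup_le hKle (by rw [Subgroup.zpowers_le]; exact hTmem), ⟨fun x hx => ?_, fun g hg => ?_⟩,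
      ?_, ?_⟩
    · have hxok := hnew x hx
      simp only [towerList, towerNext, List.mem_flatMap, List.mem_range, List.mem_map] at hx
      obtain ⟨i, hi, a, ha, rfl⟩ := hx
      refine ⟨hxok, ?_⟩
      rw [toPerm_pmul (hpows i (by omega)) (hK1 a ha).1 hxok, hpow i hi.le]
      exact hmem i hi _ (hK1 a ha).2
    · obtain ⟨i, hi, a, ha, rfl⟩ := hcover g hg
      obtain ⟨x, hx, rfl⟩ := hK2 a ha
      have hin : pmul (ppow t i) x ∈ towerList p (t :: ts) := by
        simp only [towerList, towerNext, List.mem_flatMap, List.mem_range, List.mem_map]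
        exact ⟨i, hi, x, hx, rfl⟩
      exact ⟨_, hin, by rw [toPerm_pmul (hpows i (by omega)) (hK1 x hx).1 (hnew _ hin), hpow i hi.le]⟩
    · show K ⊔ Subgroup.zpowers T = _
      rw [hKcl, Subgroup.zpowers_eq_closure, ← Subgroup.closure_union]
      congr 1
      ext g
      simp only [Set.mem_union, Set.mem_setOf_eq, Set.mem_singleton_iff, List.mem_cons,
        exists_eq_or_imp]
      exact or_comm
    · have e : Nat.card K' = Nat.card (Fin p × K) := by
        refine (Nat.card_congr (Equiv.ofBijective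
          (fun ia : Fin p × K => (⟨T ^ (ia.1 : ℕ) * ia.2, hmem _ ia.1.2 _ ia.2.2⟩ : K')) ⟨?_, ?_⟩)).symm
        · rintro ⟨⟨i, hi⟩, a⟩ ⟨⟨j, hj⟩, b⟩ h
          have h' : T ^ i * (a : Equiv.Perm GolayPt) = T ^ j * b := congrArg Subtype.val h
          have key : i = j := by
            by_contra hne
            rcases Nat.lt_or_gt_of_ne hne with hlt | hlt
            · obtain ⟨d, rfl⟩ := Nat.exists_eq_add_of_lt hlt
              rw [add_assoc, pow_add, mul_assoc, mul_left_cancel_iff] at h'
              exact hTn (d + 1) (by omega) (by omega) (by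
                rw [eq_mul_inv_of_mul_eq h'.symm]; exact K.mul_mem a.2 (K.inv_mem b.2))
            · obtain ⟨d, rfl⟩ := Nat.exists_eq_add_of_lt hlt
              rw [add_assoc, pow_add, mul_assoc, mul_left_cancel_iff] at h'
              exact hTn (d + 1) (by omega) (by omega) (by
                rw [eq_mul_inv_of_mul_eq h']; exact K.mul_mem b.2 (K.inv_mem a.2))
          subst key
          rw [mul_left_cancel_iff] at h'
          exact Prod.ext rfl (Subtype.ext h')
        · rintro ⟨g, hg⟩
          obtain ⟨i, hi, a, ha, rfl⟩ := hcover g hg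
          exact ⟨(⟨i, hi⟩, ⟨a, ha⟩), rfl⟩
      rw [e, Nat.card_prod, Nat.card_fin, hKcard, List.length_cons, pow_succ']
where
  sub_ok {fx : List ℕ} {p : ℕ} : ∀ {ts : List ℕ}, towerOk fx p ts = true → ∀ s ∈ ts, okPerm s = true
    | [], _ => by simp
    | t :: ts, h => by
      simp only [towerOk, Bool.and_eq_true] at h
      exact List.forall_mem_cons.2 ⟨autB_ok h.1.1.1.1.1.1.2, sub_ok h.1.1.1.1.1.1.1⟩

/-- Every `p`-element is conjugate into the tower. -/
theorem exists_conj_tower {fx ts : List ℕ} {p : ℕ} [Fact p.Prime] (h : towerOk fx p ts = true)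
    (hm : Nat.card (fixAll fx) / p ^ ts.length * p ^ ts.length = Nat.card (fixAll fx))
    (hnd : ¬ p ∣ Nat.card (fixAll fx) / p ^ ts.length) {g : Equiv.Perm GolayPt} (hg : g ∈ fixAll fx)
    (hgp : g ^ p = 1) :
    ∃ c ∈ fixAll fx, ∃ x ∈ towerList p ts, okPerm x = true ∧ toPerm x ∈ fixAll fx ∧
      g = c * toPerm x * c⁻¹ := by
  have hp : p.Prime := Fact.out
  obtain ⟨K, hK, ⟨hK1, hK2⟩, -, hcard⟩ := exists_carries hp.pos ts h
  have hfac : (Nat.card (fixAll fx)).factorization p = ts.length := by
    have h0 : Nat.card (fixAll fx) / p ^ ts.length ≠ 0 := fun e => hnd (e ▸ dvd_zero p)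
    rw [← hm, Nat.factorization_mul h0 (pow_ne_zero _ hp.ne_zero), Finsupp.add_apply,
      Nat.factorization_eq_zero_of_not_dvd hnd, Nat.factorization_pow, Finsupp.smul_apply,
      hp.factorization_self, zero_add, smul_eq_mul, mul_one]
  have hK' : Nat.card (K.subgroupOf (fixAll fx)) = p ^ (Nat.card (fixAll fx)).factorization p := by
    rw [hfac, ← hcard]
    exact Nat.card_congr (Subgroup.subgroupOfEquivOfLe hK).toEquiv
  have hpg : IsPGroup p (Subgroup.zpowers (⟨g, hg⟩ : fixAll fx)) := by
    rintro ⟨u, hu⟩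
    rw [← mem_powers_iff_mem_zpowers] at hu
    obtain ⟨n, rfl⟩ := hu
    refine ⟨1, Subtype.ext (Subtype.ext ?_)⟩
    simp only [pow_one, SubmonoidClass.coe_pow, OneMemClass.coe_one]
    rw [← pow_mul, mul_comm, pow_mul, hgp, one_pow]
  obtain ⟨Q, hQ⟩ := hpg.exists_le_sylow
  obtain ⟨c, hc⟩ := MulAction.exists_smul_eq (fixAll fx) (Sylow.ofCard _ hK') Q
  have hgQ := hQ (Subgroup.mem_zpowers _)
  rw [← hc, Sylow.coe_subgroup_smul, Sylow.coe_ofCard, Subgroup.mem_pointwise_smul_iff_inv_smul_mem,
    Subgroup.mem_subgroupOf] at hgQ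
  obtain ⟨x, hx, hxe⟩ := hK2 _ hgQ
  refine ⟨c, c.2, x, hx, (hK1 x hx).1, hK (hK1 x hx).2, ?_⟩
  rw [hxe]
  simp [mul_assoc]

end Cfsg.Agent.M24
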