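import Cfsg.Agent.M24.Sylows
import Cfsg.Agent.M24.Simple

/-!
Class certificates for elements of prime order.
-/

set_option autoImplicit false

namespace Cfsg.Agent.M24

/-- `x ^ p = 1`. -/
def killB (p x : ℕ) : Bool := (List.range 24).all fun i => iterApp x p i == i

theorem killB_of_pow {p x : ℕ} (hx : okPerm x = true) (h : toPerm x ^ p = 1) : killB p x = true := by
  simp only [killB, List.all_eq_true, List.mem_range, beq_iff_eq]
  intro i hi
  obtain ⟨h1, h2⟩ := toPerm_pow_apply hx (pt i) p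
  rw [h, Equiv.Perm.one_apply, ix_pt hi] at h1
  rw [ix_pt hi] at h2
  exact (pt_inj hi h2 h1).symm

/-- `x` is not the identity. -/
def moveB (x : ℕ) : Bool := (List.range 24).any fun i => papp x i != i

theorem moveB_of_ne {x : ℕ} (hx : okPerm x = true) (h : toPerm x ≠ 1) : moveB x = true := by
  by_contra e
  simp only [moveB, List.any_eq_true, List.mem_range, bne_iff_ne, ne_eq, not_exists, not_and,
    Decidable.not_not] at e
  exact h (Equiv.ext fun y => by rw [toPerm_apply hx, e _ (ix_lt y), pt_ix]; rfl)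

/-- Every element of order `p` in the tower is conjugated to a representative. -/
def classOk (fx : List ℕ) (p : ℕ) (ts reps : List ℕ) (cert : List (ℕ × ℕ)) : Bool :=
  reps.all (fun r => autB r && fx.all (fun m => pimg r m == m) && killB p r && moveB r) &&
  (((towerList p ts).filter fun x => killB p x && moveB x).length == cert.length) &&
  (((towerList p ts).filter fun x => killB p x && moveB x).zip cert).all fun xc =>
    decide (xc.2.2 < reps.length) && autB xc.2.1 && fx.all (fun m => pimg xc.2.1 m == m) &&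
      commB xc.2.1 xc.1 (reps.getD xc.2.2 0) xc.2.1

theorem exists_conj_rep {fx ts reps : List ℕ} {cert : List (ℕ × ℕ)} {p : ℕ} [Fact p.Prime]
    (h : towerOk fx p ts = true) (hc : classOk fx p ts reps cert = true)
    (hm : Nat.card (fixAll fx) / p ^ ts.length * p ^ ts.length = Nat.card (fixAll fx))
    (hnd : ¬ p ∣ Nat.card (fixAll fx) / p ^ ts.length) {g : Equiv.Perm GolayPt} (hg : g ∈ fixAll fx)
    (hgp : orderOf g = p) :
    ∃ c ∈ fixAll fx, ∃ r ∈ reps, autB r = true ∧ c * toPerm r * c⁻¹ = g := by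
  have hp : g ^ p = 1 := hgp ▸ pow_orderOf_eq_one g
  obtain ⟨c, hcm, x, hx, hxok, -, rfl⟩ := exists_conj_tower h hm hnd hg hp
  simp only [classOk, Bool.and_eq_true, List.all_eq_true, beq_iff_eq, decide_eq_true_eq] at hc
  obtain ⟨⟨hr, hlen⟩, hz⟩ := hc
  have hxne : toPerm x ≠ 1 := by
    intro e
    rw [e, mul_one, mul_inv_cancel, orderOf_one] at hgp
    exact (Fact.out : p.Prime).ne_one hgp.symm
  rw [conj_pow, conj_eq_one_iff] at hp
  have hxf : x ∈ (towerList p ts).filter fun x => killB p x && moveB x :=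
    List.mem_filter.2 ⟨hx, by simp [killB_of_pow hxok hp, moveB_of_ne hxok hxne]⟩
  obtain ⟨j, hj, hjx⟩ := List.getElem_of_mem hxf
  have hj2 : j < cert.length := hlen ▸ hj
  obtain ⟨⟨⟨h1, h2⟩, h3⟩, h4⟩ := hz _ (List.getElem_mem (l := List.zip _ cert) (n := j)
    (by rw [List.length_zip]; omega))
  simp only [List.getElem_zip, hjx] at h1 h2 h3 h4
  have hrm : reps.getD (cert[j]).2 0 ∈ reps := by
    rw [List.getD_eq_getElem _ _ h1]; exact List.getElem_mem h1
  obtain ⟨⟨⟨hra, -⟩, -⟩, -⟩ := hr _ hrm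
  have hd : toPerm (cert[j]).1 ∈ fixAll fx :=
    ⟨toPerm_mem h2, fun m hm => by rw [← toSet_pimg (autB_ok h2), h3 m hm]⟩
  refine ⟨c * (toPerm (cert[j]).1)⁻¹, (fixAll fx).mul_mem hcm ((fixAll fx).inv_mem hd), _, hrm, hra, ?_⟩
  have e := commB_mul (autB_ok h2) hxok (autB_ok hra) (autB_ok h2) h4
  calc c * (toPerm (cert[j]).1)⁻¹ * toPerm (reps.getD (cert[j]).2 0) * (c * (toPerm (cert[j]).1)⁻¹)⁻¹
      = c * (toPerm (cert[j]).1)⁻¹ * (toPerm (reps.getD (cert[j]).2 0) * toPerm (cert[j]).1) * c⁻¹ := by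
        group
    _ = c * toPerm x * c⁻¹ := by rw [← e]; group

theorem orderOf_toPerm_rep {fx ts reps : List ℕ} {cert : List (ℕ × ℕ)} {p : ℕ} [Fact p.Prime]
    (hc : classOk fx p ts reps cert = true) {r : ℕ} (hr : r ∈ reps) :
    orderOf (toPerm r) = p ∧ toPerm r ∈ fixAll fx := by
  simp only [classOk, Bool.and_eq_true, List.all_eq_true, beq_iff_eq] at hc
  obtain ⟨⟨⟨ha, hfix⟩, hk⟩, hm⟩ := hc.1.1 r hr
  refine ⟨orderOf_eq_prime (Equiv.ext fun y => ?_) fun e => ?_,
    toPerm_mem ha, fun m hm => by rw [← toSet_pimg (autB_ok ha), hfix m hm]⟩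
  · obtain ⟨h1, -⟩ := toPerm_pow_apply (autB_ok ha) y p
    simp only [killB, List.all_eq_true, List.mem_range, beq_iff_eq] at hk
    rw [h1, hk _ (ix_lt y), pt_ix]; rfl
  · simp only [moveB, List.any_eq_true, List.mem_range, bne_iff_ne, ne_eq] at hm
    obtain ⟨i, hi, hne⟩ := hm
    have h := congrArg (fun u : Equiv.Perm GolayPt => ix (u (pt i))) e
    simp only [toPerm_pt (autB_ok ha) hi, Equiv.Perm.one_apply, ix_pt hi,
      ix_pt (okPerm_lt (autB_ok ha) hi)] at h
    exact hne h

theorem conj_fix {c g : Equiv.Perm GolayPt} (y : GolayPt) :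
    (c * g * c⁻¹) (c y) = c y ↔ g y = y := by simp

theorem card_fix_conj (c g : Equiv.Perm GolayPt) :
    (Finset.univ.filter fun p => (c * g * c⁻¹) p = p).card = (Finset.univ.filter fun p => g p = p).card := by
  refine Finset.card_equiv c⁻¹ fun y => ?_
  rw [Finset.mem_filter, Finset.mem_filter]
  simp [Equiv.Perm.inv_def, Equiv.eq_symm_apply]

end Cfsg.Agent.M24
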