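import Cfsg.Agent.M24.Orders

/-!
Certified searches for the elements of a stabiliser in `Cfsg.M24` conjugating one permutation to another,
and straight-line programs inside such a stabiliser.
-/

set_option autoImplicit false

namespace Cfsg.Agent.M24

open scoped Pointwise

/-- The points of a cycle paired with their images. -/
def orbitPairs (a a2 : ℕ) : ℕ → ℕ → ℕ → List (ℕ × ℕ)
  | _, _, 0 => []
  | x, y, n + 1 => (x, y) :: orbitPairs a a2 (papp a x) (papp a2 y) n

/-- The points of a cycle. -/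
def orbitPts (a : ℕ) : ℕ → ℕ → List ℕ
  | _, 0 => []
  | x, n + 1 => x :: orbitPts a (papp a x) n

theorem map_fst_orbitPairs (a a2 : ℕ) :
    ∀ (n x y : ℕ), (orbitPairs a a2 x y n).map Prod.fst = orbitPts a x n
  | 0, _, _ => rfl
  | n + 1, x, y => by simp [orbitPairs, orbitPts, map_fst_orbitPairs a a2 n]

/-- Mask of a list of points. -/
def listMask (l : List ℕ) : ℕ := l.foldr (fun i m => 2 ^ i ||| m) 0

theorem testBit_listMask (k : ℕ) : ∀ l : List ℕ, (listMask l).testBit k = true ↔ k ∈ l
  | [] => by simp [listMask]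
  | i :: l => by
    have := testBit_listMask k l
    simp only [listMask] at this
    simp only [listMask, List.foldr_cons, Nat.testBit_or, Nat.testBit_two_pow, Bool.or_eq_true,
      decide_eq_true_eq, this, List.mem_cons]
    exact or_congr ⟨Eq.symm, Eq.symm⟩ Iff.rfl

/-- Duplicate free test. -/
def nodupB : List ℕ → Bool
  | [] => true
  | x :: l => !l.contains x && nodupB l

theorem nodupB_of_nodup : ∀ {l : List ℕ}, l.Nodup → nodupB l = true
  | [], _ => rfl
  | x :: l, h => by
    rw [List.nodup_cons] at h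
    simp [nodupB, h.1, nodupB_of_nodup h.2]

/-- Image of `w` under a partial map. -/
def pairsImg (ps : List (ℕ × ℕ)) (w : ℕ) : ℕ :=
  listMask ((ps.filter fun xy => w.testBit xy.1).map Prod.snd)

/-- `w` shows that the partial map does not preserve the code. -/
def badWord (ps : List (ℕ × ℕ)) (w : ℕ) : Bool :=
  (w &&& listMask (ps.map Prod.fst)) == w && !inCode (pairsImg ps w)

/-- Exhaustive search for images of the cycle representatives. -/
def twSearch (fx : List ℕ) (a a2 : ℕ) (W sols : List ℕ) :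
    List (ℕ × ℕ) → List (ℕ × ℕ) → Bool
  | pairs, [] => sols.any fun s => pairs.all fun xy => papp s xy.1 == xy.2
  | pairs, (r, l) :: rest => (List.range 24).all fun y =>
      (fx.any fun m => m.testBit y != m.testBit r) ||
      !nodupB ((pairs ++ orbitPairs a a2 r y l).map Prod.snd) ||
      W.any (badWord (pairs ++ orbitPairs a a2 r y l)) ||
      twSearch fx a a2 W sols (pairs ++ orbitPairs a a2 r y l) rest

/-- All points of the cycles. -/
def allPts (a : ℕ) (R : List (ℕ × ℕ)) : List ℕ := R.flatMap fun rl => orbitPts a rl.1 rl.2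

/-- A complete search certificate. -/
def twOk (fx : List ℕ) (a a2 : ℕ) (R : List (ℕ × ℕ)) (W : List ℕ) (ST : List (ℕ × List ℕ))
    (sols : List ℕ) : Bool :=
  okPerm a && okPerm a2 && R.all (fun rl => decide (rl.1 < 24)) && nodupB (allPts a R) &&
    W.all inCode && sols.all (fun s => autB s) && chainOk (listMask (allPts a R)) ST &&
    twSearch fx a a2 W sols [] R

/-- `ps` is part of the graph of `g`. -/
def Graph (g : Equiv.Perm GolayPt) (ps : List (ℕ × ℕ)) : Prop :=
  ∀ xy ∈ ps, xy.1 < 24 ∧ ix (g (pt xy.1)) = xy.2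

theorem graph_orbitPairs {g : Equiv.Perm GolayPt} {a a2 : ℕ} (ha : okPerm a = true)
    (ha2 : okPerm a2 = true) (hg : g * toPerm a = toPerm a2 * g) :
    ∀ n x, x < 24 → Graph g (orbitPairs a a2 x (ix (g (pt x))) n)
  | 0, _, _ => by simp [Graph, orbitPairs]
  | n + 1, x, hx => by
    have h : ix (g (pt (papp a x))) = papp a2 (ix (g (pt x))) := by
      have := congrArg (fun u : Equiv.Perm GolayPt => ix (u (pt x))) hg
      simp only [Equiv.Perm.mul_apply, toPerm_pt ha hx, toPerm_apply ha2] at this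
      rwa [ix_pt (okPerm_lt ha2 (ix_lt _))] at this
    refine List.forall_mem_cons.2 ⟨⟨hx, rfl⟩, ?_⟩
    rw [← h]
    exact graph_orbitPairs ha ha2 hg n _ (okPerm_lt ha hx)

theorem inCode_pairsImg {g : Equiv.Perm GolayPt} (hg : g ∈ M24) {ps : List (ℕ × ℕ)}
    (hps : Graph g ps) {w : ℕ} (hw : inCode w = true)
    (hsub : w &&& listMask (ps.map Prod.fst) = w) : inCode (pairsImg ps w) = true := by
  have hs : g • toSet w ∈ supports (golayCode : Set (GolayPt → ZMod 2)) :=
    (smul_mem_supports hg).2 (mem_supports_iff.2 (by rw [toMask_toSet (inCode_lt hw)]; exact hw))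
  have heq : toMask (g • toSet w) = pairsImg ps w := by
    apply Nat.eq_of_testBit_eq
    intro k
    rw [Bool.eq_iff_iff, pairsImg, testBit_listMask]
    simp only [List.mem_map, List.mem_filter]
    constructor
    · intro hk
      have hk24 : k < 24 := by
        by_contra h
        have h2 : (2 : ℕ) ^ 24 ≤ 2 ^ k := Nat.pow_le_pow_right (by norm_num) (by omega)
        rw [Nat.testBit_lt_two_pow ((toMask_lt _).trans_le h2)] at hk
        exact Bool.false_ne_true hk
      rw [testBit_toMask _ hk24, decide_eq_true_eq, Finset.mem_smul_finset] at hk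
      obtain ⟨x, hx, hxk⟩ := hk
      rw [mem_toSet] at hx
      have hx2 : (listMask (ps.map Prod.fst)).testBit (ix x) = true := by
        have : (w &&& listMask (ps.map Prod.fst)).testBit (ix x) = true := by rw [hsub]; exact hx
        rw [Nat.testBit_and, Bool.and_eq_true] at this
        exact this.2
      rw [testBit_listMask, List.mem_map] at hx2
      obtain ⟨xy, hxy, he⟩ := hx2
      refine ⟨xy, ⟨hxy, by rw [he]; exact hx⟩, ?_⟩
      rw [← (hps xy hxy).2, he, pt_ix, ← Equiv.Perm.smul_def, hxk, ix_pt hk24]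
    · rintro ⟨xy, ⟨hxy, hb⟩, rfl⟩
      obtain ⟨h1, h2⟩ := hps xy hxy
      rw [← h2, testBit_toMask _ (ix_lt _), pt_ix, decide_eq_true_eq]
      exact (mem_smul_toSet' g h1 w).2 hb
  rw [← heq]
  exact mem_supports_iff.1 hs
where
  mem_smul_toSet' (g : Equiv.Perm GolayPt) {i : ℕ} (hi : i < 24) (m : ℕ) :
      g (pt i) ∈ g • toSet m ↔ m.testBit i = true := by
    rw [← Equiv.Perm.smul_def, Finset.smul_mem_smul_finset_iff, mem_toSet, ix_pt hi]

theorem twSearch_sound {fx W sols : List ℕ} {a a2 : ℕ} (ha : okPerm a = true) (ha2 : okPerm a2 = true)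
    (hW : ∀ w ∈ W, inCode w = true) {g : Equiv.Perm GolayPt} (hg : g ∈ fixAll fx)
    (hrel : g * toPerm a = toPerm a2 * g) :
    ∀ (R pairs : List (ℕ × ℕ)), (∀ rl ∈ R, rl.1 < 24) → Graph g pairs →
      (pairs.map Prod.fst ++ allPts a R).Nodup → twSearch fx a a2 W sols pairs R = true →
      ∃ s ∈ sols, ∀ x ∈ pairs.map Prod.fst ++ allPts a R, x < 24 ∧ papp s x = ix (g (pt x))
  | [], pairs, _, hp, _, h => by
    simp only [twSearch, List.any_eq_true, List.all_eq_true, beq_iff_eq] at h
    obtain ⟨s, hs, hsp⟩ := h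
    refine ⟨s, hs, fun x hx => ?_⟩
    simp only [allPts, List.flatMap_nil, List.append_nil, List.mem_map] at hx
    obtain ⟨xy, hxy, rfl⟩ := hx
    exact ⟨(hp xy hxy).1, by rw [hsp xy hxy, (hp xy hxy).2]⟩
  | (r, l) :: rest, pairs, hR, hp, hnd, h => by
    simp only [twSearch, List.all_eq_true, List.mem_range, Bool.or_eq_true] at h
    have hr : r < 24 := hR _ List.mem_cons_self
    set y := ix (g (pt r)) with hy
    set ps := pairs ++ orbitPairs a a2 r y l with hps
    have hgr : Graph g ps := fun xy hxy => (List.mem_append.1 hxy).elim (hp xy)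
      (graph_orbitPairs ha ha2 hrel l r hr xy)
    have hkeys : ps.map Prod.fst ++ allPts a rest = pairs.map Prod.fst ++ allPts a ((r, l) :: rest) := by
      simp [ps, allPts, map_fst_orbitPairs, List.append_assoc]
    have hnd' : (ps.map Prod.fst ++ allPts a rest).Nodup := by rw [hkeys]; exact hnd
    have hsnd : (ps.map Prod.snd).Nodup := by
      have hfst : (ps.map Prod.fst).Nodup := (List.nodup_append.1 hnd').1
      have he : ps.map Prod.snd = (ps.map Prod.fst).map fun x => ix (g (pt x)) := by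
        rw [List.map_map]
        exact List.map_congr_left fun xy hxy => (hgr xy hxy).2.symm
      rw [he]
      refine hfst.map_on fun u hu v hv e => ?_
      obtain ⟨xu, hxu, rfl⟩ := List.mem_map.1 hu
      obtain ⟨xv, hxv, rfl⟩ := List.mem_map.1 hv
      exact pt_inj (hgr xu hxu).1 (hgr xv hxv).1 (g.injective (ix_injective e))
    rcases h y (ix_lt _) with ((h1 | h1) | h1) | h1
    · exfalso
      simp only [List.any_eq_true, bne_iff_ne, ne_eq] at h1
      obtain ⟨m, hm, hne⟩ := h1
      exact hne (by rw [hy, testBit_of_fix hg hm, ix_pt hr])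
    · rw [nodupB_of_nodup hsnd] at h1; simp at h1
    · exfalso
      simp only [List.any_eq_true, badWord, Bool.and_eq_true, beq_iff_eq, Bool.not_eq_true'] at h1
      obtain ⟨w, hw, hsub, hbad⟩ := h1
      rw [inCode_pairsImg hg.1 hgr (hW w hw) hsub] at hbad
      simp at hbad
    · obtain ⟨s, hs, hsx⟩ := twSearch_sound ha ha2 hW hg hrel rest ps
        (fun rl hrl => hR rl (List.mem_cons_of_mem _ hrl)) hgr hnd' h1
      rw [hkeys] at hsx
      exact ⟨s, hs, hsx⟩

theorem tw_complete {fx W sols : List ℕ} {a a2 : ℕ} {R : List (ℕ × ℕ)} {ST : List (ℕ × List ℕ)}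
    (h : twOk fx a a2 R W ST sols = true) {g : Equiv.Perm GolayPt} (hg : g ∈ fixAll fx)
    (hrel : g * toPerm a = toPerm a2 * g) : ∃ s ∈ sols, g = toPerm s := by
  simp only [twOk, Bool.and_eq_true, List.all_eq_true, decide_eq_true_eq] at h
  obtain ⟨⟨⟨⟨⟨⟨⟨ha, ha2⟩, hR⟩, hnd⟩, hW⟩, hsols⟩, hchain⟩, hsearch⟩ := h
  have hnd' : (([] : List (ℕ × ℕ)).map Prod.fst ++ allPts a R).Nodup := by
    simp only [List.map_nil, List.nil_append]
    exact nodup_of_nodupB hnd
  obtain ⟨s, hs, hsx⟩ := twSearch_sound ha ha2 hW hg hrel R [] hR (by simp [Graph]) hnd' hsearch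
  refine ⟨s, hs, ?_⟩
  have hok := autB_ok (hsols s hs)
  have h1 : g⁻¹ * toPerm s = 1 := by
    refine chain_fix (M24.mul_mem (M24.inv_mem hg.1) (toPerm_mem (hsols s hs))) ST _ ?_ hchain
    intro i hi
    rw [mem_toSet, testBit_listMask] at hi
    obtain ⟨-, he⟩ := hsx (ix i) (by simpa using hi)
    rw [Equiv.Perm.mul_apply, toPerm_apply hok, he, pt_ix, Equiv.Perm.inv_eq_iff_eq, pt_ix]
  exact inv_mul_eq_one.1 h1
where
  nodup_of_nodupB : ∀ {l : List ℕ}, nodupB l = true → l.Nodup
    | [], _ => List.nodup_nil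
    | x :: l, h => by
      simp only [nodupB, Bool.and_eq_true, Bool.not_eq_true', List.contains_eq_mem,
        decide_eq_false_iff_not] at h
      exact List.nodup_cons.2 ⟨h.1, nodup_of_nodupB h.2⟩

/-- `p = a ∘ b`. -/
def compB (p a b : ℕ) : Bool :=
  (List.range 24).all fun i => papp p i == papp a (papp b i)

theorem compB_mul {p a b : ℕ} (hp : okPerm p = true) (ha : okPerm a = true) (hb : okPerm b = true)
    (h : compB p a b = true) : toPerm p = toPerm a * toPerm b := by
  simp only [compB, List.all_eq_true, List.mem_range, beq_iff_eq] at h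
  exact Equiv.ext fun x => by
    rw [Equiv.Perm.mul_apply, toPerm_apply hp, toPerm_apply hb,
      toPerm_pt ha (okPerm_lt hb (ix_lt x)), h _ (ix_lt x)]

/-- `a ∘ b = c ∘ d`. -/
def commB (a b c d : ℕ) : Bool :=
  (List.range 24).all fun i => papp a (papp b i) == papp c (papp d i)

theorem commB_mul {a b c d : ℕ} (ha : okPerm a = true) (hb : okPerm b = true) (hc : okPerm c = true)
    (hd : okPerm d = true) (h : commB a b c d = true) :
    toPerm a * toPerm b = toPerm c * toPerm d := by
  simp only [commB, List.all_eq_true, List.mem_range, beq_iff_eq] at h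
  exact Equiv.ext fun x => by
    rw [Equiv.Perm.mul_apply, Equiv.Perm.mul_apply, toPerm_apply hb, toPerm_apply hd,
      toPerm_pt ha (okPerm_lt hb (ix_lt x)), toPerm_pt hc (okPerm_lt hd (ix_lt x)), h _ (ix_lt x)]

/-- A program over given generators; `acc` lists what is known. -/
def slpOk (gens : List ℕ) : List ℕ → List (ℕ × ℕ × ℕ × ℕ) → Bool
  | _, [] => true
  | acc, (k, p, a, b) :: rest => okPerm p && (match k with
      | 0 => gens.contains p
      | 1 => acc.contains a && acc.contains b && compB p a b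
      | _ => acc.contains a && (List.range 24).all fun i => papp a (papp p i) == i) &&
    slpOk gens (p :: acc) rest

theorem slp_mem {gens : List ℕ} {K : Subgroup (Equiv.Perm GolayPt)}
    (hgens : ∀ p ∈ gens, toPerm p ∈ K) :
    ∀ (pr : List (ℕ × ℕ × ℕ × ℕ)) (acc : List ℕ),
      (∀ p ∈ acc, okPerm p = true ∧ toPerm p ∈ K) → slpOk gens acc pr = true →
      ∀ q ∈ pr.map (fun e => e.2.1), okPerm q = true ∧ toPerm q ∈ K
  | [], _, _, _ => by simp
  | (k, p, a, b) :: rest, acc, hacc, h => by
    simp only [slpOk, Bool.and_eq_true] at h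
    obtain ⟨⟨hp, hk⟩, hrest⟩ := h
    have hpm : toPerm p ∈ K := by
      split at hk
      · exact hgens p (List.contains_iff_mem.1 hk)
      · simp only [Bool.and_eq_true, List.contains_iff_mem] at hk
        obtain ⟨⟨hA, hB⟩, hc⟩ := hk
        rw [compB_mul hp (hacc a hA).1 (hacc b hB).1 hc]
        exact mul_mem (hacc a hA).2 (hacc b hB).2
      · simp only [Bool.and_eq_true, List.contains_iff_mem, List.all_eq_true, List.mem_range,
          beq_iff_eq] at hk
        have e : toPerm a * toPerm p = 1 := Equiv.ext fun x => by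
          rw [Equiv.Perm.mul_apply, toPerm_apply hp,
            toPerm_pt (hacc a hk.1).1 (okPerm_lt hp (ix_lt x)), hk.2 _ (ix_lt x), pt_ix]
          rfl
        rw [eq_inv_of_mul_eq_one_right e]
        exact inv_mem (hacc a hk.1).2
    exact List.forall_mem_cons.2 ⟨⟨hp, hpm⟩,
      slp_mem hgens rest _ (List.forall_mem_cons.2 ⟨⟨hp, hpm⟩, hacc⟩) hrest⟩

/-- Check of transversals: `(fixed masks, point, orbit, elements)`. -/
def levelsOk (known : List ℕ) (lv : List (List ℕ × ℕ × List ℕ × List ℕ)) : Bool :=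
  lv.all fun e => decide (e.2.1 < 24) &&
    e.2.2.2.all (fun p => known.contains p && e.1.all fun m => pimg p m == m) &&
    e.2.2.1.all fun y => e.2.2.2.any fun p => papp p e.2.1 == y

theorem level_step {known : List ℕ} {lv : List (List ℕ × ℕ × List ℕ × List ℕ)}
    {K : Subgroup (Equiv.Perm GolayPt)} (hK : K ≤ M24)
    (hknown : ∀ q ∈ known, okPerm q = true ∧ toPerm q ∈ K) (h : levelsOk known lv = true)
    {e : List ℕ × ℕ × List ℕ × List ℕ} (he : e ∈ lv) {g : Equiv.Perm GolayPt} (hg : g ∈ fixAll e.1)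
    (hy : ix (g (pt e.2.1)) ∈ e.2.2.1) : ∃ t ∈ K, t⁻¹ * g ∈ fixAll (2 ^ e.2.1 :: e.1) := by
  simp only [levelsOk, List.all_eq_true, Bool.and_eq_true, decide_eq_true_eq, List.any_eq_true,
    List.contains_iff_mem, beq_iff_eq] at h
  obtain ⟨⟨hi, h1⟩, h2⟩ := h e he
  obtain ⟨p, hp, hpy⟩ := h2 _ hy
  obtain ⟨hpk, hfix⟩ := h1 p hp
  obtain ⟨hok, hmem⟩ := hknown p hpk
  have hf : toPerm p ∈ fixAll e.1 :=
    ⟨hK hmem, fun m hm => by rw [← toSet_pimg hok, hfix m hm]⟩
  obtain ⟨r1, r2⟩ := (fixAll e.1).mul_mem ((fixAll e.1).inv_mem hf) hg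
  refine ⟨toPerm p, hmem, r1, List.forall_mem_cons.2 ⟨(smul_toSet_two_pow_iff _ hi hi).2 ?_, r2⟩⟩
  rw [Equiv.Perm.mul_apply, Equiv.Perm.inv_eq_iff_eq, toPerm_pt hok hi, hpy, pt_ix]

end Cfsg.Agent.M24
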